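import Cfsg.Agent.Classical.Elusive.Linear

/-!
# Elements with a prescribed number of irreducible blocks
-/

set_option autoImplicit false

namespace Cfsg.Agent.Classical.Elusive

open Polynomial Module MatModule

universe u

variable {F : Type u} [Field F] [Fintype F] {r n : ℕ} [Fact r.Prime]

/-- An element of order `r` with fixed space of codimension `i k`, `i` the order of `q` modulo `r`. -/
theorem exists_block (hr : (r : F) ≠ 0) (h1 : orderOf (Fintype.card F : ZMod r) ≠ 1) {k : ℕ}
    (hk1 : 1 ≤ k) (hle : orderOf (Fintype.card F : ZMod r) * k ≤ n) :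
    ∃ x : Matrix.SpecialLinearGroup (Fin n) F,
      ((x ^ r : Matrix.SpecialLinearGroup (Fin n) F) : Matrix (Fin n) (Fin n) F) = (1 : F) • 1 ∧
      finrank F (Module.End.eigenspace (Matrix.toLin' (x : Matrix (Fin n) (Fin n) F)) 1) =
        n - orderOf (Fintype.card F : ZMod r) * k ∧
      ∀ z : F, (x : Matrix (Fin n) (Fin n) F) ≠ z • 1 := by
  classical
  set q := Fintype.card F with hqdef
  set i := orderOf (q : ZMod r) with hidef
  have hi0 : 0 < i := order_pos_of_cast hr
  have hr1 := (Fact.out : r.Prime)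
  have hcyc : (cyclotomic r F).natDegree ≠ 0 := by
    rw [natDegree_cyclotomic, Nat.totient_prime hr1]
    have := hr1.two_le
    omega
  obtain ⟨f, hfm, hfirr, hfdvd⟩ := Polynomial.exists_monic_irreducible_factor (cyclotomic r F)
    (fun hu => hcyc (natDegree_eq_zero_of_isUnit hu))
  have hfne : f ≠ X - C (1 : F) := by
    rintro rfl
    have h2 := eval_eq_zero_of_dvd_of_eval_eq_zero hfdvd (x := (1 : F)) (by simp)
    rw [eval_one_cyclotomic_prime] at h2
    exact hr h2
  have hfd : f ∣ X ^ r - C ((1 : F) ^ r) := by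
    rw [one_pow, map_one, ← cyclotomic_prime_mul_X_sub_one F r]
    exact hfdvd.mul_right _
  have hfdeg : f.natDegree = i := natDegree_factor hfm hfirr one_ne_zero hfd hfne
  set e := n - i * k with hedef
  set s : ULift.{u} (Fin k ⊕ Fin e) → F[X] := fun a => Sum.elim (fun _ => f) (fun _ => X - C 1) a.down
    with hs_def
  have hsm : ∀ a, (s a).Monic := by
    rintro ⟨a | a⟩
    · exact hfm
    · exact monic_X_sub_C 1
  have hprod : ∏ a, s a = f ^ k * (X - C 1) ^ e := by
    rw [← Equiv.ulift.symm.prod_comp, Fintype.prod_sum_type]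
    simp [hs_def]
  have hsum : ∑ a, (s a).natDegree = n := by
    rw [← natDegree_prod _ _ fun a _ => (hsm a).ne_zero, hprod,
      (hfm.pow k).natDegree_mul ((monic_X_sub_C 1).pow e), hfm.natDegree_pow,
      (monic_X_sub_C (1 : F)).natDegree_pow, hfdeg, natDegree_X_sub_C, mul_one]
    rw [hedef, mul_comm k i]; omega
  -- the constant coefficient of the factor has order dividing both `r` and `q - 1`
  have hf0 : (-1 : F) ^ i * f.coeff 0 = 1 := by
    haveI := finite_adjoinRoot f hfm
    set L := AdjoinRoot f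
    have hroot : AdjoinRoot.root f ^ r = (1 : L) := by
      have := AdjoinRoot.mk_eq_zero.2 hfd
      rwa [map_sub, map_pow, AdjoinRoot.mk_X, AdjoinRoot.mk_C, one_pow, map_one, sub_eq_zero] at this
    set δ := LinearMap.det (LinearMap.mulLeft F (AdjoinRoot.root f)) with hδ
    have hδr : δ ^ r = 1 := by
      rw [hδ, ← map_pow, LinearMap.pow_mulLeft, hroot, LinearMap.mulLeft_one]
      exact LinearMap.det_id
    have hδc : δ = (-1) ^ i * f.coeff 0 := by
      rw [hδ, LinearMap.det_eq_sign_charpoly_coeff, charpoly_mulLeft_root f hfm,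
        finrank_adjoinRoot hfm.ne_zero, hfdeg]
    rw [← hδc]
    have hδ0 : δ ≠ 0 := fun h0 => by rw [h0, zero_pow hr1.ne_zero] at hδr; exact zero_ne_one hδr
    have hco : Nat.gcd r (q - 1) = 1 := by
      rw [← Nat.coprime_iff_gcd_eq_one, hr1.coprime_iff_not_dvd]
      intro hd
      rw [← pow_one q, LargeSylow.dvd_sub_iff Fintype.card_pos, ← hidef, Nat.dvd_one] at hd
      exact h1 hd
    have := pow_gcd_eq_one.2 ⟨hδr, FiniteField.pow_card_sub_one_eq_one δ hδ0⟩
    rwa [hco, pow_one] at this
  have hdet : (-1 : F) ^ n * (∏ a, s a).coeff 0 = 1 := by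
    rw [hprod, coeff_zero_eq_eval_zero, eval_mul, eval_pow, eval_pow, ← coeff_zero_eq_eval_zero,
      eval_sub, eval_X, eval_C, zero_sub]
    have hne : n = i * k + e := by omega
    rw [hne, pow_add, pow_mul, mul_mul_mul_comm, ← mul_pow, hf0, one_pow, one_mul, ← mul_pow]
    simp
  obtain ⟨x, Φ, hΦ⟩ := exists_sl_blocks (n := n) s hsm hsum hdet
  have hsdvd : ∀ a, s a ∣ X ^ r - C (1 : F) := by
    rintro ⟨a | a⟩
    · simpa [hs_def] using hfd
    · exact dvd_iff_isRoot.2 (by simp [IsRoot])
  have hpow : (Matrix.toLin' (x : Matrix (Fin n) (Fin n) F)) ^ r =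
      (1 : F) • (1 : Module.End F (Fin n → F)) := by
    have := aeval_eq_zero hΦ (g := X ^ r - C (1 : F)) hsdvd
    rwa [map_sub, map_pow, aeval_X, aeval_C, Algebra.algebraMap_eq_smul_one, sub_eq_zero] at this
  have heig : finrank F (Module.End.eigenspace (Matrix.toLin' (x : Matrix (Fin n) (Fin n) F)) 1) ≤ e := by
    refine (LinearMap.finrank_eigenspace_le _ 1).trans ?_
    rw [charpoly_eq hΦ hsm, hprod, rootMultiplicity_mul (mul_ne_zero (pow_ne_zero _ hfm.ne_zero)
      (pow_ne_zero _ (X_sub_C_ne_zero 1))), rootMultiplicity_X_sub_C_pow,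
      rootMultiplicity_eq_zero, zero_add]
    rw [IsRoot.def, eval_pow]
    refine pow_ne_zero _ fun h2 => hfne (eq_of_monic_of_associated hfm (monic_X_sub_C 1) ?_)
    exact ((irreducible_X_sub_C 1).associated_of_dvd hfirr (dvd_iff_isRoot.2 h2)).symm
  refine ⟨x, ?_, ?_, ?_⟩
  · refine Matrix.toLin'.injective ?_
    rw [Matrix.SpecialLinearGroup.coe_pow, Matrix.toLin'_pow, hpow, map_smul, Matrix.toLin'_one]
    rfl
  · refine le_antisymm heig ?_
    set S := Finset.univ.filter fun a => s a = X - C (1 : F)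
    refine le_trans ?_ (Submodule.finrank_mono (piece_le_eigenspace hΦ (S := S)
      fun a ha => (Finset.mem_filter.1 ha).2))
    rw [finrank_piece hsm]
    calc e = ∑ a : Fin e, (s ⟨Sum.inr a⟩).natDegree := by simp [hs_def, -map_one]
      _ = ∑ a ∈ Finset.univ.image (fun b : Fin e => (⟨Sum.inr b⟩ : ULift.{u} (Fin k ⊕ Fin e))),
            (s a).natDegree := by
        rw [Finset.sum_image]
        intro a _ b _ hab
        simpa using hab
      _ ≤ ∑ a ∈ S, (s a).natDegree := by
        refine Finset.sum_le_sum_of_subset fun a ha => ?_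
        obtain ⟨b, -, rfl⟩ := Finset.mem_image.1 ha
        exact Finset.mem_filter.2 ⟨Finset.mem_univ _, rfl⟩
  · intro z hz
    have hz' : Matrix.toLin' (x : Matrix (Fin n) (Fin n) F) = z • (1 : Module.End F (Fin n → F)) := by
      rw [hz, map_smul, Matrix.toLin'_one]
      rfl
    haveI : Nonempty (Fin n) := ⟨⟨0, lt_of_lt_of_le (Nat.mul_pos hi0 hk1) hle⟩⟩
    rw [hz', _root_.smul_pow, one_pow] at hpow
    have hzr : z ^ r = 1 := smul_left_injective F (one_ne_zero (α := Module.End F (Fin n → F))) hpow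
    have hz0 : z ≠ 0 := fun h0 => by rw [h0, zero_pow hr1.ne_zero] at hzr; exact zero_ne_one hzr
    have hco : Nat.gcd r (q - 1) = 1 := by
      rw [← Nat.coprime_iff_gcd_eq_one, hr1.coprime_iff_not_dvd]
      intro hd
      rw [← pow_one q, LargeSylow.dvd_sub_iff Fintype.card_pos, ← hidef, Nat.dvd_one] at hd
      exact h1 hd
    have hz1 := pow_gcd_eq_one.2 ⟨hzr, FiniteField.pow_card_sub_one_eq_one z hz0⟩
    rw [hco, pow_one] at hz1
    rw [hz', hz1, one_smul] at heig
    have htop : Module.End.eigenspace (1 : Module.End F (Fin n → F)) 1 = ⊤ :=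
      eq_top_iff.2 fun v _ => Module.End.mem_eigenspace_iff.2 (by simp)
    rw [htop, finrank_top, Module.finrank_fin_fun, hedef] at heig
    have : 0 < i * k := Nat.mul_pos hi0 hk1
    omega

end Cfsg.Agent.Classical.Elusive
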