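import Mathlib
import Cfsg.Agent.Classical.QuadBasis
import Cfsg.Agent.Classical.OrthMat
import Cfsg.Prelude.Def_GeometricClasses

/-!
Elements of prime order of orthogonal groups in characteristic two and the non-singular points they fix.
-/

set_option autoImplicit false

namespace Cfsg.Agent.Classical.Elusive.CharTwoPoint

open Module QuadraticMap Cfsg.Agent.Classical.Quad

universe u v

variable {F : Type u} [Field F] [CharP F 2]

theorem eq_one_of_sq {z : F} (h : z * z = 1) : z = 1 := by
  have h1 : (z - 1) ^ 2 = 0 := by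
    rw [sub_pow_char, one_pow, pow_two, h, sub_self]
  exact sub_eq_zero.1 (pow_eq_zero_iff (by norm_num : 2 ≠ 0) |>.1 h1)

section

variable {V : Type v} [AddCommGroup V] [Module F V]

theorem ne_two [Finite F] {n : ℕ} (h : 6 ≤ n) : Nat.card F ≠ 2 ∨ n ≠ 4 := Or.inr (by omega)

theorem dsign_eq_one_of_odd [Finite F] [FiniteDimensional F V] {Q : QuadraticForm F V}
    (hQ : (polarBilin Q).Nondegenerate) (hn : 6 ≤ finrank F V) {φ : oG Q} {r : ℕ} (hr : Odd r)
    (h : φ ^ r = 1) : dsign φ = 1 := by
  have h1 := congrArg (dickson hQ (ne_two (F := F) hn)) h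
  rw [map_pow, map_one] at h1
  obtain ⟨k, rfl⟩ := hr
  rcases Int.units_eq_one_or (dickson hQ (ne_two (F := F) hn) φ) with h2 | h2
  · exact h2
  · rw [h2, Odd.neg_one_pow ⟨k, rfl⟩] at h1
    exact absurd h1 (by decide)

/-- The fixed space of a map of square one is at least half of the space. -/
theorem le_two_mul_fix [FiniteDimensional F V] {Q : QuadraticForm F V} {φ : oG Q} (h : φ ^ 2 = 1) :
    finrank F V ≤ 2 * finrank F (fixSub φ) := by
  set f : V →ₗ[F] V := (φ.1 : V →ₗ[F] V) - LinearMap.id with hf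
  have hker : LinearMap.ker f = fixSub φ := by
    ext x
    rw [LinearMap.mem_ker, mem_fixSub, hf, LinearMap.sub_apply, sub_eq_zero]
    rfl
  have hle : LinearMap.range f ≤ fixSub φ := by
    rintro _ ⟨x, rfl⟩
    rw [mem_fixSub]
    have h2 : φ.1 (φ.1 x) = x := by
      have e := congrArg (fun g : oG Q => g.1 x) h
      rw [pow_two] at e
      exact e
    show φ.1 (φ.1 x - x) = φ.1 x - x
    rw [map_sub, h2]
    have hneg : ∀ y : V, -y = y := fun y => by
      rw [← neg_one_smul F y, CharTwo.neg_eq, one_smul]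
    rw [← neg_sub, hneg]
  have h1 := f.finrank_range_add_finrank_ker
  have h2 := Submodule.finrank_mono hle
  rw [hker] at h1
  omega

theorem exists_nonsing_fix [FiniteDimensional F V] {Q : QuadraticForm F V} {φ : oG Q} {k : ℕ}
    (hk : ∀ U : Submodule F V, (∀ u ∈ U, Q u = 0) → finrank F U ≤ k) (h : k < finrank F (fixSub φ)) :
    ∃ v, φ.1 v = v ∧ Q v ≠ 0 := by
  by_contra hne
  push Not at hne
  have := hk (fixSub φ) fun u hu => hne u (mem_fixSub.1 hu)
  omega

end

/-! ## Transport to matrices -/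

section

variable [Finite F] {ι : Type} [Fintype ι] [DecidableEq ι]

theorem exists_matrix_elt {Q : QuadraticForm F (ι → F)} (hQ : (polarBilin Q).Nondegenerate)
    (hn : 6 ≤ Fintype.card ι) (φ : oG Q) (hd : dsign φ = 1) (hne : φ ≠ 1)
    (hfix : ∀ v, φ.1 v = v → Q v = 0) {r : ℕ} (hr : φ ^ r = 1) :
    ∃ g : GL ι F, g ∈ Cfsg.Geo.omegaGL ⇑Q ∧ (∃ z : F, ((g ^ r : GL ι F) : Matrix ι ι F) = z • 1) ∧
      (∀ z : F, (g : Matrix ι ι F) ≠ z • 1) ∧
      ¬ ∃ W : Submodule F (ι → F), (finrank F W = 1 ∧ ∃ v ∈ W, Q v ≠ 0) ∧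
        W.map (Matrix.toLin' (g : Matrix ι ι F)) ≤ W := by
  have hfr : finrank F (ι → F) = Fintype.card ι := Module.finrank_fintype_fun_eq_card F
  set G := (oEquiv Q).symm φ with hG
  have hGap : ∀ x, G.1.1.mulVec x = φ.1 x := fun x => by
    rw [← oEquiv_apply, hG, MulEquiv.apply_symm_apply]
  have hGr : G ^ r = 1 := by rw [hG, ← map_pow, hr, map_one]
  refine ⟨G.1, ⟨G, ?_, rfl⟩, ⟨1, ?_⟩, fun z hz => hne ?_, ?_⟩
  · show G ∈ Cfsg.Omega F ⇑Q
    rw [mem_omega_iff, hG, MulEquiv.apply_symm_apply,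
      (commutator_eq_ker_dickson hQ (ne_two (F := F) (by omega)) (by omega)).1, MonoidHom.mem_ker]
    exact hd
  · rw [one_smul, ← SubmonoidClass.coe_pow, hGr]
    rfl
  · have hall : ∀ x, φ.1 x = z • x := fun x => by
      rw [← hGap, hz, Matrix.smul_mulVec, Matrix.one_mulVec]
    obtain ⟨v, hv⟩ := exists_aniso hQ (by omega)
    have hz1 : z = 1 := eq_one_of_sq (by
      have := φ.2 v
      rw [hall, map_smul'] at this
      exact mul_right_cancel₀ hv (by rw [this, one_mul]))
    exact Subtype.ext (LinearEquiv.ext fun x => by rw [hall, hz1, one_smul]; rfl)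
  · rintro ⟨W, ⟨hW, v, hvW, hv⟩, hWg⟩
    have hv0 : v ≠ 0 := fun h => hv (by rw [h, QuadraticMap.map_zero])
    obtain ⟨c, hc⟩ := (finrank_eq_one_iff_of_nonzero' (⟨v, hvW⟩ : W) (fun h => hv0 (congrArg Subtype.val h))).1 hW
      ⟨φ.1 v, hWg ⟨v, hvW, by rw [Matrix.toLin'_apply, hGap]⟩⟩
    have hc' : c • v = φ.1 v := congrArg Subtype.val hc
    have hc1 : c = 1 := eq_one_of_sq (by
      have := φ.2 v
      rw [← hc', map_smul'] at this
      exact mul_right_cancel₀ hv (by rw [this, one_mul]))
    exact hv (hfix v (by rw [← hc', hc1, one_smul]))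

theorem exists_point {Q : QuadraticForm F (ι → F)} (hQ : (polarBilin Q).Nondegenerate)
    (hn : 6 ≤ Fintype.card ι) {g : GL ι F} (hg : g ∈ Cfsg.Geo.omegaGL ⇑Q) {z : F}
    (hz : ((g ^ 2 : GL ι F) : Matrix ι ι F) = z • 1)
    (key : ∀ φ : oG Q, φ ^ 2 = 1 → dsign φ = 1 → ∃ v, φ.1 v = v ∧ Q v ≠ 0) :
    ∃ W : Submodule F (ι → F), (finrank F W = 1 ∧ ∃ v ∈ W, Q v ≠ 0) ∧
      W.map (Matrix.toLin' (g : Matrix ι ι F)) ≤ W := by
  have hfr : finrank F (ι → F) = Fintype.card ι := Module.finrank_fintype_fun_eq_card F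
  obtain ⟨G, hG, rfl⟩ := hg
  set φ := oEquiv Q G with hφ
  have hd : dsign φ = 1 := by
    have h1 : G ∈ Cfsg.Omega F ⇑Q := hG
    rw [mem_omega_iff, (commutator_eq_ker_dickson hQ (ne_two (F := F) (by omega)) (by omega)).1,
      MonoidHom.mem_ker] at h1
    exact h1
  have hap : ∀ x, φ.1 x = G.1.1.mulVec x := fun x => oEquiv_apply G x
  have hsq : ∀ x, φ.1 (φ.1 x) = z • x := fun x => by
    rw [hap, hap, Matrix.mulVec_mulVec, ← Units.val_mul, ← pow_two]
    rw [show ((G.1 ^ 2 : GL ι F) : Matrix ι ι F) = z • 1 from hz, Matrix.smul_mulVec, Matrix.one_mulVec]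
  obtain ⟨v, hv⟩ := exists_aniso hQ (by omega)
  have hz1 : z = 1 := eq_one_of_sq (by
    have h1 : Q (φ.1 (φ.1 v)) = Q v := by rw [φ.2, φ.2]
    rw [hsq, map_smul'] at h1
    exact mul_right_cancel₀ hv (by rw [h1, one_mul]))
  have h2 : φ ^ 2 = 1 := Subtype.ext (LinearEquiv.ext fun x => by
    rw [pow_two]
    show φ.1 (φ.1 x) = x
    rw [hsq, hz1, one_smul])
  obtain ⟨w, hw, hw0⟩ := key φ h2 hd
  have hwne : w ≠ 0 := fun h => hw0 (by rw [h, QuadraticMap.map_zero])
  refine ⟨F ∙ w, ⟨finrank_span_singleton hwne, w, Submodule.mem_span_singleton_self w, hw0⟩, ?_⟩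
  rw [Submodule.map_span, Set.image_singleton, Submodule.span_le, Set.singleton_subset_iff]
  show Matrix.toLin' (G.1.1) w ∈ F ∙ w
  rw [Matrix.toLin'_apply, ← hap, hw]
  exact Submodule.mem_span_singleton_self w

/-- Non-singular points in characteristic two. -/
theorem card_points [Fintype F] (Q : QuadraticForm F (ι → F)) :
    zcard Q + (Fintype.card F - 1) * Nat.card {W : Submodule F (ι → F) //
      finrank F W = 1 ∧ ∃ v ∈ W, Q v ≠ 0} = Fintype.card F ^ Fintype.card ι := by
  classical
  have hsq : ∀ c : F, ∃ t : F, t * t = c := fun c => by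
    obtain ⟨t, ht⟩ := FiniteField.isSquare_of_char_two (F := F) (ringChar.eq F 2) c
    exact ⟨t, ht.symm⟩
  choose rt hrt using hsq
  let e1 : {v : ι → F // Q v = 1} ≃ {W : Submodule F (ι → F) // finrank F W = 1 ∧ ∃ v ∈ W, Q v ≠ 0} :=
    Equiv.ofBijective (fun v => ⟨F ∙ v.1, finrank_span_singleton (fun h => by
        have := v.2; rw [h, QuadraticMap.map_zero] at this; exact zero_ne_one this),
      v.1, Submodule.mem_span_singleton_self _, by rw [v.2]; exact one_ne_zero⟩) (by
      constructor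
      · intro v w h
        have h' : v.1 ∈ F ∙ w.1 := by
          rw [← show (F ∙ v.1) = (F ∙ w.1) from congrArg Subtype.val h]
          exact Submodule.mem_span_singleton_self _
        obtain ⟨c, hc⟩ := Submodule.mem_span_singleton.1 h'
        have h1 := v.2
        rw [← hc, map_smul', w.2, mul_one] at h1
        exact Subtype.ext (by rw [← hc, eq_one_of_sq h1, one_smul])
      · rintro ⟨W, hW, w, hwW, hw⟩
        have ht0 : rt (Q w) ≠ 0 := fun h => hw (by rw [← hrt (Q w), h, zero_mul])
        refine ⟨⟨(rt (Q w))⁻¹ • w, ?_⟩, Subtype.ext ?_⟩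
        · rw [map_smul']
          nth_rw 3 [← hrt (Q w)]
          field_simp
        · refine Submodule.eq_of_le_of_finrank_eq ?_ ?_
          · rw [Submodule.span_le, Set.singleton_subset_iff]
            exact W.smul_mem _ hwW
          · rw [finrank_span_singleton, hW]
            exact smul_ne_zero (inv_ne_zero ht0) (fun h => hw (by rw [h, QuadraticMap.map_zero])))
  have e2 : ∀ c : {c : F // c ≠ 0}, {v : ι → F // Q v = c.1} ≃ {v : ι → F // Q v = 1} := fun c => by
    have ht0 : rt c.1 ≠ 0 := fun h => c.2 (by rw [← hrt c.1, h, zero_mul])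
    exact (LinearEquiv.smulOfUnit (R := F) (M := ι → F) (Units.mk0 _ (inv_ne_zero ht0))).toEquiv.subtypeEquiv
      fun v => by
        show Q v = c.1 ↔ Q ((rt c.1)⁻¹ • v) = 1
        rw [map_smul']
        conv_lhs => rw [← hrt c.1]
        constructor
        · intro h; rw [h]; field_simp
        · intro h; field_simp at h; linear_combination h
  have hN : Nat.card {v : ι → F // Q v ≠ 0} =
      (Fintype.card F - 1) * Nat.card {v : ι → F // Q v = 1} := by
    rw [← Nat.card_congr (Equiv.sigmaSubtypeFiberEquivSubtype (fun v : ι → F => Q v)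
      (p := fun v => Q v ≠ 0) (q := fun c : F => c ≠ 0) (fun _ => Iff.rfl)), Nat.card_sigma,
      Finset.sum_congr rfl (fun c _ => Nat.card_congr (e2 c)), Finset.sum_const, smul_eq_mul, Finset.card_univ]
    congr 1
    simp [Fintype.card_subtype_compl]
  rw [← Nat.card_congr e1, ← hN, zcard,
    ← Nat.card_sum, Nat.card_congr (Equiv.sumCompl (fun v : ι → F => Q v = 0)), Nat.card_eq_fintype_card,
    Fintype.card_fun]

end

/-! ## Models -/

theorem eq_of_mul_eq {K : Type*} [CommRing K] [IsDomain K] {a b : K} (h : a * b = b) : a = 1 ∨ b = 0 := by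
  rcases mul_eq_zero.1 (show (a - 1) * b = 0 by rw [sub_mul, h, one_mul, sub_self]) with h' | h'
  · exact Or.inl (sub_eq_zero.1 h')
  · exact Or.inr h'

/-- A fixed point free isometry of a given odd order on a hyperbolic space. -/
theorem exists_plus_fpf [Finite F] [Fintype F] {d k : ℕ} (hd : 3 ≤ d) (hk : k ∣ Fintype.card F ^ d - 1)
    {V : Type v} [AddCommGroup V] [Module F V] (Q : QuadraticForm F V) (hQ : Iso (hyp (zeroForm F) d) Q) :
    ∃ φ : oG Q, orderOf φ = k ∧ (2 ≤ k → ∀ v, φ.1 v = v → v = 0) := by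
  classical
  haveI : NeZero d := ⟨by omega⟩
  let K := FiniteField.Extension F 2 d
  have hcard : Nat.card Kˣ = Fintype.card F ^ d - 1 := by
    rw [Nat.card_units, FiniteField.natCard_extension, Nat.card_eq_fintype_card]
  obtain ⟨ζ, hζ⟩ : ∃ ζ : Kˣ, orderOf ζ = k := by
    obtain ⟨g, hg⟩ := IsCyclic.exists_ofOrder_eq_natCard (α := Kˣ)
    obtain ⟨j, hj⟩ := hk
    refine ⟨g ^ j, ?_⟩
    have hne : Fintype.card F ^ d - 1 ≠ 0 := by
      have h2 : 1 < Fintype.card F ^ d := Nat.one_lt_pow (by omega) Fintype.one_lt_card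
      omega
    rw [orderOf_pow' _ (fun h => hne (by rw [hj, h, mul_zero])), hg, hcard, hj, Nat.gcd_mul_left_left,
      Nat.mul_div_cancel _ (Nat.pos_of_ne_zero fun h => hne (by rw [hj, h, mul_zero]))]
  let R : QuadraticForm F (K × K) :=
    LinearMap.BilinMap.toQuadraticMap (LinearMap.compl₁₂ ((LinearMap.mul F K).compr₂ (Algebra.trace F K))
      (LinearMap.fst F K K) (LinearMap.snd F K K))
  have hR : ∀ x : K × K, R x = Algebra.trace F K (x.1 * x.2) := fun x => rfl
  have hpol : ∀ x y : K × K, polar R x y =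
      Algebra.trace F K (x.1 * y.2) + Algebra.trace F K (y.1 * x.2) := fun x y => by
    show R (x + y) - R x - R y = _
    simp only [hR, Prod.fst_add, Prod.snd_add, add_mul, mul_add, map_add]
    ring
  have hRn : (polarBilin R).Nondegenerate := nondeg_of fun x hx => by
    have hN := traceForm_nondegenerate F K
    refine Prod.ext (hN.1 _ fun y => ?_) (hN.1 _ fun y => ?_)
    · have := hx (0, y)
      simpa [hpol, Algebra.traceForm_apply] using this
    · have := hx (y, 0)
      rw [hpol] at this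
      simpa [Algebra.traceForm_apply, mul_comm] using this
  have hfr : finrank F (K × K) = 2 * d := by
    rw [Module.finrank_prod, FiniteField.finrank_extension, two_mul]
  have hiso : Iso (hyp (zeroForm F) d) R := by
    rcases even_cases hRn hfr with h | ⟨-, h⟩
    · exact h
    · exfalso
      obtain ⟨ζ', hζ'⟩ := exists_rootfree (F := F)
      obtain ⟨e, he⟩ := (h _ _ (rootfree_aniso hζ')).symm
      have := aniso_index (nondeg_binForm (rootfree_aniso hζ'))
        (fun _ hz => by_contra fun hz' => binForm_ne_zero (rootfree_aniso hζ') hz' hz) (d - 1)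
        ((LinearMap.range (LinearMap.inl F K K)).map e.toLinearMap) (by
          rintro _ ⟨_, ⟨x, rfl⟩, rfl⟩
          rw [LinearEquiv.coe_coe, he, hR]
          simp)
      rw [LinearEquiv.finrank_map_eq, LinearMap.finrank_range_of_inj LinearMap.inl_injective,
        FiniteField.finrank_extension] at this
      omega
  let θ : Kˣ →* oG R :=
    { toFun := fun u => ⟨LinearEquiv.ofLinearMap
        ((LinearMap.mulLeft F (u : K)).prodMap (LinearMap.mulLeft F ((u⁻¹ : Kˣ) : K)))
        ((LinearMap.mulLeft F ((u⁻¹ : Kˣ) : K)).prodMap (LinearMap.mulLeft F (u : K)))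
        (LinearMap.ext fun x => by simp [← mul_assoc]) (LinearMap.ext fun x => by simp [← mul_assoc]),
        fun x => by
          show R (_, _) = R x
          rw [hR, hR]
          simp only [LinearMap.coe_comp, Function.comp_apply, LinearMap.fst_apply, LinearMap.snd_apply,
            LinearMap.mulLeft_apply]
          congr 1
          rw [mul_mul_mul_comm, Units.mul_inv, one_mul]⟩
      map_one' := Subtype.ext (LinearEquiv.ext fun x => by simp)
      map_mul' := fun a c => Subtype.ext (LinearEquiv.ext fun x => by simp [LinearEquiv.mul_apply, mul_comm,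
        mul_left_comm]) }
  obtain ⟨e, he⟩ := hiso.symm.trans hQ
  refine ⟨oCongr e he (θ ζ), ?_, fun h2 v hv => ?_⟩
  · rw [MulEquiv.orderOf_eq, orderOf_injective θ (fun a c h => ?_), hζ]
    have := congrArg (fun g : oG R => (g.1 ((1 : K), (0 : K))).1) h
    simpa [θ, Units.ext_iff] using this
  · obtain ⟨x, rfl⟩ := e.surjective v
    have hx : (θ ζ).1 x = x := e.injective (by
      have : e ((θ ζ).1 (e.symm (e x))) = e x := hv
      rwa [LinearEquiv.symm_apply_apply] at this)
    have hne : (ζ : K) ≠ 1 := fun h => by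
      rw [Units.val_eq_one.1 h, orderOf_one] at hζ
      omega
    have hne' : ((ζ⁻¹ : Kˣ) : K) ≠ 1 := fun h => hne (by
      rw [Units.val_eq_one] at h ⊢
      exact inv_eq_one.1 h)
    have h1 : (ζ : K) * x.1 = x.1 := congrArg Prod.fst hx
    have h3 : ((ζ⁻¹ : Kˣ) : K) * x.2 = x.2 := congrArg Prod.snd hx
    have hx0 : x = 0 := Prod.ext
      ((eq_of_mul_eq h1).resolve_left hne) ((eq_of_mul_eq h3).resolve_left hne')
    rw [hx0, map_zero]

/-- A fixed point free isometry of a given order dividing `q ^ d + 1` on a space of minus type. -/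
theorem exists_minus_fpf [Fintype F] {d k : ℕ} (hd : 3 ≤ d) (hk : k ∣ Fintype.card F ^ d + 1)
    {a b : F} (hab : ∀ z₁ z₂ : F, z₁ ^ 2 + a * z₁ * z₂ + b * z₂ ^ 2 = 0 → z₁ = 0 ∧ z₂ = 0)
    {V : Type v} [AddCommGroup V] [Module F V] (Q : QuadraticForm F V)
    (hQ : Iso (hyp (binForm a b) (d - 1)) Q) :
    ∃ φ : oG Q, orderOf φ = k ∧ (2 ≤ k → ∀ v, φ.1 v = v → v = 0) := by
  classical
  set q := Fintype.card F with hq
  have hq2 : 2 ≤ q := Fintype.one_lt_card
  haveI : NeZero (2 * d) := ⟨by omega⟩
  let K := FiniteField.Extension F 2 (2 * d)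
  haveI : Fintype K := Fintype.ofFinite K
  have hfr : finrank F K = 2 * d := FiniteField.finrank_extension F 2 (2 * d)
  have hKcard : Nat.card K = q ^ (2 * d) := by
    rw [FiniteField.natCard_extension, Nat.card_eq_fintype_card]
  set τ := FiniteField.frobeniusAlgEquivOfAlgebraic F K ^ d with hτ
  have hτa : ∀ x : K, τ x = x ^ q ^ d := fun x => by
    rw [hτ, AlgEquiv.coe_pow, FiniteField.coe_frobeniusAlgEquivOfAlgebraic_iterate]
  have hττ : ∀ x : K, τ (τ x) = x := fun x => by
    rw [hτa, hτa, ← pow_mul, ← pow_add, ← two_mul, ← hKcard, Nat.card_eq_fintype_card, FiniteField.pow_card]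
  obtain ⟨w, hw⟩ : ∃ w : K, τ w ≠ w := by
    by_contra hne
    push Not at hne
    have h1 : τ = 1 := AlgEquiv.ext hne
    rw [hτ, ← orderOf_dvd_iff_pow_eq_one, FiniteField.orderOf_frobeniusAlgEquivOfAlgebraic, hfr] at h1
    have := Nat.le_of_dvd (by omega) h1
    omega
  set c := w * (w + τ w)⁻¹ with hc
  haveI : CharP K 2 := charP_of_injective_algebraMap (algebraMap F K).injective 2
  have hs : w + τ w ≠ 0 := fun h => hw (CharTwo.add_eq_zero.1 h).symm
  have hcc : c + τ c = 1 := by
    rw [hc, map_mul, map_inv₀, map_add, hττ, add_comm (τ w) w, ← add_mul, mul_inv_cancel₀ hs]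
  let R : QuadraticForm F K := LinearMap.BilinMap.toQuadraticMap
    (((((LinearMap.mul F K).compl₂ τ.toLinearMap).compr₂ (LinearMap.mulLeft F c))).compr₂ (Algebra.trace F K))
  have hR : ∀ x : K, R x = Algebra.trace F K (c * (x * τ x)) := fun x => rfl
  have hpol : ∀ x y : K, polar R x y = Algebra.trace F K (x * τ y) := fun x y => by
    show R (x + y) - R x - R y = _
    have e : Algebra.trace F K (c * (y * τ x)) = Algebra.trace F K (τ c * (x * τ y)) := by
      rw [← Algebra.trace_eq_of_algEquiv τ (c * (y * τ x)), map_mul τ c, map_mul τ y, hττ, mul_comm x (τ y)]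
    simp only [hR, map_add τ, add_mul, mul_add, map_add]
    rw [e]
    have e2 : Algebra.trace F K (x * τ y) =
        Algebra.trace F K (c * (x * τ y)) + Algebra.trace F K (τ c * (x * τ y)) := by
      rw [← map_add, ← add_mul, hcc, one_mul]
    rw [e2]
    ring
  have hRn : (polarBilin R).Nondegenerate := nondeg_of fun x hx => by
    refine (traceForm_nondegenerate F K).1 x fun y => ?_
    have := hx (τ y)
    rwa [hpol, hττ] at this
  let N : Subgroup Kˣ :=
    { carrier := {u | (u : K) * τ u = 1}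
      one_mem' := by simp
      mul_mem' := fun {u v} hu hv => by
        simp only [Set.mem_setOf_eq, Units.val_mul, map_mul] at *
        rw [mul_mul_mul_comm, hu, hv, one_mul]
      inv_mem' := fun {u} hu => by
        simp only [Set.mem_setOf_eq] at *
        have := congrArg (fun t : K => t⁻¹) hu
        simpa [mul_inv_rev, map_inv₀, mul_comm] using this }
  obtain ⟨g, hg⟩ := IsCyclic.exists_ofOrder_eq_natCard (α := Kˣ)
  have hu : Nat.card Kˣ = (q ^ d + 1) * (q ^ d - 1) := by
    refine (Nat.card_units K).trans ?_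
    rw [hKcard, sq_pow_sub_one]
  have hqd : 1 < q ^ d := Nat.one_lt_pow (by omega) hq2
  set u := g ^ (q ^ d - 1) with hudef
  have hord : orderOf u = q ^ d + 1 := by
    rw [hudef, orderOf_pow' _ (by omega), hg, hu, Nat.gcd_mul_left_left, Nat.mul_div_cancel _ (by omega)]
  have huN : u ∈ N := by
    show (u : K) * τ u = 1
    rw [hτa, ← pow_succ', ← Units.val_pow_eq_pow_val, ← hord, pow_orderOf_eq_one, Units.val_one]
  let θ : N →* oG R :=
    { toFun := fun t => ⟨LinearEquiv.ofLinearMap (LinearMap.mulLeft F ((t : Kˣ) : K))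
        (LinearMap.mulLeft F (((t : Kˣ)⁻¹ : Kˣ) : K))
        (LinearMap.ext fun x => by simp [← mul_assoc]) (LinearMap.ext fun x => by simp [← mul_assoc]),
        fun x => by
          show R (((t : Kˣ) : K) * x) = R x
          rw [hR, hR, map_mul τ, mul_mul_mul_comm ((t : Kˣ) : K) x, t.2, one_mul]⟩
      map_one' := Subtype.ext (LinearEquiv.ext fun x => by simp)
      map_mul' := fun a c => Subtype.ext (LinearEquiv.ext fun x => by simp [LinearEquiv.mul_apply, mul_assoc]) }
  have hiso : Iso (hyp (binForm a b) (d - 1)) R := by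
    rcases even_cases hRn hfr with h | ⟨-, h⟩
    · exfalso
      obtain ⟨m, rfl⟩ : ∃ m, d = m + 1 := ⟨d - 1, by omega⟩
      have hz := zcard_plus (F := F) hq.symm m
      rw [h.zcard_eq] at hz
      let S : Set Kˣ := {x | R (x : K) = 0}
      let H : Subgroup Kˣ := Subgroup.zpowers u
      have hHN : H ≤ N := Subgroup.zpowers_le.2 huN
      have hS : S = QuotientGroup.mk (s := H) ⁻¹' (QuotientGroup.mk (s := H) '' S) := by
        refine Set.Subset.antisymm (Set.subset_preimage_image _ _) ?_
        rintro x ⟨y, hy, hxy⟩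
        have ht : y⁻¹ * x ∈ H := QuotientGroup.eq.1 hxy
        show R (x : K) = 0
        have hx : (x : K) = (((y⁻¹ * x : Kˣ)) : K) * (y : K) := by
          rw [← Units.val_mul, mul_right_comm, inv_mul_cancel, one_mul]
        rw [hx]
        exact ((θ ⟨_, hHN ht⟩).2 (y : K)).trans hy
      have hdvd : q ^ (m + 1) + 1 ∣ Nat.card S := by
        rw [hS, Nat.card_congr (QuotientGroup.preimageMkEquivSubgroupProdSet H _), Nat.card_prod,
          Nat.card_zpowers, hord]
        exact dvd_mul_right _ _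
      have hSz : Nat.card S + 1 = zcard R := by
        have e : {x : K // x ≠ 0 ∧ R x = 0} ≃ S :=
          { toFun := fun x => ⟨Units.mk0 x.1 x.2.1, x.2.2⟩
            invFun := fun x => ⟨x.1.1, x.1.ne_zero, x.2⟩
            left_inv := fun x => rfl
            right_inv := fun x => Subtype.ext (Units.ext rfl) }
        rw [← Nat.card_congr e, zcard, Nat.card_eq_fintype_card, Nat.card_eq_fintype_card,
          Fintype.card_subtype, Fintype.card_subtype]
        have h1 : Finset.univ.filter (fun x : K => R x = 0) =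
            insert 0 (Finset.univ.filter (fun x : K => x ≠ 0 ∧ R x = 0)) := by
          ext x
          by_cases hx : x = 0 <;> simp [hx, QuadraticMap.map_zero]
        rw [h1, Finset.card_insert_of_notMem (by simp)]
      obtain ⟨t, ht⟩ := hdvd
      have e1 : q ^ (2 * m + 1) = q ^ (m + 1) * q ^ m := by rw [← pow_add]; congr 1; omega
      rw [← hSz, ht, e1, pow_succ] at hz
      have hQ2 : 2 ≤ q ^ m := le_trans hq2 (Nat.le_self_pow (by omega) q)
      have hA : q ^ m * 2 ≤ q ^ m * q := Nat.mul_le_mul_left _ hq2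
      generalize hAdef : q ^ m * q = A at *
      generalize q ^ m = B at *
      have hs : t < B + 1 := by
        by_contra hc
        have := Nat.mul_le_mul_left (A + 1) (not_lt.1 hc)
        nlinarith
      obtain ⟨s, hs'⟩ : ∃ s, B + 1 = t + s + 1 := ⟨B - t, by omega⟩
      have hst : (s + 1) * (A + 1) = 2 * B + 2 := by
        have hB : B = t + s := by omega
        subst hB
        nlinarith [hz]
      rcases Nat.eq_zero_or_pos s with rfl | hs0
      · have he : Even A := by
          rw [← hAdef]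
          exact Even.mul_left (Nat.even_iff.2 (FiniteField.even_card_of_char_two (ringChar.eq F 2))) _
        obtain ⟨w', hw'⟩ := he
        omega
      · have := Nat.mul_le_mul_right (A + 1) (show 2 ≤ s + 1 by omega)
        omega
    · exact h a b hab
  obtain ⟨e, he⟩ := hiso.symm.trans hQ
  obtain ⟨j, hj⟩ := hk
  have hk0 : k ≠ 0 := by
    rintro rfl
    rw [zero_mul] at hj
    omega
  have hj0 : j ≠ 0 := by
    rintro rfl
    rw [mul_zero] at hj
    omega
  have hζ : orderOf (u ^ j) = k := by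
    rw [orderOf_pow' _ hj0, hord, hj, Nat.gcd_mul_left_left, Nat.mul_div_cancel _ (Nat.pos_of_ne_zero hj0)]
  refine ⟨oCongr e he (θ ⟨u ^ j, N.pow_mem huN j⟩), ?_, fun h2 v hv => ?_⟩
  · rw [MulEquiv.orderOf_eq, orderOf_injective θ (fun x y h => ?_), Subgroup.orderOf_mk, hζ]
    have := congrArg (fun g : oG R => g.1 (1 : K)) h
    exact Subtype.ext (Units.ext (by simpa [θ] using this))
  · obtain ⟨x, rfl⟩ := e.surjective v
    have hx : (θ ⟨u ^ j, N.pow_mem huN j⟩).1 x = x := e.injective (by
      have : e ((θ ⟨u ^ j, N.pow_mem huN j⟩).1 (e.symm (e x))) = e x := hv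
      rwa [LinearEquiv.symm_apply_apply] at this)
    have hx' : (((u ^ j : Kˣ) : K) - 1) * x = 0 := by
      rw [sub_mul, one_mul, sub_eq_zero]; exact hx
    rcases mul_eq_zero.1 hx' with h | h
    · rw [sub_eq_zero, Units.val_eq_one] at h
      rw [h, orderOf_one] at hζ
      omega
    · rw [h, map_zero]

/-- A fixed space which is totally singular of half dimension, for an isometry of square one. -/
theorem exists_plus_inv [Finite F] {m : ℕ} :
    ∃ φ : oG (hyp (zeroForm F) (m + m)), φ ^ 2 = 1 ∧ finrank F (fixSub φ) = m + m ∧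
      ∀ v, φ.1 v = v → hyp (zeroForm F) (m + m) v = 0 := by
  classical
  set d := m + m
  let σ : Equiv.Perm (Fin d) := finSumFinEquiv.symm.trans ((Equiv.sumComm _ _).trans finSumFinEquiv)
  have hσσ : ∀ i, σ (σ i) = i := fun i => by
    obtain ⟨i, rfl⟩ := finSumFinEquiv.surjective i
    rcases i with i | i <;> simp [σ]
  have hσne : ∀ i, σ i ≠ i := fun i => by
    obtain ⟨i, rfl⟩ := finSumFinEquiv.surjective i
    rcases i with i | i <;>
      simp only [σ, Equiv.trans_apply, Equiv.symm_apply_apply, Equiv.sumComm_apply, Sum.swap_inl, Sum.swap_inr,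
        ne_eq, EmbeddingLike.apply_eq_iff_eq] <;> exact fun h => by simp at h
  let V := ((Fin d → F) × (Fin d → F)) × (Fin 0 → F)
  let f : V →ₗ[F] V :=
    { toFun := fun x => ((fun i => x.1.1 i + x.1.2 (σ i), x.1.2), x.2)
      map_add' := fun x y => by
        refine Prod.ext (Prod.ext (funext fun i => ?_) rfl) rfl
        show x.1.1 i + y.1.1 i + (x.1.2 (σ i) + y.1.2 (σ i)) =
          x.1.1 i + x.1.2 (σ i) + (y.1.1 i + y.1.2 (σ i))
        ring
      map_smul' := fun c x => by
        refine Prod.ext (Prod.ext (funext fun i => ?_) rfl) rfl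
        show c * x.1.1 i + c * x.1.2 (σ i) = c * (x.1.1 i + x.1.2 (σ i))
        ring }
  have hff : ∀ x, f (f x) = x := fun x => by
    refine Prod.ext (Prod.ext (funext fun i => ?_) rfl) rfl
    show x.1.1 i + x.1.2 (σ i) + x.1.2 (σ i) = x.1.1 i
    rw [add_assoc, CharTwo.add_self_eq_zero, add_zero]
  let φ : V ≃ₗ[F] V := LinearEquiv.ofLinearMap f f (LinearMap.ext hff) (LinearMap.ext hff)
  have hzero : ∀ y : Fin d → F, ∑ i, y (σ i) * y i = 0 := fun y => by
    refine Finset.sum_involution (fun i _ => σ i) (fun i _ => ?_) (fun i _ _ => hσne i)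
      (fun i _ => Finset.mem_univ _) (fun i _ => hσσ i)
    rw [hσσ, mul_comm (y i), CharTwo.add_self_eq_zero]
  have hφ : φ ∈ oG (hyp (zeroForm F) d) := fun x => by
    rw [hyp_apply, hyp_apply]
    show ∑ i, (x.1.1 i + x.1.2 (σ i)) * x.1.2 i + zeroForm F x.2 = _
    simp only [add_mul, Finset.sum_add_distrib, hzero, add_zero]
  have hfix : fixSub (⟨φ, hφ⟩ : oG (hyp (zeroForm F) d)) = stdSing (F := F) (Fin 0 → F) d := by
    ext x
    rw [mem_fixSub]
    constructor
    · intro h
      refine ⟨x.1.1, ?_⟩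
      have hy : x.1.2 = 0 := funext fun i => by
        have := congrArg (fun t : V => t.1.1 (σ i)) h
        simpa [φ, f, hσσ] using this
      exact Prod.ext (Prod.ext rfl hy.symm) (Subsingleton.elim _ _)
    · rintro ⟨y, rfl⟩
      refine Prod.ext (Prod.ext (funext fun i => ?_) rfl) rfl
      show y i + 0 = y i
      rw [add_zero]
  refine ⟨⟨φ, hφ⟩, ?_, ?_, fun v hv => ?_⟩
  · rw [pow_two]
    exact Subtype.ext (LinearEquiv.ext hff)
  · rw [hfix, finrank_stdSing]
  · have : v ∈ stdSing (F := F) (Fin 0 → F) d := by rw [← hfix]; exact mem_fixSub.2 hv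
    exact stdSing_singular _ d v this

end Cfsg.Agent.Classical.Elusive.CharTwoPoint
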