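import Mathlib.LinearAlgebra.Matrix.GeneralLinearGroup.Card
import Mathlib.LinearAlgebra.Projection
import Mathlib.FieldTheory.Finiteness
import Cfsg.Agent.MatModule.LargeSylow

/-!
# Prime divisors of the numbers of subspaces, complements and nested pairs
-/

set_option autoImplicit false

namespace Cfsg.Agent.Classical.Elusive

open Module Finset

variable {K V : Type*} [Field K] [Fintype K] [AddCommGroup V] [Module K V] [FiniteDimensional K V]

/-- The product `(q ^ n - 1) ⋯ (q ^ (n - k + 1) - 1)`. -/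
def topProd (q n k : ℕ) : ℕ := ∏ i ∈ range k, (q ^ (n - i) - 1)

theorem prod_pow_sub (q : ℕ) {n k : ℕ} (hk : k ≤ n) :
    ∏ i : Fin k, (q ^ n - q ^ (i : ℕ)) = (∏ i ∈ range k, q ^ i) * topProd q n k := by
  rw [Fin.prod_univ_eq_prod_range (fun i => q ^ n - q ^ i) k, topProd, ← prod_mul_distrib]
  refine prod_congr rfl fun i hi => ?_
  have := mem_range.1 hi
  rw [Nat.mul_sub, mul_one, ← pow_add, show i + (n - i) = n by omega]

theorem topProd_pos {q n k : ℕ} (hq : 2 ≤ q) (hk : k ≤ n) : 0 < topProd q n k :=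
  prod_pos fun i hi => Nat.sub_pos_of_lt (Nat.one_lt_pow (by have := mem_range.1 hi; omega) hq)

theorem topProd_add (q : ℕ) {n a b : ℕ} :
    topProd q n (a + b) = topProd q n a * topProd q (n - a) b := by
  rw [topProd, prod_range_add]
  congr 1
  exact prod_congr rfl fun i _ => by rw [Nat.sub_sub]

theorem card_subspaces_mul {n k : ℕ} (hn : finrank K V = n) (hk : k ≤ n) :
    Nat.card {W : Submodule K V // finrank K W = k} * topProd (Fintype.card K) k k =
      topProd (Fintype.card K) n k := by
  classical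
  subst hn
  haveI : Finite V := Module.finite_of_finite K
  haveI : Fintype {W : Submodule K V // finrank K W = k} := Fintype.ofFinite _
  set f : (Σ W : {W : Submodule K V // finrank K W = k}, {t : Fin k → W.1 // LinearIndependent K t}) →
      {s : Fin k → V // LinearIndependent K s} :=
    fun x => ⟨fun i => (x.2.1 i : V), x.2.2.map' x.1.1.subtype (Submodule.ker_subtype _)⟩ with hf
  have hspan : ∀ x : Σ W : {W : Submodule K V // finrank K W = k},
      {t : Fin k → W.1 // LinearIndependent K t}, Submodule.span K (Set.range (f x).1) = x.1.1 := by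
    intro x
    refine Submodule.eq_of_le_of_finrank_le (Submodule.span_le.2 ?_) ?_
    · rintro _ ⟨i, rfl⟩
      exact (x.2.1 i).2
    · rw [finrank_span_eq_card (f x).2, Fintype.card_fin, x.1.2]
  have hbij : Function.Bijective f := by
    refine ⟨fun x y h => ?_, fun s => ?_⟩
    · have hW : x.1 = y.1 := Subtype.ext (by rw [← hspan x, ← hspan y, h])
      obtain ⟨W, t⟩ := x
      obtain ⟨W', t'⟩ := y
      simp only at hW
      subst hW
      refine Sigma.ext rfl (heq_of_eq (Subtype.ext (funext fun i => Subtype.ext ?_)))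
      exact congrFun (congrArg Subtype.val h) i
    · refine ⟨⟨⟨Submodule.span K (Set.range s.1), by rw [finrank_span_eq_card s.2, Fintype.card_fin]⟩,
        ⟨fun i => ⟨s.1 i, Submodule.subset_span ⟨i, rfl⟩⟩, ?_⟩⟩, rfl⟩
      exact LinearIndependent.of_comp (Submodule.subtype _) s.2
  have h := Nat.card_congr (Equiv.ofBijective f hbij)
  rw [Nat.card_sigma, card_linearIndependent hk, prod_pow_sub _ hk,
    sum_congr rfl (fun W _ => ?_), sum_const, card_univ, ← Nat.card_eq_fintype_card, smul_eq_mul] at h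
  pick_goal 2
  · exact (card_linearIndependent (K := K) (V := W.1) W.2.ge).trans
      ((congrArg (fun d => ∏ i : Fin k, (Fintype.card K ^ d - Fintype.card K ^ (i : ℕ))) W.2).trans
        (prod_pow_sub _ le_rfl))
  rw [mul_left_comm] at h
  exact Nat.eq_of_mul_eq_mul_left (prod_pos fun i _ => pow_pos Fintype.card_pos i) h

theorem exists_of_dvd_topProd {q n k r : ℕ} [Fact r.Prime] (hq : 2 ≤ q) (hk : k ≤ n)
    (h : r ∣ topProd q n k) :
    ¬ r ∣ q ∧ ∃ j, n - k < j ∧ j ≤ n ∧ orderOf (q : ZMod r) ∣ j := by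
  obtain ⟨i, hi, hd⟩ := (Fact.out : r.Prime).prime.exists_mem_finset_dvd h
  have hik := mem_range.1 hi
  refine ⟨fun hrq => ?_, n - i, by omega, by omega, (LargeSylow.dvd_sub_iff (by omega) _).1 hd⟩
  have h1 : r ∣ q ^ (n - i) := dvd_pow hrq (by omega)
  have h2 := Nat.dvd_sub h1 hd
  rw [Nat.sub_sub_self (Nat.one_le_pow _ _ (by omega))] at h2
  exact (Fact.out : r.Prime).ne_one (Nat.dvd_one.1 h2)

theorem mod_lt_of_exists {n t i : ℕ} (h : ∃ j, n - t < j ∧ j ≤ n ∧ i ∣ j) :
    n % i < t ∧ i ≤ n := by
  obtain ⟨j, h1, h2, k, rfl⟩ := h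
  have hk : k ≠ 0 := by rintro rfl; simp at h1
  have hi : i ≠ 0 := by rintro rfl; simp at h1
  have hle : i ≤ i * k := Nat.le_mul_of_pos_right i (Nat.pos_of_ne_zero hk)
  have hk2 : k ≤ n / i := (Nat.le_div_iff_mul_le (Nat.pos_of_ne_zero hi)).2 (by rwa [mul_comm])
  have := Nat.mul_le_mul_left i hk2
  have := Nat.div_add_mod n i
  omega

variable {r : ℕ} [Fact r.Prime]

theorem of_dvd_subspaces {n m : ℕ} (hn : finrank K V = n) (hmn : m ≤ n)
    (h : r ∣ Nat.card {W : Submodule K V // finrank K W = m}) :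
    ¬ r ∣ Fintype.card K ∧ n % orderOf (Fintype.card K : ZMod r) < m ∧
      orderOf (Fintype.card K : ZMod r) ≤ n := by
  have := exists_of_dvd_topProd Fintype.one_lt_card hmn
    ((card_subspaces_mul hn hmn) ▸ h.mul_right _)
  exact ⟨this.1, mod_lt_of_exists this.2⟩

theorem card_complements {n m : ℕ} (hn : finrank K V = n) (U : Submodule K V) (hU : finrank K U = m) :
    Nat.card {W : Submodule K V // IsCompl U W} = Fintype.card K ^ (n * m - m * m) := by
  rw [Nat.card_congr (Submodule.isComplEquivProj U)]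
  set R : (V →ₗ[K] U) →ₗ[K] (U →ₗ[K] U) := LinearMap.lcomp K U U.subtype with hR
  obtain ⟨f₀, hf₀⟩ := U.subtype.exists_leftInverse_of_injective U.ker_subtype
  have hf₀' : ∀ x : U, f₀ x = x := fun x => LinearMap.congr_fun hf₀ x
  have hsurj : LinearMap.range R = ⊤ :=
    LinearMap.range_eq_top.2 fun g => ⟨g.comp f₀, LinearMap.ext fun x => congrArg g (hf₀' x)⟩
  have hrn := R.finrank_range_add_finrank_ker
  rw [hsurj, finrank_top, Module.finrank_linearMap, Module.finrank_linearMap, hU, hn] at hrn
  have e : {f : V →ₗ[K] U // ∀ x : U, f x = x} ≃ LinearMap.ker R :=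
    { toFun := fun f => ⟨f.1 - f₀, LinearMap.ext fun x => by
        show f.1 x - f₀ x = 0
        rw [f.2, hf₀', sub_self]⟩
      invFun := fun g => ⟨g.1 + f₀, fun x => by
        have hg : g.1 x = 0 := LinearMap.congr_fun (LinearMap.mem_ker.1 g.2) x
        rw [LinearMap.add_apply, hg, hf₀', zero_add]⟩
      left_inv := fun f => Subtype.ext (sub_add_cancel _ _)
      right_inv := fun g => Subtype.ext (add_sub_cancel_right _ _) }
  rw [Nat.card_congr e, Module.natCard_eq_pow_finrank (K := K), Nat.card_eq_fintype_card]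
  congr 1
  omega

theorem of_dvd_decompositions {n m : ℕ} (hn : finrank K V = n) (hmn : m ≤ n)
    (h : r ∣ Nat.card {P : Submodule K V × Submodule K V // IsCompl P.1 P.2 ∧ finrank K P.1 = m}) :
    r ∣ Fintype.card K ∨ (¬ r ∣ Fintype.card K ∧ n % orderOf (Fintype.card K : ZMod r) < m ∧
      orderOf (Fintype.card K : ZMod r) ≤ n) := by
  haveI : Finite V := Module.finite_of_finite K
  haveI : Fintype {W : Submodule K V // finrank K W = m} := Fintype.ofFinite _
  have e : {P : Submodule K V × Submodule K V // IsCompl P.1 P.2 ∧ finrank K P.1 = m} ≃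
      Σ U : {W : Submodule K V // finrank K W = m}, {W : Submodule K V // IsCompl U.1 W} :=
    { toFun := fun P => ⟨⟨P.1.1, P.2.2⟩, ⟨P.1.2, P.2.1⟩⟩
      invFun := fun x => ⟨(x.1.1, x.2.1), x.2.2, x.1.2⟩
      left_inv := fun _ => rfl
      right_inv := fun _ => rfl }
  rw [Nat.card_congr e, Nat.card_sigma, sum_congr rfl (fun U _ => card_complements hn U.1 U.2),
    sum_const, card_univ, ← Nat.card_eq_fintype_card, smul_eq_mul] at h
  rcases (Fact.out : r.Prime).dvd_mul.1 h with h | h
  · exact Or.inr (of_dvd_subspaces hn hmn h)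
  · exact Or.inl ((Fact.out : r.Prime).dvd_of_dvd_pow h)

theorem of_dvd_flags {n m : ℕ} (hn : finrank K V = n) (hmn : 2 * m ≤ n)
    (h : r ∣ Nat.card {P : Submodule K V × Submodule K V //
      P.1 ≤ P.2 ∧ finrank K P.1 = m ∧ finrank K P.2 = n - m}) :
    ¬ r ∣ Fintype.card K ∧ n % orderOf (Fintype.card K : ZMod r) < 2 * m ∧
      orderOf (Fintype.card K : ZMod r) ≤ n := by
  classical
  haveI : Finite V := Module.finite_of_finite K
  haveI : Fintype {W : Submodule K V // finrank K W = n - m} := Fintype.ofFinite _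
  set q := Fintype.card K with hq
  have hq2 : 2 ≤ q := Fintype.one_lt_card
  have e : {P : Submodule K V × Submodule K V //
      P.1 ≤ P.2 ∧ finrank K P.1 = m ∧ finrank K P.2 = n - m} ≃
      Σ W : {W : Submodule K V // finrank K W = n - m}, {U : Submodule K W.1 // finrank K U = m} :=
    { toFun := fun P => ⟨⟨P.1.2, P.2.2.2⟩, ⟨P.1.1.comap P.1.2.subtype, by
        rw [(Submodule.comapSubtypeEquivOfLe P.2.1).finrank_eq]; exact P.2.2.1⟩⟩
      invFun := fun x => ⟨(x.2.1.map x.1.1.subtype, x.1.1), Submodule.map_subtype_le _ _,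
        (Submodule.finrank_map_subtype_eq _ _).trans x.2.2, x.1.2⟩
      left_inv := fun P => Subtype.ext (Prod.ext (by
        show (P.1.1.comap P.1.2.subtype).map P.1.2.subtype = P.1.1
        rw [Submodule.map_comap_subtype]; exact inf_eq_right.2 P.2.1) rfl)
      right_inv := fun x => Sigma.ext rfl (heq_of_eq (Subtype.ext
        (Submodule.comap_map_eq_of_injective x.1.1.injective_subtype _))) }
  have hin : ∀ W : {W : Submodule K V // finrank K W = n - m},
      Nat.card {U : Submodule K W.1 // finrank K U = m} * topProd q m m = topProd q (n - m) m :=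
    fun W => card_subspaces_mul W.2 (by omega)
  set C := Nat.card {W : Submodule K V // finrank K W = n - m} with hC
  have key : Nat.card {P : Submodule K V × Submodule K V //
      P.1 ≤ P.2 ∧ finrank K P.1 = m ∧ finrank K P.2 = n - m} * topProd q m m =
        C * topProd q (n - m) m := by
    rw [Nat.card_congr e, Nat.card_sigma, sum_mul, sum_congr rfl (fun W _ => hin W), sum_const,
      card_univ, smul_eq_mul, hC, Nat.card_eq_fintype_card]
  have hCm : C * topProd q m m = topProd q n m := by
    have h1 := card_subspaces_mul (K := K) (V := V) hn (show n - m ≤ n by omega)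
    have h2 : topProd q n n = topProd q n (n - m) * topProd q m m := by
      conv_lhs => rw [show n = n - m + m by omega]
      rw [topProd_add, show n - m + m - (n - m) = m by omega, show n - m + m = n by omega]
    have h3 : topProd q n n = topProd q n m * topProd q (n - m) (n - m) := by
      conv_lhs => rw [show n = m + (n - m) by omega]
      rw [topProd_add, show m + (n - m) - m = n - m by omega, show m + (n - m) = n by omega]
    rw [← h1, h3] at h2
    refine Nat.eq_of_mul_eq_mul_right (topProd_pos hq2 (le_refl (n - m))) ?_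
    rw [h2]; ring
  have hd : r ∣ C * topProd q (n - m) m := key ▸ h.mul_right _
  have hf : ∃ k, k ≤ m ∧ (r ∣ topProd q (n - k) m) := by
    rcases (Fact.out : r.Prime).dvd_mul.1 hd with hd | hd
    · exact ⟨0, Nat.zero_le _, hCm ▸ hd.mul_right _⟩
    · exact ⟨m, le_rfl, hd⟩
  obtain ⟨k, hk, hd'⟩ := hf
  obtain ⟨h1, j, hj1, hj2, hj3⟩ := exists_of_dvd_topProd hq2 (by omega) hd'
  exact ⟨h1, mod_lt_of_exists ⟨j, by omega, by omega, hj3⟩⟩

end Cfsg.Agent.Classical.Elusive
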