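import Cfsg.Agent.Classical.Decomp.Basic

/-!
# Endomorphisms with scalar prime power permuting the members of a decomposition
-/

set_option autoImplicit false

namespace Cfsg.Agent.Classical.Elusive

open Module Polynomial

variable {F V : Type*} [Field F] [AddCommGroup V] [Module F V] {ι : Type*} [Fintype ι] [DecidableEq ι]
  {D : ι → Submodule F V} {φ : Module.End F V} {σ : Equiv.Perm ι}

omit [Fintype ι] [DecidableEq ι] in
theorem map_pow_perm (h : ∀ j, (D j).map φ = D (σ j)) (i : ℕ) (j : ι) :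
    (D j).map (φ ^ i) = D ((σ ^ i) j) := by
  induction i with
  | zero => rw [pow_zero, pow_zero, Module.End.one_eq_id, Submodule.map_id]; rfl
  | succ i ih =>
    rw [pow_succ', pow_succ', Module.End.mul_eq_comp, Submodule.map_comp, ih, h]
    rfl

omit [Fintype ι] [DecidableEq ι] in
theorem perm_pow_eq_one (hi : iSupIndep D) (hne : ∀ j, D j ≠ ⊥) (h : ∀ j, (D j).map φ = D (σ j))
    {r : ℕ} {z : F} (hz : z ≠ 0) (hpow : φ ^ r = z • 1) : σ ^ r = 1 := by
  refine Equiv.ext fun j => hi.injective hne ?_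
  rw [← map_pow_perm h, hpow, Module.End.one_eq_id, Submodule.map_smul _ _ _ hz, Submodule.map_id]
  rfl

omit [Fintype ι] [DecidableEq ι] in
theorem orbit_injOn {r : ℕ} (hr : r.Prime) (hσ : σ ^ r = 1) {j : ι} (hj : σ j ≠ j) :
    Set.InjOn (fun i => (σ ^ i) j) (Set.Iio r) := by
  have key : ∀ d, 0 < d → d < r → (σ ^ d) j ≠ j := by
    intro d hd hdr hfix
    refine hj ?_
    have h1 : Function.IsPeriodicPt σ d j := by
      show (σ : ι → ι)^[d] j = j
      rwa [← Equiv.Perm.coe_pow]
    have h2 : Function.IsPeriodicPt σ r j := by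
      show (σ : ι → ι)^[r] j = j
      rw [← Equiv.Perm.coe_pow, hσ]
      rfl
    have h3 := h1.gcd h2
    rw [Nat.coprime_iff_gcd_eq_one.1 ((hr.coprime_iff_not_dvd.2 fun hh => by
      have := Nat.le_of_dvd hd hh; omega).symm)] at h3
    exact h3
  intro a ha b hb hab
  simp only [Set.mem_Iio] at ha hb
  rcases lt_trichotomy a b with h | h | h
  · exfalso
    refine key (b - a) (by omega) (by omega) ((σ ^ a).injective ?_)
    rw [← Equiv.Perm.mul_apply, ← pow_add, show a + (b - a) = b by omega]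
    exact hab.symm
  · exact h
  · exfalso
    refine key (a - b) (by omega) (by omega) ((σ ^ b).injective ?_)
    rw [← Equiv.Perm.mul_apply, ← pow_add, show b + (a - b) = a by omega]
    exact hab

/-- An orbit sum detects its base component. -/
theorem eq_zero_of_orbit_sum (hi : iSupIndep D) (hs : iSup D = ⊤) (h : ∀ j, (D j).map φ = D (σ j))
    {r : ℕ} (hr : r.Prime) (hσ : σ ^ r = 1) {j : ι} (hj : σ j ≠ j) {v : V} (hv : v ∈ D j)
    (c : ℕ → F) (hc : c 0 = 1) (hsum : ∑ i ∈ Finset.range r, c i • (φ ^ i) v = 0) : v = 0 := by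
  obtain ⟨P, hP⟩ := Decomp.exists_proj hi hs
  have h1 := congrArg (P j) hsum
  rw [map_sum, map_zero, Finset.sum_eq_single 0] at h1
  · rwa [pow_zero, hc, one_smul, Module.End.one_apply, hP.self j v hv] at h1
  · intro i hi' hi0
    rw [map_smul, hP.other j ((σ ^ i) j) ?_ _ (map_pow_perm h i j ▸ Submodule.mem_map_of_mem hv),
      smul_zero]
    intro he
    exact hi0 (orbit_injOn hr hσ hj (Finset.mem_range.1 hi') (Set.mem_Iio.2 hr.pos) (by simpa using he))
  · intro h0
    exact absurd (Finset.mem_range.2 hr.pos) h0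

/-- In characteristic `p`, `(φ - 1) ^ (p - 1)` is the orbit sum. -/
theorem sub_one_pow_eq_sum (p : ℕ) [Fact p.Prime] [CharP F p] (φ : Module.End F V) :
    (φ - 1) ^ (p - 1) = ∑ i ∈ Finset.range p, φ ^ i := by
  have h : ((X - 1 : F[X]) ^ (p - 1)) = ∑ i ∈ Finset.range p, (X : F[X]) ^ i := by
    refine mul_left_cancel₀ (X_sub_C_ne_zero (1 : F) |> fun h => by rwa [map_one] at h) ?_
    rw [← pow_succ', Nat.sub_add_cancel (Fact.out : p.Prime).one_le, mul_geom_sum, sub_pow_char,
      one_pow]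
  have := congrArg (aeval φ) h
  simpa [map_sum] using this

theorem le_finrank_range_of_moved [FiniteDimensional F V] (hi : iSupIndep D) (hs : iSup D = ⊤)
    (h : ∀ j, (D j).map φ = D (σ j)) {p : ℕ} [Fact p.Prime] [CharP F p] (hσ : σ ^ p = 1) {j : ι}
    (hj : σ j ≠ j) : finrank F (D j) ≤ finrank F (LinearMap.range ((φ - 1) ^ (p - 1))) := by
  refine LinearMap.finrank_le_finrank_of_injective
    (f := LinearMap.codRestrict (LinearMap.range ((φ - 1) ^ (p - 1)))
      (((φ - 1) ^ (p - 1)).comp (D j).subtype) fun v => LinearMap.mem_range_self _ _) ?_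
  rw [injective_iff_map_eq_zero]
  intro v hv
  have hv' : ((φ - 1) ^ (p - 1)) v.1 = 0 := congrArg Subtype.val hv
  rw [sub_one_pow_eq_sum p φ, LinearMap.sum_apply] at hv'
  exact Subtype.ext (eq_zero_of_orbit_sum hi hs h (Fact.out : p.Prime) hσ hj v.2 (fun _ => 1) rfl
    (by simpa using hv'))

omit [Fintype ι] [DecidableEq ι] in
theorem isCompl_rest (hi : iSupIndep D) (hs : iSup D = ⊤) (j : ι) :
    IsCompl (D j) (⨆ (k : ι) (_ : k ≠ j), D k) := by
  refine ⟨hi j, codisjoint_iff.2 ?_⟩
  rw [eq_top_iff, ← hs]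
  refine iSup_le fun k => ?_
  by_cases hk : k = j
  · exact hk ▸ le_sup_left
  · exact le_sup_of_le_right (le_iSup₂_of_le k hk le_rfl)

end Cfsg.Agent.Classical.Elusive
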