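import Cfsg.Agent.Classical.Elusive.Pieces
import Cfsg.Agent.Classical.Elusive.Cycle
import Cfsg.Agent.Classical.Elusive.Count
import Cfsg.Prelude.Def_GeometricClasses

/-!
# Decompositions into summands of equal dimension permuted by a prime order element
-/

set_option autoImplicit false

namespace Cfsg.Agent.Classical.Elusive

open Polynomial Module MatModule

universe u v

/-! ## Building decompositions -/

variable {F : Type u} [Field F]

theorem exists_partition {ι : Type*} [Fintype ι] {deg : ι → ℕ} {D a : ℕ}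
    (hD : ∀ i, deg i = 1 ∨ deg i = D) (hpos : ∀ i, deg i ≠ 0) : ∀ (t : ℕ) (T : Finset ι), ∑ i ∈ T, deg i = t * a →
    t * (a % D) ≤ (T.filter fun i => deg i = 1).card →
    ∃ f : ι → ℕ, (∀ i ∈ T, f i < t) ∧ ∀ k, k < t → ∑ i ∈ T.filter (fun i => f i = k), deg i = a := by
  classical
  intro t
  induction t with
  | zero =>
    intro T hT _
    refine ⟨fun _ => 0, fun i hi => ?_, fun k hk => absurd hk (Nat.not_lt_zero k)⟩
    exfalso
    rw [Nat.zero_mul] at hT
    have h0 := Finset.sum_eq_zero_iff.1 hT i hi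
    exact hpos i h0
  | succ t ih =>
    intro T hT hA
    set A := T.filter (fun i => deg i = 1) with hAdef
    set B := T.filter (fun i => ¬ deg i = 1) with hBdef
    have hsB : ∀ S : Finset ι, S ⊆ B → ∑ i ∈ S, deg i = D * S.card := fun S hS => by
      rw [Finset.sum_congr rfl fun i hi => (hD i).resolve_left (Finset.mem_filter.1 (hS hi)).2,
        Finset.sum_const, smul_eq_mul, mul_comm]
    have hsA : ∀ S : Finset ι, S ⊆ A → ∑ i ∈ S, deg i = S.card := fun S hS => by
      rw [Finset.sum_congr rfl fun i hi => (Finset.mem_filter.1 (hS hi)).2, Finset.sum_const,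
        smul_eq_mul, mul_one]
    have htot : A.card + D * B.card = (t + 1) * a := by
      rw [← hT, ← hsA A subset_rfl, ← hsB B subset_rfl]
      exact Finset.sum_filter_add_sum_filter_not _ _ _
    set j := min (a / D) B.card with hj
    have hdm : a % D + D * (a / D) = a := Nat.mod_add_div a D
    have hja : D * j ≤ D * (a / D) := Nat.mul_le_mul_left _ (min_le_left _ _)
    have h1 : a - D * j ≤ A.card ∧ t * (a % D) ≤ A.card - (a - D * j) := by
      rw [Nat.succ_mul] at hA htot
      have h3 : t * (a % D) ≤ t * a := Nat.mul_le_mul_left _ (Nat.mod_le _ _)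
      rcases min_choice (a / D) B.card with h' | h' <;> rw [hj, h'] <;> omega
    obtain ⟨A₁, hA₁, cA₁⟩ := Finset.exists_subset_card_eq h1.1
    obtain ⟨B₁, hB₁, cB₁⟩ := Finset.exists_subset_card_eq (n := j) (s := B) (min_le_right _ _)
    have hdisj : Disjoint A B := Finset.disjoint_filter_filter_not _ _ _
    set S := A₁ ∪ B₁ with hS
    have sumS : ∑ i ∈ S, deg i = a := by
      rw [Finset.sum_union (hdisj.mono hA₁ hB₁), hsA _ hA₁, hsB _ hB₁, cA₁, cB₁]
      omega
    have hST : S ⊆ T :=
      Finset.union_subset (hA₁.trans (Finset.filter_subset _ _)) (hB₁.trans (Finset.filter_subset _ _))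
    have hrest : ∑ i ∈ T \ S, deg i = t * a := by
      have := Finset.sum_sdiff (f := deg) hST
      rw [sumS, hT, Nat.succ_mul] at this
      omega
    have hAr : A.card - (a - D * j) ≤ ((T \ S).filter fun i => deg i = 1).card := by
      rw [← cA₁, ← Finset.card_sdiff_of_subset hA₁]
      refine Finset.card_le_card fun i hi => ?_
      obtain ⟨hi1, hi2⟩ := Finset.mem_sdiff.1 hi
      refine Finset.mem_filter.2 ⟨Finset.mem_sdiff.2 ⟨(Finset.mem_filter.1 hi1).1, ?_⟩,
        (Finset.mem_filter.1 hi1).2⟩
      rintro hiS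
      rcases Finset.mem_union.1 hiS with h | h
      · exact hi2 h
      · exact Finset.disjoint_left.1 hdisj hi1 (hB₁ h)
    obtain ⟨f, hf, hfs⟩ := ih (T \ S) hrest (h1.2.trans hAr)
    refine ⟨fun i => if i ∈ S then t else f i, fun i hi => ?_, fun k hk => ?_⟩
    · dsimp only
      split_ifs with h
      · omega
      · exact (hf i (Finset.mem_sdiff.2 ⟨hi, h⟩)).trans (Nat.lt_succ_self t)
    · rcases Nat.lt_succ_iff_lt_or_eq.1 hk with hk | rfl
      · rw [← hfs k hk]
        refine Finset.sum_congr (Finset.ext fun i => ?_) fun _ _ => rfl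
        simp only [Finset.mem_filter, Finset.mem_sdiff]
        by_cases h : i ∈ S
        · simp [h, hk.ne']
        · simp [h]
      · conv_rhs => rw [← sumS]
        refine Finset.sum_congr (Finset.ext fun i => ?_) fun _ _ => rfl
        simp only [Finset.mem_filter]
        by_cases h : i ∈ S
        · simp [h, hST h]
        · simp only [h, if_false, iff_false, not_and]
          exact fun hi => (hf i (Finset.mem_sdiff.2 ⟨hi, h⟩)).ne

variable {n : ℕ}

theorem exists_decomp_of_pieces {ι : Type u} [Fintype ι] {s : ι → F[X]} (hs : ∀ i, (s i).Monic)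
    {φ : Module.End F (Fin n → F)} (hφ : Function.Injective φ)
    {Φ : (Fin n → F) ≃ₗ[F] ∀ i, AdjoinRoot (s i)} (hΦ : ∀ v, Φ (φ v) = rootMul s (Φ v))
    {a t : ℕ} (ht : 2 ≤ t) (ha : 0 < a) (f : ι → Fin t)
    (hf : ∀ k, ∑ i ∈ Finset.univ.filter (fun i => f i = k), (s i).natDegree = a) :
    ∃ D : Fin t → Submodule F (Fin n → F), Cfsg.Geo.IsMDecomposition a D ∧
      ∃ σ : Equiv.Perm (Fin t), ∀ j, (D j).map φ = D (σ j) := by
  classical
  set S : Fin t → Finset ι := fun k => Finset.univ.filter (fun i => f i = k)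
  have hdim : ∀ k, finrank F (piece Φ (S k)) = a := fun k => (finrank_piece hs _).trans (hf k)
  refine ⟨fun k => piece Φ (S k), ⟨ht, ha, hdim, fun k => ?_, ?_⟩, 1, fun k => ?_⟩
  · refine Disjoint.mono_right ?_ (isCompl_piece (Φ := Φ) (S k)).disjoint
    exact iSup₂_le fun l hl => piece_mono fun i hi => Finset.mem_compl.2 fun hi' =>
      hl (by rw [← (Finset.mem_filter.1 hi).2, (Finset.mem_filter.1 hi').2])
  · rw [eq_top_iff]
    intro v _
    have hv : v = ∑ k, Φ.symm fun i => if f i = k then Φ v i else 0 := by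
      apply Φ.injective
      rw [map_sum]
      funext i
      rw [Finset.sum_apply]
      simp
    rw [hv]
    refine Submodule.sum_mem _ fun k _ => Submodule.mem_iSup_of_mem k fun i hi => ?_
    rw [LinearEquiv.apply_symm_apply, if_neg]
    exact fun h => hi (Finset.mem_filter.2 ⟨Finset.mem_univ i, h⟩)
  · exact Submodule.eq_of_le_of_finrank_eq (piece_map_le hΦ _)
      (Submodule.equivMapOfInjective φ hφ _).finrank_eq.symm

/-- A basis whose members are permuted up to scalars. -/
theorem exists_decomp_of_basis {P : Type*} [Fintype P] (b : Basis P F (Fin n → F))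
    {φ : Module.End F (Fin n → F)} (τ : Equiv.Perm P) (hb : ∀ p, ∃ c : F, c ≠ 0 ∧ φ (b p) = c • b (τ p))
    {a t : ℕ} (ht : 2 ≤ t) (ha : 0 < a) (g : P → Fin t) (σ : Equiv.Perm (Fin t))
    (hg : ∀ p, g (τ p) = σ (g p)) (hfib : ∀ k, Nat.card {p // g p = k} = a) :
    ∃ D : Fin t → Submodule F (Fin n → F), Cfsg.Geo.IsMDecomposition a D ∧
      ∃ σ : Equiv.Perm (Fin t), ∀ j, (D j).map φ = D (σ j) := by
  classical
  set D : Fin t → Submodule F (Fin n → F) := fun k => Submodule.span F (b '' {p | g p = k}) with hD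
  refine ⟨D, ⟨ht, ha, fun k => ?_, fun k => ?_, ?_⟩, σ, fun k => ?_⟩
  · have himg : b '' {p | g p = k} = Set.range fun p : {p // g p = k} => b p.1 := by
      ext v
      simp
    show finrank F (Submodule.span F (b '' {p | g p = k})) = a
    rw [himg, finrank_span_eq_card (b := fun p : {p // g p = k} => b p.1)
      (b.linearIndependent.comp _ Subtype.val_injective), ← Nat.card_eq_fintype_card, hfib]
  · refine Disjoint.mono_right ?_ (b.linearIndependent.disjoint_span_image
      (s := {p | g p = k}) (t := {p | g p ≠ k}) (Set.disjoint_left.2 fun p h h' => h' h))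
    exact iSup₂_le fun l hl => Submodule.span_mono (Set.image_mono fun p hp => by
      simp only [Set.mem_setOf_eq] at hp ⊢; exact hp ▸ hl)
  · refine eq_top_iff.2 (b.span_eq.symm.trans_le (Submodule.span_le.2 ?_))
    rintro _ ⟨p, rfl⟩
    exact Submodule.mem_iSup_of_mem (g p) (Submodule.subset_span ⟨p, rfl, rfl⟩)
  · simp only [hD, Submodule.map_span]
    apply le_antisymm <;> rw [Submodule.span_le]
    · rintro _ ⟨_, ⟨p, hp, rfl⟩, rfl⟩
      obtain ⟨c, -, hc⟩ := hb p
      rw [hc]
      exact Submodule.smul_mem _ c (Submodule.subset_span ⟨τ p, (hg p).trans (congrArg σ hp), rfl⟩)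
    · rintro _ ⟨p, hp, rfl⟩
      obtain ⟨c, hc0, hc⟩ := hb (τ.symm p)
      rw [Equiv.apply_symm_apply] at hc
      have hp' : g (τ.symm p) = k := σ.injective (by
        rw [← hg, Equiv.apply_symm_apply]; exact hp)
      rw [show b p = c⁻¹ • φ (b (τ.symm p)) by rw [hc, smul_smul, inv_mul_cancel₀ hc0, one_smul]]
      exact Submodule.smul_mem _ _ (Submodule.subset_span ⟨_, ⟨_, hp', rfl⟩, rfl⟩)

/-- The basis of powers of roots for binomial blocks. -/
theorem exists_root_basis {ι : Type u} [Fintype ι] {s : ι → F[X]} {N : ι → ℕ} (hN : ∀ i, 0 < N i)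
    {z : ι → F} (hsz : ∀ i, s i = X ^ N i - C (z i))
    {φ : Module.End F (Fin n → F)} {Φ : (Fin n → F) ≃ₗ[F] ∀ i, AdjoinRoot (s i)}
    (hΦ : ∀ v, Φ (φ v) = rootMul s (Φ v)) :
    ∃ b : Basis (Σ i, Fin (N i)) F (Fin n → F), ∀ (i : ι) (k : Fin (N i)),
      φ (b ⟨i, k⟩) = (if (k : ℕ) + 1 = N i then z i else 1) • b ⟨i, finRotate (N i) k⟩ := by
  classical
  have hm : ∀ i, (s i).Monic := fun i => hsz i ▸ monic_X_pow_sub_C (z i) (hN i).ne'
  have hdeg : ∀ i, (s i).natDegree = N i := fun i => by rw [hsz i, natDegree_X_pow_sub_C]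
  set v : (Σ i, Fin (N i)) → (Fin n → F) :=
    fun p => Φ.symm (Pi.single p.1 (AdjoinRoot.root (s p.1) ^ (p.2 : ℕ))) with hv
  have hli : LinearIndependent F v := by
    rw [Fintype.linearIndependent_iff]
    intro c hc ⟨i, k⟩
    have h1 := congrFun (congrArg Φ hc) i
    rw [map_sum, map_zero, Pi.zero_apply, Finset.sum_apply, ← Finset.univ_sigma_univ, Finset.sum_sigma,
      Finset.sum_eq_single i] at h1
    · simp only [hv, map_smul, LinearEquiv.apply_symm_apply, Pi.smul_apply, Pi.single_eq_same] at h1
      set g : F[X] := ∑ l : Fin (N i), C (c ⟨i, l⟩) * X ^ (l : ℕ) with hg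
      have hz0 : AdjoinRoot.mk (s i) g = 0 := by
        rw [← h1, hg, map_sum]
        exact Finset.sum_congr rfl fun l _ => by
          rw [map_mul, map_pow, AdjoinRoot.mk_C, AdjoinRoot.mk_X, Algebra.smul_def]; rfl
      have hg0 : g = 0 := by
        refine eq_zero_of_dvd_of_degree_lt (AdjoinRoot.mk_eq_zero.1 hz0) ?_
        rw [degree_eq_natDegree (hm i).ne_zero, hdeg]
        exact degree_sum_fin_lt _
      have := congrArg (fun g => g.coeff (k : ℕ)) hg0
      simpa [hg, finset_sum_coeff, coeff_C_mul, coeff_X_pow, Fin.val_inj] using this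
    · intro j _ hj
      refine Finset.sum_eq_zero fun l _ => ?_
      simp [hv, Pi.single_eq_of_ne hj.symm]
    · exact fun h => absurd (Finset.mem_univ i) h
  have hcard : Fintype.card (Σ i, Fin (N i)) = finrank F (Fin n → F) := by
    rw [finrank_eq_sum Φ hm, Fintype.card_sigma]
    exact Finset.sum_congr rfl fun i _ => by rw [Fintype.card_fin, hdeg]
  rcases isEmpty_or_nonempty (Σ i, Fin (N i)) with he | he
  · refine ⟨Basis.mk hli ?_, fun i k => (he.false ⟨i, k⟩).elim⟩
    have h0 : finrank F (Fin n → F) = 0 := by rw [← hcard]; exact Fintype.card_eq_zero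
    haveI := Module.finrank_zero_iff.1 h0
    exact fun x _ => by rw [Subsingleton.elim x 0]; exact Submodule.zero_mem _
  refine ⟨basisOfLinearIndependentOfCardEqFinrank hli hcard, fun i k => ?_⟩
  simp only [coe_basisOfLinearIndependentOfCardEqFinrank, hv]
  apply Φ.injective
  rw [hΦ, map_smul, LinearEquiv.apply_symm_apply, LinearEquiv.apply_symm_apply]
  funext j
  rw [rootMul_apply, Pi.smul_apply]
  rcases eq_or_ne j i with rfl | hj
  · rw [Pi.single_eq_same, Pi.single_eq_same, ← pow_succ']
    obtain ⟨m, hm'⟩ : ∃ m, N j = m + 1 := ⟨N j - 1, by have := hN j; omega⟩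
    have hrot : ((finRotate (N j) k : Fin (N j)) : ℕ) = if (k : ℕ) + 1 = N j then 0 else (k : ℕ) + 1 := by
      have hk := k.2
      split_ifs with h
      · rw [finRotate_apply, Fin.val_add, Fin.val_one', Nat.add_mod_mod, h, Nat.mod_self]
      · rw [finRotate_apply, Fin.val_add, Fin.val_one', Nat.add_mod_mod, Nat.mod_eq_of_lt (by omega)]
    rw [hrot]
    split_ifs with h
    · rw [h, pow_zero, Algebra.smul_def, mul_one]
      have := AdjoinRoot.mk_self (f := s j)
      conv_lhs at this => arg 2; rw [hsz j]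
      rwa [map_sub, map_pow, AdjoinRoot.mk_X, AdjoinRoot.mk_C, sub_eq_zero] at this
    · rw [one_smul]
  · rw [Pi.single_eq_of_ne hj, Pi.single_eq_of_ne hj, mul_zero, smul_zero]

section Counting

/-! ## Counting -/

theorem exists_mult_of_dvd_decomps [Fintype F] {a t r : ℕ} [Fact r.Prime]
    (hat : n = a * t) (ha : 1 ≤ a) (ht : 2 ≤ t)
    (hd : r ∣ Nat.card {D : Fin t → Submodule F (Fin n → F) // Cfsg.Geo.IsMDecomposition a D} / t.factorial)
    (hrq : ¬ r ∣ Fintype.card F) :
    orderOf (Fintype.card F : ZMod r) ≤ n := by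
  classical
  set X := {D : Fin t → Submodule F (Fin n → F) // Cfsg.Geo.IsMDecomposition a D}
  set G := GL (Fin n) F
  haveI : Finite (Submodule F (Fin n → F)) := inferInstance
  haveI : Finite X := inferInstance
  haveI : Fintype X := Fintype.ofFinite X
  rcases isEmpty_or_nonempty X with hX | ⟨⟨D₀⟩⟩
  · exfalso
    let e : Fin t × Fin a ≃ Fin n := finProdFinEquiv.trans (finCongr (by rw [hat, mul_comm]))
    let b : Basis (Fin t × Fin a) F (Fin n → F) := (Pi.basisFun F (Fin n)).reindex e.symm
    obtain ⟨D, hD, -⟩ := exists_decomp_of_basis b (φ := 1) 1 (fun p => ⟨1, one_ne_zero, by simp⟩) ht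
      (show 0 < a from ha) Prod.fst 1 (fun p => rfl) (fun k => by
        rw [Nat.card_congr (show {p : Fin t × Fin a // p.1 = k} ≃ Fin a from
          { toFun := fun p => p.1.2, invFun := fun l => ⟨(k, l), rfl⟩,
            left_inv := fun p => by obtain ⟨⟨j, l⟩, rfl⟩ := p; rfl, right_inv := fun _ => rfl }),
          Nat.card_eq_fintype_card, Fintype.card_fin])
    exact hX.elim' ⟨D, hD⟩
  · have hinj : ∀ D : X, Function.Injective D.1 := fun D =>
      D.2.indep.injective fun j hb => by
        have := D.2.finrank_eq j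
        rw [hb, finrank_bot] at this
        omega
    -- unordered decompositions
    set R : X → Set (Submodule F (Fin n → F)) := fun D => Set.range D.1 with hR
    haveI : Fintype (Set.range R) := Fintype.ofFinite _
    have hfib : ∀ y : Set.range R, Nat.card {D : X // R D = y.1} = t.factorial := by
      rintro ⟨_, D, rfl⟩
      have hperm : ∀ π : Equiv.Perm (Fin t), Cfsg.Geo.IsMDecomposition a fun j => D.1 (π j) := fun π =>
        ⟨D.2.two_le, D.2.pos, fun j => D.2.finrank_eq _, D.2.indep.comp π.injective,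
          (π.surjective.iSup_comp (g := D.1)).trans D.2.iSup_eq_top⟩
      let f : Equiv.Perm (Fin t) → {D' : X // R D' = R D} := fun π =>
        ⟨⟨fun j => D.1 (π j), hperm π⟩, π.surjective.range_comp D.1⟩
      have hf : Function.Bijective f := by
        refine ⟨fun π π' h => Equiv.ext fun j => hinj D ?_, fun D' => ?_⟩
        · exact congrFun (congrArg (fun E : {D' : X // R D' = R D} => E.1.1) h) j
        · have hmem : ∀ j, ∃ k, D.1 k = D'.1.1 j := fun j => by
            have h1 : D'.1.1 j ∈ R D'.1 := ⟨j, rfl⟩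
            rw [D'.2] at h1
            exact h1
          choose k hk using hmem
          have hk' : Function.Injective k := fun x y h => hinj D'.1 (by rw [← hk x, ← hk y, h])
          exact ⟨Equiv.ofBijective k (Finite.injective_iff_bijective.1 hk'),
            Subtype.ext (Subtype.ext (funext hk))⟩
      rw [← Nat.card_congr (Equiv.ofBijective f hf), Nat.card_eq_fintype_card, Fintype.card_perm,
        Fintype.card_fin]
    have hcardX : Nat.card X = Nat.card (Set.range R) * t.factorial := by
      rw [← Nat.card_congr (Equiv.sigmaFiberEquiv (Set.rangeFactorization R)), Nat.card_sigma,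
        Finset.sum_congr rfl fun y _ => (Nat.card_congr (Equiv.subtypeEquivRight fun D => by
          simp [Set.rangeFactorization, Subtype.ext_iff])).trans (hfib y),
        Finset.sum_const, Finset.card_univ, smul_eq_mul, Nat.card_eq_fintype_card]
    rw [hcardX, Nat.mul_div_cancel _ (Nat.factorial_pos t)] at hd
    -- transitivity
    let act : G → X := fun g => ⟨fun j => (D₀.1 j).map (Matrix.toLin' g.1),
      ⟨D₀.2.two_le, D₀.2.pos, fun j => by
        have hinjg : Function.Injective (Matrix.toLin' g.1) := by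
          rw [show (Matrix.toLin' g.1 : (Fin n → F) → Fin n → F) = fun v => g.1.mulVec v from rfl]
          exact Matrix.mulVec_injective_of_isUnit g.isUnit
        rw [← (Submodule.equivMapOfInjective _ hinjg _).finrank_eq]
        exact D₀.2.finrank_eq j,
      iSupIndep_map_orderIso_iff (Submodule.orderIsoMapComap
        (Matrix.toLinearEquiv' g.1 g.invertible)) |>.2 D₀.2.indep, by
        rw [← Submodule.map_iSup, D₀.2.iSup_eq_top, Submodule.map_top]
        exact LinearMap.range_eq_top.2 fun v => ⟨(g⁻¹ : G).1.mulVec v, by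
          rw [Matrix.toLin'_apply, Matrix.mulVec_mulVec, ← Units.val_mul, mul_inv_cancel,
            Units.val_one, Matrix.one_mulVec]⟩⟩⟩
    have hsurj : Function.Surjective act := by
      intro D
      have hbas : ∀ E : X, ∃ b : Basis (Fin t × Fin a) F (Fin n → F), ∀ j,
          E.1 j = Submodule.span F (Set.range fun l => b (j, l)) := by
        intro E
        have hint := DirectSum.isInternal_submodule_of_iSupIndep_of_iSup_eq_top E.2.indep E.2.iSup_eq_top
        let bj : ∀ j, Basis (Fin a) F (E.1 j) := fun j =>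
          (Module.finBasis F (E.1 j)).reindex (finCongr (E.2.finrank_eq j))
        refine ⟨(hint.collectedBasis bj).reindex (Equiv.sigmaEquivProd _ _), fun j => ?_⟩
        have hfun : (fun l => ((hint.collectedBasis bj).reindex (Equiv.sigmaEquivProd _ _)) (j, l)) =
            (E.1 j).subtype ∘ bj j := by
          funext l
          simp [DirectSum.IsInternal.collectedBasis_coe]
          rfl
        rw [hfun, Set.range_comp, ← Submodule.map_span, (bj j).span_eq, Submodule.map_top,
          Submodule.range_subtype]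
      obtain ⟨b₀, hb₀⟩ := hbas D₀
      obtain ⟨b, hb⟩ := hbas D
      set E := b₀.equiv b (Equiv.refl _)
      refine ⟨⟨LinearMap.toMatrix' E.toLinearMap, LinearMap.toMatrix' E.symm.toLinearMap,
        by rw [← LinearMap.toMatrix'_comp]; simp, by rw [← LinearMap.toMatrix'_comp]; simp⟩,
        Subtype.ext (funext fun j => ?_)⟩
      show (D₀.1 j).map (Matrix.toLin' (LinearMap.toMatrix' E.toLinearMap)) = D.1 j
      rw [Matrix.toLin'_toMatrix', hb₀, hb, Submodule.map_span, ← Set.range_comp]
      congr 1
      exact congrArg Set.range (funext fun l => by simp [E])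
    set Θ : G → Set (Submodule F (Fin n → F)) := fun g => R (act g) with hΘ
    have hrange : Set.range Θ = Set.range R := by
      rw [hΘ]
      exact hsurj.range_comp R
    have hmul : ∀ g h : G, Θ (g * h) = (Submodule.map (Matrix.toLin' g.1)) '' Θ h := by
      intro g h
      show Set.range (fun j => (D₀.1 j).map (Matrix.toLin' (g * h).1)) =
        _ '' Set.range (fun j => (D₀.1 j).map (Matrix.toLin' h.1))
      rw [← Set.range_comp]
      congr 1
      funext j
      show (D₀.1 j).map (Matrix.toLin' (g * h).1) = ((D₀.1 j).map (Matrix.toLin' h.1)).map (Matrix.toLin' g.1)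
      rw [Units.val_mul, Matrix.toLin'_mul, Submodule.map_comp]
    have hG : Nat.card (Set.range R) ∣ Nat.card G := by
      rw [← hrange]
      haveI : Fintype (Set.range Θ) := Fintype.ofFinite _
      rw [← Nat.card_congr (Equiv.sigmaFiberEquiv (Set.rangeFactorization Θ)), Nat.card_sigma,
        Finset.sum_congr rfl (g := fun _ => Nat.card {h : G // Θ h = Θ 1}) ?_, Finset.sum_const,
        Finset.card_univ, smul_eq_mul, Nat.card_eq_fintype_card]
      · exact dvd_mul_right _ _
      rintro ⟨_, g, rfl⟩ -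
      refine Nat.card_congr ((Equiv.subtypeEquivRight (q := fun h => Θ h = Θ g) fun h => by
        simp [Set.rangeFactorization, Subtype.ext_iff]).trans ((Equiv.mulLeft g⁻¹).subtypeEquiv fun h => ?_))
      show Θ h = Θ g ↔ Θ (g⁻¹ * h) = Θ 1
      constructor
      · intro he
        rw [hmul, he, ← hmul, inv_mul_cancel]
      · intro he
        have := hmul g (g⁻¹ * h)
        rw [he, ← hmul, mul_inv_cancel_left, mul_one] at this
        exact this
    have h := hd.trans hG
    rw [Matrix.card_GL_field, prod_pow_sub _ le_rfl] at h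
    rcases (Fact.out : r.Prime).dvd_mul.1 h with h | h
    · obtain ⟨i, -, hi⟩ := (Fact.out : r.Prime).prime.exists_mem_finset_dvd h
      exact absurd ((Fact.out : r.Prime).dvd_of_dvd_pow hi) hrq
    · exact (mod_lt_of_exists (exists_of_dvd_topProd Fintype.one_lt_card le_rfl h).2).2

end Counting

/-! ## Obstructions -/

variable {V : Type v} [AddCommGroup V] [Module F V] [FiniteDimensional F V]
  {ι : Type*} [Fintype ι] [DecidableEq ι] {D : ι → Submodule F V} {φ : Module.End F V}
  {σ : Equiv.Perm ι} {r : ℕ} {d : F}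

/-- The scaled orbit sum. -/
noncomputable def orbitSum (φ : Module.End F V) (d : F) (r : ℕ) : Module.End F V :=
  ∑ i ∈ Finset.range r, (d⁻¹ ^ i) • φ ^ i

omit [FiniteDimensional F V] in
theorem orbitSum_mem (hd : d ≠ 0) (hpow : φ ^ r = d ^ r • 1) (v : V) :
    orbitSum φ d r v ∈ Module.End.eigenspace φ d := by
  rw [Module.End.mem_eigenspace_iff]
  set u := fun i => (d⁻¹ ^ i) • (φ ^ i) v with hu
  have hsum : orbitSum φ d r v = ∑ i ∈ Finset.range r, u i := by simp [orbitSum, hu]
  have hstep : ∀ i, φ (u i) = d • u (i + 1) := by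
    intro i
    simp only [hu, map_smul, smul_smul, pow_succ', Module.End.mul_apply]
    rw [← mul_assoc, mul_inv_cancel₀ hd, one_mul]
  have hend : u r = u 0 := by
    simp only [hu, hpow, LinearMap.smul_apply, smul_smul, ← mul_pow, inv_mul_cancel₀ hd, one_pow,
      one_smul, pow_zero]
  rw [hsum, map_sum, Finset.sum_congr rfl fun i _ => hstep i, ← Finset.smul_sum]
  congr 1
  have := Finset.sum_range_succ' u r
  rw [Finset.sum_range_succ, hend] at this
  exact (add_right_cancel this).symm

theorem le_finrank_eigen_of_moved (hi : iSupIndep D) (hs : iSup D = ⊤)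
    (h : ∀ j, (D j).map φ = D (σ j)) (hr : r.Prime) (hσ : σ ^ r = 1) (hd : d ≠ 0)
    (hpow : φ ^ r = d ^ r • 1) {j : ι} (hj : σ j ≠ j) :
    finrank F (D j) ≤ finrank F (Module.End.eigenspace φ d) := by
  refine LinearMap.finrank_le_finrank_of_injective
    (f := LinearMap.codRestrict (Module.End.eigenspace φ d) ((orbitSum φ d r).comp (D j).subtype)
      fun v => orbitSum_mem hd hpow v.1) ?_
  rw [injective_iff_map_eq_zero]
  intro v hv
  have hv' : orbitSum φ d r v.1 = 0 := congrArg Subtype.val hv
  rw [orbitSum, LinearMap.sum_apply] at hv'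
  exact Subtype.ext (eq_zero_of_orbit_sum hi hs h hr hσ hj v.2 (fun i => d⁻¹ ^ i) (pow_zero _)
    (by simpa using hv'))

theorem sum_le_finrank_eigen (hi : iSupIndep D) (hs : iSup D = ⊤) :
    ∑ j, finrank F ↥(D j ⊓ Module.End.eigenspace φ d) ≤ finrank F (Module.End.eigenspace φ d) := by
  obtain ⟨P, hP⟩ := Decomp.exists_proj hi hs
  set f : (∀ j, ↥(D j ⊓ Module.End.eigenspace φ d)) →ₗ[F] Module.End.eigenspace φ d :=
    ∑ j, (Submodule.inclusion inf_le_right).comp (LinearMap.proj j) with hf
  rw [← Module.finrank_pi_fintype]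
  refine LinearMap.finrank_le_finrank_of_injective (f := f) ?_
  rw [injective_iff_map_eq_zero]
  intro w hw
  funext j
  have h1 := congrArg (fun x : Module.End.eigenspace φ d => P j x.1) hw
  simp only [hf, LinearMap.sum_apply, Submodule.coe_sum, map_sum, Submodule.coe_zero, map_zero,
    LinearMap.comp_apply, LinearMap.proj_apply, Submodule.coe_inclusion] at h1
  rw [Finset.sum_eq_single j (fun k _ hk => hP.other j k hk _ (w k).2.1)
    (fun h => absurd (Finset.mem_univ j) h), hP.self j _ (w j).2.1] at h1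
  exact Subtype.ext h1

theorem mul_le_range_of_moved (hi : iSupIndep D) (hs : iSup D = ⊤)
    (h : ∀ j, (D j).map φ = D (σ j)) (hr : r.Prime) (hσ : σ ^ r = 1) (hd : d ≠ 0)
    (hinj : Function.Injective φ) {j : ι} (hj : σ j ≠ j) :
    (r - 1) * finrank F (D j) ≤ finrank F (LinearMap.range (φ - d • 1)) := by
  obtain ⟨P, hP⟩ := Decomp.exists_proj hi hs
  set f : (Fin (r - 1) → D j) →ₗ[F] LinearMap.range (φ - d • 1) :=
    ∑ i : Fin (r - 1), (LinearMap.codRestrict (LinearMap.range (φ - d • 1)) (((φ - d • 1).comp (φ ^ (i : ℕ))).comp (D j).subtype)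
      fun v => LinearMap.mem_range_self _ _).comp (LinearMap.proj i) with hf
  have hdim : finrank F (Fin (r - 1) → D j) = (r - 1) * finrank F (D j) := by
    rw [Module.finrank_pi_fintype]; simp
  rw [← hdim]
  refine LinearMap.finrank_le_finrank_of_injective (f := f) ?_
  rw [injective_iff_map_eq_zero]
  intro w hw
  have hsum : ∑ i : Fin (r - 1), ((φ ^ ((i : ℕ) + 1)) (w i).1 - d • (φ ^ (i : ℕ)) (w i).1) = 0 := by
    have h1 := congrArg Subtype.val hw
    simp only [hf, LinearMap.sum_apply, Submodule.coe_sum, Submodule.coe_zero] at h1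
    rw [← h1]
    exact Finset.sum_congr rfl fun i _ => by simp [pow_succ', Module.End.mul_apply]
  have hz : ∀ m, ∀ i : Fin (r - 1), (i : ℕ) = m → w i = 0 := by
    intro m
    induction m using Nat.strong_induction_on with
    | _ m ih =>
      intro i him
      have hmem : ∀ (l : ℕ) (x : D j), (φ ^ l) x.1 ∈ D ((σ ^ l) j) := fun l x =>
        map_pow_perm h l j ▸ Submodule.mem_map_of_mem x.2
      have hne : ∀ l, l < r → l ≠ m → (σ ^ l) j ≠ (σ ^ m) j := fun l hl hlm he =>
        hlm (orbit_injOn hr hσ hj (Set.mem_Iio.2 hl) (Set.mem_Iio.2 (by have := i.2; omega)) he)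
      have h1 := congrArg (P ((σ ^ m) j)) hsum
      rw [map_sum, map_zero, Finset.sum_eq_single i] at h1
      · rw [map_sub, map_smul, hP.other _ _ (hne _ (by have := i.2; omega) (by omega)) _ (hmem _ _),
          hP.self _ _ (him ▸ hmem _ _), zero_sub, neg_eq_zero, smul_eq_zero_iff_right hd] at h1
        refine Subtype.ext ?_
        rw [Module.End.coe_pow] at h1
        exact hinj.iterate _ (h1.trans (iterate_map_zero φ _).symm)
      · intro k _ hki
        have hkm : (k : ℕ) ≠ m := fun hh => hki (Fin.ext (hh.trans him.symm))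
        rw [map_sub, map_smul, hP.other _ _ (hne _ (by have := k.2; omega) hkm) _ (hmem _ _)]
        by_cases hk1 : (k : ℕ) + 1 = m
        · rw [ih k (by omega) k rfl]
          simp
        · rw [hP.other _ _ (hne _ (by have := k.2; omega) hk1) _ (hmem _ _)]
          simp
      · exact fun h' => absurd (Finset.mem_univ i) h'
  exact funext fun i => hz _ i rfl

theorem card_le_mul_eigen (hi : iSupIndep D) (hs : iSup D = ⊤) (hne : ∀ j, D j ≠ ⊥)
    (h : ∀ j, (D j).map φ = D (σ j)) (hr : r.Prime) (hσ : σ ^ r = 1) (hd : d ≠ 0)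
    (hrF : (r : F) ≠ 0) (hfix : ∀ j, σ j = j → D j ≤ Module.End.eigenspace φ d)
    (hpow : φ ^ r = d ^ r • 1) :
    Fintype.card ι ≤ r * finrank F (Module.End.eigenspace φ d) := by
  obtain ⟨P, hP⟩ := Decomp.exists_proj hi hs
  let O : ι → Set ι := fun j => {k | ∃ i, i < r ∧ (σ ^ i) j = k}
  have hmod : ∀ i j, (σ ^ i) j = (σ ^ (i % r)) j := fun i j => by
    conv_lhs => rw [← Nat.mod_add_div i r, pow_add, pow_mul, hσ, one_pow, mul_one]
  have hO : ∀ j i, O ((σ ^ i) j) = O j := by
    intro j i
    ext k
    constructor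
    · rintro ⟨l, hl, rfl⟩
      refine ⟨(l + i) % r, Nat.mod_lt _ hr.pos, ?_⟩
      rw [← hmod, pow_add, Equiv.Perm.mul_apply]
    · rintro ⟨l, hl, rfl⟩
      refine ⟨(l + (r - i % r)) % r, Nat.mod_lt _ hr.pos, ?_⟩
      rw [← hmod, ← Equiv.Perm.mul_apply, ← pow_add, hmod (l + (r - i % r) + i)]
      congr 2
      have := Nat.mod_lt i hr.pos
      rw [show l + (r - i % r) + i = l + r * (i / r + 1) by
        have := Nat.mod_add_div i r; rw [Nat.mul_add, mul_one]; omega, Nat.add_mul_mod_self_left,
        Nat.mod_eq_of_lt hl]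
  set Q := Set.range O
  haveI : Fintype Q := Fintype.ofFinite Q
  choose rep hrep using fun o : Q => o.2
  have hcard : Fintype.card ι ≤ r * Fintype.card Q := by
    rw [← Fintype.card_fin r, ← Fintype.card_prod]
    refine Fintype.card_le_of_surjective (fun p : Fin r × Q => (σ ^ (p.1 : ℕ)) (rep p.2)) fun k => ?_
    have hk : k ∈ O (rep ⟨O k, k, rfl⟩) := by
      rw [hrep]
      exact ⟨0, hr.pos, rfl⟩
    obtain ⟨i, hi, hk⟩ := hk
    exact ⟨⟨⟨i, hi⟩, ⟨O k, k, rfl⟩⟩, hk⟩
  refine hcard.trans (Nat.mul_le_mul_left r ?_)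
  choose v hv hv0 using fun o : Q => Submodule.exists_mem_ne_zero_of_ne_bot (hne (rep o))
  set w : Q → Module.End.eigenspace φ d := fun o => ⟨orbitSum φ d r (v o), orbitSum_mem hd hpow _⟩
  have hP0 : ∀ o o' : Q, o ≠ o' → P (rep o) (orbitSum φ d r (v o')) = 0 := by
    intro o o' hoo
    rw [orbitSum, LinearMap.sum_apply, map_sum]
    refine Finset.sum_eq_zero fun i _ => ?_
    rw [LinearMap.smul_apply, map_smul, hP.other _ ((σ ^ i) (rep o')) (fun he => hoo ?_) _
      (map_pow_perm h i (rep o') ▸ Submodule.mem_map_of_mem (hv o')), smul_zero]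
    apply Subtype.ext
    rw [← hrep o, ← hrep o', ← he, hO]
  have hP1 : ∀ o : Q, P (rep o) (orbitSum φ d r (v o)) ≠ 0 := by
    intro o h0
    by_cases hj : σ (rep o) = rep o
    · have he := Module.End.mem_eigenspace_iff.1 (hfix _ hj (hv o))
      have hpi : ∀ i, (φ ^ i) (v o) = d ^ i • v o := by
        intro i
        induction i with
        | zero => simp
        | succ i ih => rw [pow_succ', Module.End.mul_apply, ih, map_smul, he, smul_smul, pow_succ]
      rw [orbitSum, LinearMap.sum_apply, map_sum, Finset.sum_congr rfl (g := fun _ => v o)] at h0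
      · rw [Finset.sum_const, Finset.card_range, ← Nat.cast_smul_eq_nsmul F] at h0
        exact hv0 o ((smul_eq_zero.1 h0).resolve_left hrF)
      · intro i _
        rw [LinearMap.smul_apply, hpi, smul_smul, ← mul_pow, inv_mul_cancel₀ hd, one_pow, one_smul,
          hP.self _ _ (hv o)]
    · rw [orbitSum, LinearMap.sum_apply, map_sum, Finset.sum_eq_single 0] at h0
      · simp [hP.self _ _ (hv o)] at h0
        exact hv0 o h0
      · intro i hi' hi0
        rw [LinearMap.smul_apply, map_smul, hP.other _ ((σ ^ i) (rep o)) ?_ _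
          (map_pow_perm h i (rep o) ▸ Submodule.mem_map_of_mem (hv o)), smul_zero]
        intro he
        exact hi0 (orbit_injOn hr hσ hj (Finset.mem_range.1 hi') (Set.mem_Iio.2 hr.pos) (by simpa using he))
      · exact fun h' => absurd (Finset.mem_range.2 hr.pos) h'
  refine LinearIndependent.fintype_card_le_finrank (b := w) ?_
  rw [Fintype.linearIndependent_iff]
  intro c hc o
  have h1 := congrArg (fun x : Module.End.eigenspace φ d => P (rep o) x.1) hc
  simp only [w, Submodule.coe_sum, Submodule.coe_smul, map_sum, map_smul, Submodule.coe_zero, map_zero] at h1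
  rw [Finset.sum_eq_single o (fun o' _ ho' => by rw [hP0 o o' ho'.symm, smul_zero])
    (fun h' => absurd (Finset.mem_univ o) h')] at h1
  exact (smul_eq_zero.1 h1).resolve_right (hP1 o)

end Cfsg.Agent.Classical.Elusive
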