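import Cfsg.Agent.MatModule.Semisimple
import Mathlib.LinearAlgebra.Eigenspace.Zero

/-!
# Invariant subspaces spanned by blocks of a normal form
-/

set_option autoImplicit false

namespace Cfsg.Agent.Classical.Elusive

open Polynomial Module MatModule

universe u v

variable {F : Type u} [Field F] {V : Type v} [AddCommGroup V] [Module F V]
  {ι : Type u} {s : ι → F[X]}

/-- The vectors supported on a set of blocks. -/
def piece (Φ : V ≃ₗ[F] ∀ i, AdjoinRoot (s i)) (S : Finset ι) : Submodule F V where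
  carrier := {v | ∀ i ∉ S, Φ v i = 0}
  add_mem' := fun {a b} ha hb i hi => by rw [map_add, Pi.add_apply, ha i hi, hb i hi, add_zero]
  zero_mem' := fun i _ => by rw [map_zero, Pi.zero_apply]
  smul_mem' := fun c v hv i hi => by rw [map_smul, Pi.smul_apply, hv i hi, smul_zero]

variable {Φ : V ≃ₗ[F] ∀ i, AdjoinRoot (s i)} {φ : Module.End F V}

theorem mem_piece {S : Finset ι} {v : V} : v ∈ piece Φ S ↔ ∀ i ∉ S, Φ v i = 0 := Iff.rfl

theorem piece_mono {S T : Finset ι} (h : S ⊆ T) : piece Φ S ≤ piece Φ T :=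
  fun _ hv i hi => hv i fun h' => hi (h h')

theorem piece_map_le (hΦ : ∀ v, Φ (φ v) = rootMul s (Φ v)) (S : Finset ι) :
    (piece Φ S).map φ ≤ piece Φ S := by
  rintro _ ⟨v, hv, rfl⟩ i hi
  rw [hΦ, rootMul_apply, hv i hi, mul_zero]

theorem finrank_adjoinRoot {f : F[X]} (hf : f ≠ 0) : finrank F (AdjoinRoot f) = f.natDegree := by
  rw [(AdjoinRoot.powerBasis hf).finrank, AdjoinRoot.powerBasis_dim]

theorem finrank_piece (hs : ∀ i, (s i).Monic) (S : Finset ι) :
    finrank F (piece Φ S) = ∑ i ∈ S, (s i).natDegree := by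
  classical
  haveI : ∀ i, Module.Finite F (AdjoinRoot (s i)) := fun i => finite_adjoinRoot (s i) (hs i)
  let g : piece Φ S ≃ₗ[F] ∀ i : S, AdjoinRoot (s i.1) :=
    { toFun := fun v i => Φ v.1 i.1
      map_add' := fun v w => funext fun i => by simp
      map_smul' := fun c v => funext fun i => by simp
      invFun := fun w => ⟨Φ.symm fun i => if h : i ∈ S then w ⟨i, h⟩ else 0,
        fun i hi => by rw [LinearEquiv.apply_symm_apply, dif_neg hi]⟩
      left_inv := fun v => Subtype.ext (Φ.injective (funext fun i => by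
        rw [LinearEquiv.apply_symm_apply]
        by_cases h : i ∈ S
        · rw [dif_pos h]
        · rw [dif_neg h, v.2 i h]))
      right_inv := fun w => funext fun i => by
        show Φ (Φ.symm _) i.1 = w i
        rw [LinearEquiv.apply_symm_apply, dif_pos i.2] }
  rw [g.finrank_eq, Module.finrank_pi_fintype,
    Finset.sum_congr rfl (fun (i : S) _ => finrank_adjoinRoot (hs i.1).ne_zero)]
  exact Finset.sum_coe_sort S fun i => (s i).natDegree

variable [Fintype ι]

theorem finrank_eq_sum (Φ : V ≃ₗ[F] ∀ i, AdjoinRoot (s i)) (hs : ∀ i, (s i).Monic) :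
    finrank F V = ∑ i, (s i).natDegree := by
  rw [← finrank_piece (Φ := Φ) hs Finset.univ]
  have h : piece Φ (Finset.univ : Finset ι) = ⊤ :=
    eq_top_iff.2 fun v _ i hi => absurd (Finset.mem_univ i) hi
  rw [h, finrank_top]

theorem isCompl_piece [DecidableEq ι] (S : Finset ι) :
    IsCompl (piece Φ S) (piece Φ Sᶜ) := by
  constructor
  · rw [Submodule.disjoint_def]
    intro v hv hv'
    refine Φ.map_eq_zero_iff.1 (funext fun i => ?_)
    by_cases h : i ∈ S
    · exact hv' i fun h' => Finset.mem_compl.1 h' h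
    · exact hv i h
  · rw [codisjoint_iff, eq_top_iff]
    intro v _
    refine Submodule.mem_sup.2 ⟨Φ.symm fun i => if i ∈ S then Φ v i else 0,
      fun i hi => by rw [LinearEquiv.apply_symm_apply, if_neg hi],
      Φ.symm fun i => if i ∈ S then 0 else Φ v i,
      fun i hi => by
        rw [LinearEquiv.apply_symm_apply, if_pos]
        simpa using hi, ?_⟩
    apply Φ.injective
    funext i
    simp only [map_add, Pi.add_apply, LinearEquiv.apply_symm_apply]
    split_ifs <;> simp

theorem root_eq_of_linear {f : F[X]} {c : F} (h : f = X - C c) :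
    AdjoinRoot.root f = AdjoinRoot.of f c := by
  subst h
  rw [← sub_eq_zero, ← AdjoinRoot.mk_X, ← AdjoinRoot.mk_C, ← map_sub, AdjoinRoot.mk_self]

omit [Fintype ι] in
theorem piece_le_eigenspace (hΦ : ∀ v, Φ (φ v) = rootMul s (Φ v)) {S : Finset ι} {c : F}
    (hS : ∀ i ∈ S, s i = X - C c) : piece Φ S ≤ Module.End.eigenspace φ c := by
  intro v hv
  refine Module.End.mem_eigenspace_iff.2 (Φ.injective (funext fun i => ?_))
  rw [hΦ, map_smul, rootMul_apply, Pi.smul_apply, Algebra.smul_def]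
  by_cases h : i ∈ S
  · rw [root_eq_of_linear (hS i h)]
    rfl
  · rw [hv i h, mul_zero, mul_zero]

omit [Fintype ι] in
theorem aeval_apply (hΦ : ∀ v, Φ (φ v) = rootMul s (Φ v)) (g : F[X]) :
    ∀ (v : V) (i : ι), Φ (aeval φ g v) i = AdjoinRoot.mk (s i) g * Φ v i := by
  induction g using Polynomial.induction_on' with
  | add a b ha hb =>
    intro v i
    rw [map_add, LinearMap.add_apply, map_add, Pi.add_apply, ha, hb, map_add, add_mul]
  | monomial k a =>
    induction k with
    | zero =>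
      intro v i
      rw [monomial_zero_left, aeval_C, Module.algebraMap_end_apply, map_smul, Pi.smul_apply,
        Algebra.smul_def, AdjoinRoot.mk_C]
      rfl
    | succ k ih =>
      intro v i
      rw [← monomial_mul_X, map_mul (aeval φ), aeval_X, Module.End.mul_apply, ih (φ v) i, hΦ,
        rootMul_apply, map_mul (AdjoinRoot.mk (s i)), AdjoinRoot.mk_X, mul_assoc]

omit [Fintype ι] in
theorem dvd_of_aeval (hΦ : ∀ v, Φ (φ v) = rootMul s (Φ v)) {g : F[X]} (h : aeval φ g = 0) (i : ι) :
    s i ∣ g := by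
  have := aeval_apply hΦ g (Φ.symm 1) i
  rw [h, LinearEquiv.apply_symm_apply, Pi.one_apply, mul_one, LinearMap.zero_apply, map_zero,
    Pi.zero_apply] at this
  exact AdjoinRoot.mk_eq_zero.1 this.symm

omit [Fintype ι] in
theorem aeval_eq_zero (hΦ : ∀ v, Φ (φ v) = rootMul s (Φ v)) {g : F[X]} (h : ∀ i, s i ∣ g) :
    aeval φ g = 0 :=
  LinearMap.ext fun v => Φ.injective (funext fun i => by
    rw [aeval_apply hΦ, AdjoinRoot.mk_eq_zero.2 (h i), zero_mul, LinearMap.zero_apply, map_zero,
      Pi.zero_apply])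

theorem charpoly_eq [FiniteDimensional F V] (hΦ : ∀ v, Φ (φ v) = rootMul s (Φ v))
    (hs : ∀ i, (s i).Monic) : φ.charpoly = ∏ i, s i := by
  haveI : ∀ i, Module.Finite F (AdjoinRoot (s i)) := fun i => finite_adjoinRoot (s i) (hs i)
  haveI : Module.Finite F (∀ i, AdjoinRoot (s i)) := Module.Finite.pi
  rw [← charpoly_rootMul s hs, ← Φ.charpoly_conj φ]
  congr 1
  refine LinearMap.ext fun v => ?_
  show Φ (φ (Φ.symm v)) = _
  rw [hΦ, LinearEquiv.apply_symm_apply]

/-- Choice of blocks when every block has size `1` or `D`. -/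
theorem exists_two_subsets {deg : ι → ℕ} {D n m t : ℕ} (hD : ∀ i, deg i = 1 ∨ deg i = D)
    (hn : ∑ i, deg i = n) (ht : t = 1 ∨ t = 2) (hm : t * m ≤ n) (h : t * (m % D) ≤ n % D) :
    ∃ S T : Finset ι, ∑ i ∈ S, deg i = m ∧
      (t = 2 → Disjoint S T ∧ ∑ i ∈ T, deg i = m) := by
  classical
  set A := Finset.univ.filter fun i => deg i = 1 with hA
  set B := Finset.univ.filter fun i => ¬ deg i = 1 with hB
  have hsA : ∀ S : Finset ι, S ⊆ A → ∑ i ∈ S, deg i = S.card := fun S hS => by
    rw [Finset.sum_congr rfl fun i hi => (Finset.mem_filter.1 (hS hi)).2, Finset.sum_const,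
      smul_eq_mul, mul_one]
  have hsB : ∀ S : Finset ι, S ⊆ B → ∑ i ∈ S, deg i = D * S.card := fun S hS => by
    rw [Finset.sum_congr rfl fun i hi => (hD i).resolve_left (Finset.mem_filter.1 (hS hi)).2,
      Finset.sum_const, smul_eq_mul, mul_comm]
  have htot : A.card + D * B.card = n := by
    rw [← hn, ← hsA A subset_rfl, ← hsB B subset_rfl]
    exact Finset.sum_filter_add_sum_filter_not _ _ _
  have hdisj : Disjoint A B := Finset.disjoint_filter_filter_not _ _ _
  have hdm : m % D + D * (m / D) = m := Nat.mod_add_div m D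
  have hle : n % D ≤ A.card := by
    rw [← htot, Nat.add_mul_mod_self_left]
    exact Nat.mod_le _ _
  set j₁ := min (m / D) B.card with hj₁
  set j₂ := min (m / D) (B.card - j₁) with hj₂
  have h1m : D * j₁ ≤ D * (m / D) := Nat.mul_le_mul_left _ (min_le_left _ _)
  have h2m : D * j₂ ≤ D * (m / D) := Nat.mul_le_mul_left _ (min_le_left _ _)
  have key1 : m - D * j₁ ≤ A.card := by
    rcases min_choice (m / D) B.card with h' | h'
    · rw [hj₁, h']
      rcases ht with rfl | rfl <;> omega
    · rw [hj₁, h']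
      rcases ht with rfl | rfl <;> omega
  have key2 : t = 2 → (m - D * j₁) + (m - D * j₂) ≤ A.card := by
    rintro rfl
    by_cases hc : j₁ + j₂ = B.card
    · have : D * j₁ + D * j₂ = D * B.card := by rw [← Nat.mul_add, hc]
      omega
    · have e1 : j₁ = m / D := by omega
      have e2 : j₂ = m / D := by omega
      rw [e1, e2]
      omega
  obtain ⟨A₁, hA₁, cA₁⟩ := Finset.exists_subset_card_eq key1
  obtain ⟨B₁, hB₁, cB₁⟩ := Finset.exists_subset_card_eq (n := j₁) (s := B) (min_le_right _ _)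
  have sumS : ∑ i ∈ A₁ ∪ B₁, deg i = m := by
    rw [Finset.sum_union (hdisj.mono hA₁ hB₁), hsA _ hA₁, hsB _ hB₁, cA₁, cB₁]
    omega
  by_cases h2 : t = 2
  · have k2 := key2 h2
    obtain ⟨A₂, hA₂, cA₂⟩ := Finset.exists_subset_card_eq (n := m - D * j₂) (s := A \ A₁) (by
      rw [Finset.card_sdiff_of_subset hA₁]; omega)
    obtain ⟨B₂, hB₂, cB₂⟩ := Finset.exists_subset_card_eq (n := j₂) (s := B \ B₁) (by
      rw [Finset.card_sdiff_of_subset hB₁]; omega)
    have hA₂' : A₂ ⊆ A := hA₂.trans Finset.sdiff_subset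
    have hB₂' : B₂ ⊆ B := hB₂.trans Finset.sdiff_subset
    refine ⟨A₁ ∪ B₁, A₂ ∪ B₂, sumS, fun _ => ⟨?_, ?_⟩⟩
    · rw [Finset.disjoint_union_left, Finset.disjoint_union_right, Finset.disjoint_union_right]
      exact ⟨⟨Finset.disjoint_sdiff.mono_right hA₂, hdisj.mono hA₁ hB₂'⟩,
        (hdisj.mono hA₂' hB₁).symm, Finset.disjoint_sdiff.mono_right hB₂⟩
    · rw [Finset.sum_union (hdisj.mono hA₂' hB₂'), hsA _ hA₂', hsB _ hB₂', cA₂, cB₂]
      omega
  · exact ⟨A₁ ∪ B₁, ∅, sumS, fun h' => absurd h' h2⟩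

end Cfsg.Agent.Classical.Elusive
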