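import Cfsg.Agent.MatModule.Unipotent
import Cfsg.Agent.Classical.Elusive.Pieces

/-!
# Invariant decompositions for matrices of order the characteristic
-/

set_option autoImplicit false

namespace Cfsg.Agent.Classical.Elusive

open Polynomial Module MatModule

universe u v

variable {F : Type u} [Field F] {V : Type v} [AddCommGroup V] [Module F V] [FiniteDimensional F V]

theorem exists_sum_eq {ι : Type*} [DecidableEq ι] (e : ι → ℕ) :
    ∀ (ν : Multiset ℕ) (S : Finset ι), ν ≤ S.val.map e → ∃ T, T ⊆ S ∧ ∑ i ∈ T, e i = ν.sum := by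
  intro ν
  induction ν using Multiset.induction with
  | empty => exact fun S _ => ⟨∅, Finset.empty_subset _, by simp⟩
  | cons a ν ih =>
    intro S h
    obtain ⟨i, hi, rfl⟩ := Multiset.mem_map.1 (Multiset.mem_of_le h (Multiset.mem_cons_self a ν))
    rw [← Multiset.cons_erase hi, Multiset.map_cons, Multiset.cons_le_cons_iff, ← Finset.erase_val] at h
    obtain ⟨T, hT, hs⟩ := ih (S.erase i) h
    have hiT : i ∉ T := fun h' => (Finset.mem_erase.1 (hT h')).1 rfl
    exact ⟨insert i T, Finset.insert_subset hi (hT.trans (Finset.erase_subset _ _)), by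
      rw [Finset.sum_insert hiT, hs, Multiset.sum_cons]⟩

theorem exists_decomp_of_le {φ : Module.End F V} {μ ν : Multiset ℕ} (h : HasType φ μ) (hν : ν ≤ μ) :
    ∃ U W : Submodule F V, IsCompl U W ∧ finrank F U = ν.sum ∧ U.map φ ≤ U ∧ W.map φ ≤ W := by
  classical
  obtain ⟨ι, _, e, rfl, Φ, hΦ⟩ := h
  obtain ⟨T, -, hT⟩ := exists_sum_eq e ν Finset.univ hν
  refine ⟨piece Φ T, piece Φ Tᶜ, isCompl_piece T, ?_, piece_map_le hΦ T, piece_map_le hΦ Tᶜ⟩
  rw [finrank_piece (fun i => (monic_X_sub_C (1 : F)).pow _) T, ← hT]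
  exact Finset.sum_congr rfl fun i _ => by rw [natDegree_pow, natDegree_X_sub_C, mul_one]

theorem exists_le_of_decomp {φ : Module.End F V} {μ : Multiset ℕ} (h : HasType φ μ)
    (h0 : (0 : ℕ) ∉ μ) {U W : Submodule F V} (hc : IsCompl U W) (hU : U.map φ ≤ U) (hW : W.map φ ≤ W) :
    ∃ ν, ν ≤ μ ∧ ν.sum = finrank F U := by
  classical
  have hz : (φ - 1) ^ μ.sum = 0 :=
    (sub_one_pow_eq_zero_iff h _).2 fun e he => Multiset.le_sum_of_mem he
  have hres : ∀ (X : Submodule F V) (hX : X.map φ ≤ X),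
      ((φ.restrict fun x hx => hX (Submodule.mem_map_of_mem hx)) - 1 : Module.End F X) ^ μ.sum = 0 := by
    intro X hX
    have : ∀ (j : ℕ) (x : X), ((((φ.restrict fun x hx => hX (Submodule.mem_map_of_mem hx)) - 1 :
        Module.End F X) ^ j) x : V) = ((φ - 1) ^ j) x := by
      intro j
      induction j with
      | zero => intro x; rfl
      | succ j ih =>
        intro x
        rw [pow_succ, pow_succ, Module.End.mul_apply, Module.End.mul_apply, ih]
        rfl
    refine LinearMap.ext fun x => Subtype.ext ?_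
    rw [this, hz]
    rfl
  obtain ⟨a, ha0, ι, _, e, rfl, Φ, hΦ⟩ := exists_hasType _ (hres U hU)
  obtain ⟨b, hb0, κ, _, f, rfl, Ψ, hΨ⟩ := exists_hasType _ (hres W hW)
  set g : ι ⊕ κ → ℕ := Sum.elim e f with hg
  let S : ((∀ i, AdjoinRoot ((lin : F[X]) ^ e i)) × ∀ i, AdjoinRoot ((lin : F[X]) ^ f i)) ≃ₗ[F]
      ∀ i, AdjoinRoot ((lin : F[X]) ^ g i) :=
    (LinearEquiv.sumPiEquivProdPi F ι κ fun i => AdjoinRoot ((lin : F[X]) ^ g i)).symm
  set D := (Submodule.prodEquivOfIsCompl U W hc).symm.trans ((Φ.prodCongr Ψ).trans S) with hD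
  have key : ∀ v, D (φ v) = rootMul (fun i => (lin : F[X]) ^ g i) (D v) := by
    intro v
    obtain ⟨⟨u, w⟩, rfl⟩ := (Submodule.prodEquivOfIsCompl U W hc).surjective v
    have hv : φ (Submodule.prodEquivOfIsCompl U W hc (u, w)) =
        Submodule.prodEquivOfIsCompl U W hc
          (φ.restrict (fun x hx => hU (Submodule.mem_map_of_mem hx)) u,
            φ.restrict (fun x hx => hW (Submodule.mem_map_of_mem hx)) w) := by
      show φ ((u : V) + w) = φ u + φ w
      exact map_add φ _ _
    simp only [hD, hv, LinearEquiv.trans_apply, LinearEquiv.symm_apply_apply, LinearEquiv.prodCongr_apply]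
    rw [hΦ, hΨ]
    funext i
    rcases i with i | i <;> rfl
  have hT : HasType φ (Finset.univ.val.map e + Finset.univ.val.map f) := by
    refine ⟨ι ⊕ κ, inferInstance, g, ?_, D, key⟩
    rw [← Finset.univ_disjSum_univ, Finset.disjSum]
    simp [Multiset.disjSum, Multiset.map_map, hg, Function.comp_def]
  have heq := hasType_unique h hT h0 (by
    rw [Multiset.mem_add]
    exact not_or.2 ⟨ha0, hb0⟩)
  refine ⟨Finset.univ.val.map e, heq ▸ Multiset.le_add_right _ _, ?_⟩
  exact sum_eq_finrank ⟨ι, inferInstance, e, rfl, Φ, hΦ⟩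

end Cfsg.Agent.Classical.Elusive
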