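import Cfsg.Agent.Classical.Elusive.Prime
import Cfsg.Agent.Classical.Elusive.Count

/-!
# Invariant subspace dimensions of projective prime order elements of the special linear group
-/

set_option autoImplicit false

namespace Cfsg.Agent.Classical.Elusive

open Polynomial Module MatModule

universe u

/-- The condition under which `t` independent invariant subspaces of dimension `m` always exist. -/
def Cond (q n m r t : ℕ) : Prop :=
  (orderOf (q : ZMod r) = 1 ∧ (r ∣ m ∨ NoBlock q r n)) ∨
    (2 ≤ orderOf (q : ZMod r) ∧ t * (m % orderOf (q : ZMod r)) ≤ n % orderOf (q : ZMod r))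

variable {F : Type u} [Field F] [Fintype F] {r n : ℕ} [Fact r.Prime]

theorem toLin'_pow_smul (x : Matrix.SpecialLinearGroup (Fin n) F) {c : F}
    (h : ((x ^ r : Matrix.SpecialLinearGroup (Fin n) F) : Matrix (Fin n) (Fin n) F) = c • 1) :
    (Matrix.toLin' (x : Matrix (Fin n) (Fin n) F)) ^ r = c • (1 : Module.End F (Fin n → F)) := by
  rw [← Matrix.toLin'_pow, ← Matrix.SpecialLinearGroup.coe_pow, h, map_smul, Matrix.toLin'_one]
  rfl

theorem scalar_ne_zero (hn : n ≠ 0) (x : Matrix.SpecialLinearGroup (Fin n) F) {c : F}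
    (h : ((x ^ r : Matrix.SpecialLinearGroup (Fin n) F) : Matrix (Fin n) (Fin n) F) = c • 1) : c ≠ 0 := by
  rintro rfl
  have h1 : ((x ^ r : Matrix.SpecialLinearGroup (Fin n) F) : Matrix (Fin n) (Fin n) F).det = 1 :=
    (x ^ r).2
  haveI : Nonempty (Fin n) := ⟨⟨0, by omega⟩⟩
  rw [h, zero_smul, Matrix.det_zero] at h1
  exact zero_ne_one h1

theorem order_pos_of_cast (hr : (r : F) ≠ 0) : 0 < orderOf (Fintype.card F : ZMod r) := by
  refine LargeSylow.order_pos fun hd => hr ?_
  obtain ⟨p, hp⟩ := CharP.exists F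
  haveI := hp
  haveI : Fact p.Prime := ⟨CharP.char_is_prime F p⟩
  obtain ⟨k, -, hk⟩ := FiniteField.card F p
  rw [hk] at hd
  rw [(Nat.prime_dvd_prime_iff_eq (Fact.out : r.Prime) (Fact.out : p.Prime)).1
    ((Fact.out : r.Prime).dvd_of_dvd_pow hd)]
  exact CharP.cast_eq_zero F p

theorem cast_ne_zero_of_not_dvd (h : ¬ r ∣ Fintype.card F) : (r : F) ≠ 0 := by
  intro h0
  obtain ⟨p, hp⟩ := CharP.exists F
  haveI := hp
  haveI : Fact p.Prime := ⟨CharP.char_is_prime F p⟩
  obtain ⟨k, -, hk⟩ := FiniteField.card F p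
  refine h ?_
  rw [hk, ← (Nat.prime_dvd_prime_iff_eq (Fact.out : p.Prime) (Fact.out : r.Prime)).1
    ((CharP.cast_eq_zero_iff F p r).1 h0)]
  exact dvd_pow_self _ k.ne_zero

theorem exists_pieces (hr : (r : F) ≠ 0) (hn : n ≠ 0) {m t : ℕ}
    (hcond : Cond (Fintype.card F) n m r t) (x : Matrix.SpecialLinearGroup (Fin n) F) {c : F}
    (h : ((x ^ r : Matrix.SpecialLinearGroup (Fin n) F) : Matrix (Fin n) (Fin n) F) = c • 1) :
    ∃ (ι : Type u) (_ : Fintype ι) (s : ι → F[X]), (∀ i, (s i).Monic) ∧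
      (∑ i, (s i).natDegree = n) ∧
      (∃ Φ : (Fin n → F) ≃ₗ[F] ∀ i, AdjoinRoot (s i),
        ∀ v, Φ (Matrix.toLin' (x : Matrix (Fin n) (Fin n) F) v) = rootMul s (Φ v)) ∧
      ∃ D, (∀ i, (s i).natDegree = 1 ∨ (s i).natDegree = D) ∧ t * (m % D) ≤ n % D := by
  classical
  have hc := scalar_ne_zero hn x h
  obtain ⟨ι, hι, s, hs, hirr, hdvd, Φ, hΦ⟩ := exists_split hr hc (toLin'_pow_smul x h)
  have hsum : ∑ i, (s i).natDegree = n := by rw [← finrank_eq_sum Φ hs, finrank_fin_fun]
  refine ⟨ι, hι, s, hs, hsum, ⟨Φ, hΦ⟩, ?_⟩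
  by_cases hp : ∃ b : F, b ^ r = c
  · obtain ⟨d, rfl⟩ := hp
    have hd : d ≠ 0 := fun h0 => hc (by rw [h0, zero_pow (Fact.out : r.Prime).ne_zero])
    refine ⟨orderOf (Fintype.card F : ZMod r), fun i => ?_, ?_⟩
    · by_cases hi : s i = X - C d
      · exact Or.inl (by rw [hi, natDegree_X_sub_C])
      · exact Or.inr (natDegree_factor (hs i) (hirr i) hd (hdvd i) hi)
    · rcases hcond with ⟨h1, -⟩ | ⟨-, h1⟩
      · simp [h1, Nat.mod_one]
      · exact h1
  · simp only [not_exists] at hp
    have hdeg : ∀ i, (s i).natDegree = r := fun i => by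
      rw [factor_eq hp (hs i) (hirr i) (hdvd i), natDegree_X_pow_sub_C]
    have hq := dvd_card_sub_one hc hp
    have hi1 : orderOf (Fintype.card F : ZMod r) = 1 :=
      Nat.dvd_one.1 ((LargeSylow.dvd_sub_iff Fintype.card_pos 1).1 (by rwa [pow_one]))
    rcases hcond with ⟨-, hrm | hnb⟩ | ⟨h2, -⟩
    · exact ⟨r, fun i => Or.inr (hdeg i), by rw [Nat.mod_eq_zero_of_dvd hrm, mul_zero]; exact Nat.zero_le _⟩
    · exfalso
      have hk : n = r * Fintype.card ι := by
        rw [← hsum, Finset.sum_congr rfl fun i _ => hdeg i, Finset.sum_const, Finset.card_univ,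
          smul_eq_mul, mul_comm]
      have hdet := det_eq x hΦ hs
      rw [Finset.prod_congr rfl fun i _ => factor_eq hp (hs i) (hirr i) (hdvd i), Finset.prod_const,
        Finset.card_univ, coeff_zero_eq_eval_zero, eval_pow, eval_sub, eval_pow, eval_X, eval_C,
        zero_pow (Fact.out : r.Prime).ne_zero, zero_sub] at hdet
      exact not_det_one hk hn hr hnb hc hp hdet
    · omega

/-- The counterexamples. -/
theorem exists_bad (hr : (r : F) ≠ 0) (hn : n ≠ 0) {m t : ℕ}
    (hle : orderOf (Fintype.card F : ZMod r) ≤ n)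
    (hcond : ¬ Cond (Fintype.card F) n m r t) :
    ∃ (x : Matrix.SpecialLinearGroup (Fin n) F) (c : F),
      ((x ^ r : Matrix.SpecialLinearGroup (Fin n) F) : Matrix (Fin n) (Fin n) F) = c • 1 ∧
      (∀ z : F, (x : Matrix (Fin n) (Fin n) F) ≠ z • 1) ∧
      ((¬ r ∣ m ∧ ∀ W : Submodule F (Fin n → F),
          W.map (Matrix.toLin' (x : Matrix (Fin n) (Fin n) F)) ≤ W → r ∣ finrank F W) ∨
        (c = 1 ∧ n % orderOf (Fintype.card F : ZMod r) < t * (m % orderOf (Fintype.card F : ZMod r)) ∧
          finrank F (Module.End.eigenspace (Matrix.toLin' (x : Matrix (Fin n) (Fin n) F)) 1) ≤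
            n % orderOf (Fintype.card F : ZMod r))) := by
  classical
  set q := Fintype.card F with hqdef
  set i := orderOf (q : ZMod r) with hidef
  have hi0 : 0 < i := order_pos_of_cast hr
  have hr1 := (Fact.out : r.Prime)
  have back : ∀ (x : Matrix.SpecialLinearGroup (Fin n) F) {c : F},
      (Matrix.toLin' (x : Matrix (Fin n) (Fin n) F)) ^ r = c • (1 : Module.End F (Fin n → F)) →
      ((x ^ r : Matrix.SpecialLinearGroup (Fin n) F) : Matrix (Fin n) (Fin n) F) = c • 1 := by
    intro x c hx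
    refine Matrix.toLin'.injective ?_
    rw [Matrix.SpecialLinearGroup.coe_pow, Matrix.toLin'_pow, hx, map_smul, Matrix.toLin'_one]
    rfl
  have scal : ∀ (x : Matrix.SpecialLinearGroup (Fin n) F) (z : F),
      (x : Matrix (Fin n) (Fin n) F) = z • 1 →
      Matrix.toLin' (x : Matrix (Fin n) (Fin n) F) = z • (1 : Module.End F (Fin n → F)) := by
    intro x z hx
    rw [hx, map_smul, Matrix.toLin'_one]
    rfl
  haveI : Nontrivial (Fin n → F) := by
    haveI : Nonempty (Fin n) := ⟨⟨0, Nat.pos_of_ne_zero hn⟩⟩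
    infer_instance
  by_cases h1 : i = 1
  · have hrm : ¬ r ∣ m := fun hh => hcond (Or.inl ⟨h1, Or.inl hh⟩)
    have hnb : ¬ NoBlock q r n := fun hh => hcond (Or.inl ⟨h1, Or.inr hh⟩)
    have hrq : r ∣ q - 1 := by
      have := (LargeSylow.dvd_sub_iff (r := r) (q := q) Fintype.card_pos 1).2 (by rw [← hidef, h1])
      rwa [pow_one] at this
    obtain ⟨c, k, hc, hnp, hk, hdet⟩ := exists_det_one hr hn hrq hnb
    set s : ULift.{u} (Fin k) → F[X] := fun _ => X ^ r - C c with hs_def
    obtain ⟨x, Φ, hΦ⟩ := exists_sl_blocks (n := n) s (fun _ => monic_X_pow_sub_C c hr1.ne_zero)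
      (by simp [hs_def, natDegree_X_pow_sub_C, hk, mul_comm]) (by
        rw [Finset.prod_const, Finset.card_univ, Fintype.card_ulift, Fintype.card_fin,
          coeff_zero_eq_eval_zero, eval_pow, eval_sub, eval_pow, eval_X, eval_C,
          zero_pow hr1.ne_zero, zero_sub, hdet])
    have hpow : (Matrix.toLin' (x : Matrix (Fin n) (Fin n) F)) ^ r = c • (1 : Module.End F (Fin n → F)) := by
      have := aeval_eq_zero hΦ (g := X ^ r - C c) fun _ => dvd_rfl
      rwa [map_sub, map_pow, aeval_X, aeval_C, Algebra.algebraMap_eq_smul_one, sub_eq_zero] at this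
    refine ⟨x, c, back x hpow, fun z hz => ?_, Or.inl ⟨hrm, fun W hW =>
      dvd_finrank_of_nonpower hr hc hnp hpow W hW⟩⟩
    rw [scal x z hz, _root_.smul_pow, one_pow] at hpow
    exact hnp z (smul_left_injective F (one_ne_zero (α := Module.End F (Fin n → F))) hpow)
  · have hi2 : 2 ≤ i := by omega
    have hlt : n % i < t * (m % i) := by
      by_contra hh
      exact hcond (Or.inr ⟨hi2, Nat.le_of_not_lt hh⟩)
    have hcyc : (cyclotomic r F).natDegree ≠ 0 := by
      rw [natDegree_cyclotomic, Nat.totient_prime hr1]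
      have := hr1.two_le
      omega
    obtain ⟨f, hfm, hfirr, hfdvd⟩ := Polynomial.exists_monic_irreducible_factor (cyclotomic r F)
      (fun hu => hcyc (natDegree_eq_zero_of_isUnit hu))
    have hfne : f ≠ X - C (1 : F) := by
      rintro rfl
      have h2 := eval_eq_zero_of_dvd_of_eval_eq_zero hfdvd (x := (1 : F)) (by simp)
      rw [eval_one_cyclotomic_prime] at h2
      exact hr h2
    have hfd : f ∣ X ^ r - C ((1 : F) ^ r) := by
      rw [one_pow, map_one, ← cyclotomic_prime_mul_X_sub_one F r]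
      exact hfdvd.mul_right _
    have hfdeg : f.natDegree = i := natDegree_factor hfm hfirr one_ne_zero hfd hfne
    set k := n / i with hkdef
    have hk1 : 1 ≤ k := (Nat.one_le_div_iff hi0).2 hle
    set e := n % i with hedef
    set s : ULift.{u} (Fin k ⊕ Fin e) → F[X] := fun a => Sum.elim (fun _ => f) (fun _ => X - C 1) a.down
      with hs_def
    have hsm : ∀ a, (s a).Monic := by
      rintro ⟨a | a⟩
      · exact hfm
      · exact monic_X_sub_C 1
    have hprod : ∏ a, s a = f ^ k * (X - C 1) ^ e := by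
      rw [← Equiv.ulift.symm.prod_comp, Fintype.prod_sum_type]
      simp [hs_def]
    have hsum : ∑ a, (s a).natDegree = n := by
      rw [← natDegree_prod _ _ fun a _ => (hsm a).ne_zero, hprod,
        (hfm.pow k).natDegree_mul ((monic_X_sub_C 1).pow e), hfm.natDegree_pow,
        (monic_X_sub_C (1 : F)).natDegree_pow, hfdeg, natDegree_X_sub_C, mul_one]
      exact Nat.div_add_mod' n i
    -- the constant coefficient of the factor has order dividing both `r` and `q - 1`
    have hf0 : (-1 : F) ^ i * f.coeff 0 = 1 := by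
      haveI := finite_adjoinRoot f hfm
      set L := AdjoinRoot f
      have hroot : AdjoinRoot.root f ^ r = (1 : L) := by
        have := AdjoinRoot.mk_eq_zero.2 hfd
        rwa [map_sub, map_pow, AdjoinRoot.mk_X, AdjoinRoot.mk_C, one_pow, map_one, sub_eq_zero] at this
      set δ := LinearMap.det (LinearMap.mulLeft F (AdjoinRoot.root f)) with hδ
      have hδr : δ ^ r = 1 := by
        rw [hδ, ← map_pow, LinearMap.pow_mulLeft, hroot, LinearMap.mulLeft_one]
        exact LinearMap.det_id
      have hδc : δ = (-1) ^ i * f.coeff 0 := by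
        rw [hδ, LinearMap.det_eq_sign_charpoly_coeff, charpoly_mulLeft_root f hfm,
          finrank_adjoinRoot hfm.ne_zero, hfdeg]
      rw [← hδc]
      have hδ0 : δ ≠ 0 := fun h0 => by rw [h0, zero_pow hr1.ne_zero] at hδr; exact zero_ne_one hδr
      have hco : Nat.gcd r (q - 1) = 1 := by
        rw [← Nat.coprime_iff_gcd_eq_one, hr1.coprime_iff_not_dvd]
        intro hd
        rw [← pow_one q, LargeSylow.dvd_sub_iff Fintype.card_pos, ← hidef, Nat.dvd_one] at hd
        exact h1 hd
      have := pow_gcd_eq_one.2 ⟨hδr, FiniteField.pow_card_sub_one_eq_one δ hδ0⟩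
      rwa [hco, pow_one] at this
    have hdet : (-1 : F) ^ n * (∏ a, s a).coeff 0 = 1 := by
      rw [hprod, coeff_zero_eq_eval_zero, eval_mul, eval_pow, eval_pow, ← coeff_zero_eq_eval_zero,
        eval_sub, eval_X, eval_C, zero_sub]
      have hne : n = i * k + e := (Nat.div_add_mod n i).symm
      rw [hne, pow_add, pow_mul, mul_mul_mul_comm, ← mul_pow, hf0, one_pow, one_mul, ← mul_pow]
      simp
    obtain ⟨x, Φ, hΦ⟩ := exists_sl_blocks (n := n) s hsm hsum hdet
    have hsdvd : ∀ a, s a ∣ X ^ r - C (1 : F) := by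
      rintro ⟨a | a⟩
      · simpa [hs_def] using hfd
      · exact dvd_iff_isRoot.2 (by simp [IsRoot])
    have hpow : (Matrix.toLin' (x : Matrix (Fin n) (Fin n) F)) ^ r =
        (1 : F) • (1 : Module.End F (Fin n → F)) := by
      have := aeval_eq_zero hΦ (g := X ^ r - C (1 : F)) hsdvd
      rwa [map_sub, map_pow, aeval_X, aeval_C, Algebra.algebraMap_eq_smul_one, sub_eq_zero] at this
    have heig : finrank F (Module.End.eigenspace (Matrix.toLin' (x : Matrix (Fin n) (Fin n) F)) 1) ≤ e := by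
      refine (LinearMap.finrank_eigenspace_le _ 1).trans ?_
      rw [charpoly_eq hΦ hsm, hprod, rootMultiplicity_mul (mul_ne_zero (pow_ne_zero _ hfm.ne_zero)
        (pow_ne_zero _ (X_sub_C_ne_zero 1))), rootMultiplicity_X_sub_C_pow,
        rootMultiplicity_eq_zero, zero_add]
      rw [IsRoot.def, eval_pow]
      refine pow_ne_zero _ fun h2 => hfne (eq_of_monic_of_associated hfm (monic_X_sub_C 1) ?_)
      exact ((irreducible_X_sub_C 1).associated_of_dvd hfirr (dvd_iff_isRoot.2 h2)).symm
    refine ⟨x, 1, back x hpow, fun z hz => ?_, Or.inr ⟨rfl, hlt, heig⟩⟩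
    have hz' := scal x z hz
    rw [hz', _root_.smul_pow, one_pow] at hpow
    have hzr : z ^ r = 1 := smul_left_injective F (one_ne_zero (α := Module.End F (Fin n → F))) hpow
    have hz1 : z = 1 := by
      have hz0 : z ≠ 0 := fun h0 => by rw [h0, zero_pow hr1.ne_zero] at hzr; exact zero_ne_one hzr
      have hco : Nat.gcd r (q - 1) = 1 := by
        rw [← Nat.coprime_iff_gcd_eq_one, hr1.coprime_iff_not_dvd]
        intro hd
        rw [← pow_one q, LargeSylow.dvd_sub_iff Fintype.card_pos, ← hidef, Nat.dvd_one] at hd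
        exact h1 hd
      have := pow_gcd_eq_one.2 ⟨hzr, FiniteField.pow_card_sub_one_eq_one z hz0⟩
      rwa [hco, pow_one] at this
    rw [hz', hz1, one_smul] at heig
    have htop : Module.End.eigenspace (1 : Module.End F (Fin n → F)) 1 = ⊤ :=
      eq_top_iff.2 fun v _ => Module.End.mem_eigenspace_iff.2 (by simp)
    rw [htop, finrank_top, finrank_fin_fun, hedef] at heig
    have := Nat.mod_lt n hi0
    omega

end Cfsg.Agent.Classical.Elusive
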