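import Mathlib
import Cfsg.Agent.MatModule.UnipotentFormModel
import Cfsg.Agent.MatModule.UnipotentFormCount
import Cfsg.Agent.Classical.QuadBasis
import Cfsg.Agent.Classical.OrthMat
import Cfsg.Prelude.Def_GeometricClasses

/-!
Unipotent isometries of order the characteristic with a prescribed Jordan type, and the types of their
non-degenerate invariant pieces.
-/

set_option autoImplicit false

namespace Cfsg.Agent.Classical.Elusive.OrthUnip

open Module QuadraticMap Cfsg.Agent.MatModule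

universe u v

/-- Every even part occurs an even number of times. -/
def EvenPaired (μ : Multiset ℕ) : Prop := ∀ e : ℕ, Even e → Even (μ.count e)

theorem evenPaired_of (μ : Multiset ℕ) (h0 : (0 : ℕ) ∉ μ) (h : ∀ j, Even j → 0 < j → Even (μ.count j)) :
    EvenPaired μ := by
  intro e he
  rcases Nat.eq_zero_or_pos e with rfl | hpos
  · rw [Multiset.count_eq_zero.2 h0]; exact Even.zero
  · exact h e he hpos

theorem isSquare_mul_of_not {F : Type u} [Field F] [Finite F] {a b : F} (h2 : (2 : F) ≠ 0) (ha : ¬ IsSquare a)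
    (hb : ¬ IsSquare b) : IsSquare (a * b) := by
  classical
  have : Fintype F := Fintype.ofFinite F
  have hF : ringChar F ≠ 2 := fun h => h2 (by
    have : CharP F 2 := h ▸ ringChar.charP F
    exact CharTwo.two_eq_zero)
  have ha0 : a ≠ 0 := fun h => ha (h ▸ IsSquare.zero)
  have hb0 : b ≠ 0 := fun h => hb (h ▸ IsSquare.zero)
  have h1 := (quadraticChar_neg_one_iff_not_isSquare).2 ha
  have h3 := (quadraticChar_neg_one_iff_not_isSquare).2 hb
  refine (quadraticChar_one_iff_isSquare (mul_ne_zero ha0 hb0)).1 ?_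
  rw [map_mul, h1, h3]; norm_num

variable {F : Type u} [Field F]

theorem gram_eq {n : ℕ} (B : LinearMap.BilinForm F (Fin n → F)) (hs : ∀ x y, B x y = B y x) :
    (Matrix.of fun i j : Fin n => polar (B.toQuadraticMap : (Fin n → F) → F) (Pi.single i 1) (Pi.single j 1)) =
      (2 : F) • LinearMap.BilinForm.toMatrix (Pi.basisFun F (Fin n)) B := by
  ext i j
  rw [Matrix.smul_apply, LinearMap.BilinForm.toMatrix_apply, Pi.basisFun_apply, Pi.basisFun_apply, Matrix.of_apply,
    LinearMap.BilinMap.polar_toQuadraticMap, hs (Pi.single j 1) (Pi.single i 1), smul_eq_mul, two_mul]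

/-- A type with an odd part occurs in every non-degenerate quadratic space of the right dimension. -/
theorem exists_isometry [Finite F] (h2 : (2 : F) ≠ 0) {n : ℕ} (Q : QuadraticForm F (Fin n → F))
    (hQ : (polarBilin Q).Nondegenerate) (μ : Multiset ℕ) (hn : μ.sum = n) (h0 : (0 : ℕ) ∉ μ)
    (hμ : EvenPaired μ) {e : ℕ} (he : e ∈ μ) (heo : Odd e) :
    ∃ φ : Module.End F (Fin n → F), HasType φ μ ∧ ∀ v, Q (φ v) = Q v := by
  classical
  obtain ⟨ρ, rfl⟩ := Multiset.exists_cons_of_mem he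
  obtain ⟨B1, φ1, hk1, hs1, hp1, hT1⟩ := UniForm.realizes_single_symm (F := F) h2 heo
  obtain ⟨B2, φ2, hk2, hs2, hp2, hT2⟩ := UniForm.realizes_of_even (F := F) false (fun _ => h2) ρ
    (fun h => h0 (Multiset.mem_cons_of_mem h)) (fun j hj _ => by
      have hj' : Even j := by simpa using hj
      have hje : j ≠ e := fun h => (Nat.not_odd_iff_even.2 hj') (h ▸ heo)
      have := hμ j hj'
      rwa [Multiset.count_cons_of_ne hje] at this)
  replace hk1 : ∀ x y, B1 x y = B1 y x := hk1
  replace hk2 : ∀ x y, B2 x y = B2 y x := hk2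
  have hTp := UniForm.hasType_prod hT1 hT2
  rw [Multiset.singleton_add] at hTp
  let Θ : (Fin n → F) ≃ₗ[F] ((Fin ({e} : Multiset ℕ).sum → F) × (Fin ρ.sum → F)) :=
    LinearEquiv.ofFinrankEq _ _ (by
      rw [Module.finrank_prod, finrank_fin_fun, finrank_fin_fun, finrank_fin_fun, ← hn]
      simp)
  let ψ : Module.End F (Fin n → F) := Θ.symm.conj (φ1.prodMap φ2)
  have hψ : ∀ x, Θ (ψ x) = (φ1.prodMap φ2) (Θ x) := fun x => by simp [ψ, LinearEquiv.conj_apply]
  have hTψ : HasType ψ (e ::ₘ ρ) := UniForm.hasType_equiv Θ.symm (fun x => by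
    simp [ψ, LinearEquiv.conj_apply]) hTp
  let Bc : F → LinearMap.BilinForm F (Fin n → F) := fun c =>
    (c • B1).comp ((LinearMap.fst F _ _) ∘ₗ Θ.toLinearMap) ((LinearMap.fst F _ _) ∘ₗ Θ.toLinearMap) +
      B2.comp ((LinearMap.snd F _ _) ∘ₗ Θ.toLinearMap) ((LinearMap.snd F _ _) ∘ₗ Θ.toLinearMap)
  have hBc : ∀ c x y, Bc c x y = c * B1 (Θ x).1 (Θ y).1 + B2 (Θ x).2 (Θ y).2 := fun c x y => rfl
  have hsym : ∀ c x y, Bc c x y = Bc c y x := fun c x y => by rw [hBc, hBc, hk1, hk2]
  let Qc : F → QuadraticForm F (Fin n → F) := fun c => (Bc c).toQuadraticMap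
  have hQc : ∀ c x, Qc c x = Bc c x x := fun c x => rfl
  have hpol : ∀ c x y, polar (Qc c) x y = 2 * Bc c x y := fun c x y => by
    rw [LinearMap.BilinMap.polar_toQuadraticMap, hsym c y x, two_mul]
  have hnd : ∀ c, c ≠ 0 → (polarBilin (Qc c)).Nondegenerate := fun c hc => Quad.nondeg_of fun x hx => by
    have hx' : ∀ y, Bc c x y = 0 := fun y => by
      have := hx y
      rw [hpol] at this
      exact (mul_eq_zero.1 this).resolve_left h2
    refine Θ.map_eq_zero_iff.1 (Prod.ext (hs1 _ fun y => ?_) (hs2 _ fun y => ?_))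
    · have := hx' (Θ.symm (y, 0))
      rw [hBc] at this
      simpa [hc] using this
    · have := hx' (Θ.symm (0, y))
      rw [hBc] at this
      simpa using this
  have hpres : ∀ c v, Qc c (ψ v) = Qc c v := fun c v => by
    rw [hQc, hQc, hBc, hBc, hψ]
    show c * B1 (φ1 (Θ v).1) (φ1 (Θ v).1) + B2 (φ2 (Θ v).2) (φ2 (Θ v).2) = _
    rw [hp1, hp2]
  let G : QuadraticForm F (Fin n → F) → Matrix (Fin n) (Fin n) F :=
    fun R => Matrix.of fun i j : Fin n => polar (⇑R) (Pi.single i 1) (Pi.single j 1)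
  have hG : ∀ c, (G (Qc c)).det = (G (Qc 1)).det * c ^ e := by
    intro c
    let S : Module.End F (Fin n → F) := Θ.symm.conj
      (LinearMap.prodMap (c • (LinearMap.id : Module.End F (Fin ({e} : Multiset ℕ).sum → F)))
        (LinearMap.id : Module.End F (Fin ρ.sum → F)))
    have hS : Bc c = (Bc 1).compRight S := by
      refine LinearMap.ext fun x => LinearMap.ext fun y => ?_
      show Bc c x y = Bc 1 x (S y)
      rw [hBc, hBc]
      simp [S, LinearEquiv.conj_apply]
    have hdS : LinearMap.det S = c ^ e := by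
      simp only [S]
      rw [LinearEquiv.conj_apply, LinearMap.comp_assoc, LinearMap.det_conj, LinearMap.det_prodMap, LinearMap.det_smul, LinearMap.det_id,
        LinearMap.det_id, finrank_fin_fun]
      simp
    show (Matrix.of _).det = (Matrix.of _).det * _
    rw [gram_eq _ (hsym c), gram_eq _ (hsym 1), hS,
      LinearMap.BilinForm.toMatrix_compRight (Pi.basisFun F (Fin n)), Matrix.det_smul, Matrix.det_smul,
      Matrix.det_mul, LinearMap.det_toMatrix, hdS, mul_assoc]
  obtain ⟨c, hc, hsq⟩ : ∃ c : F, c ≠ 0 ∧ IsSquare ((G (Qc c)).det * (G Q).det) := by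
    by_cases hs : IsSquare ((G (Qc 1)).det * (G Q).det)
    · exact ⟨1, one_ne_zero, hs⟩
    · have hF : ringChar F ≠ 2 := fun h => h2 (by
        have : CharP F 2 := h ▸ ringChar.charP F
        exact CharTwo.two_eq_zero)
      obtain ⟨α, hα⟩ := FiniteField.exists_nonsquare hF
      have hα0 : α ≠ 0 := fun h => hα (h ▸ IsSquare.zero)
      refine ⟨α, hα0, ?_⟩
      rw [hG, mul_right_comm]
      refine isSquare_mul_of_not h2 hs fun h => hα ?_
      obtain ⟨k, rfl⟩ := heo
      obtain ⟨r, hr⟩ := h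
      refine ⟨r / α ^ k, ?_⟩
      field_simp
      linear_combination hr
  obtain ⟨g, hg⟩ := (Quad.isometric_iff_disc h2 (Qc c) Q (hnd c hc) hQ).2 hsq
  refine ⟨g.conj ψ, UniForm.hasType_equiv g (fun x => by simp [LinearEquiv.conj_apply]) hTψ, fun v => ?_⟩
  obtain ⟨w, rfl⟩ := g.surjective v
  have hw : g.conj ψ (g w) = g (ψ w) := by simp [LinearEquiv.conj_apply]
  rw [hw, hg, hg, hpres]

section
variable {V : Type v} [AddCommGroup V] [Module F V] [FiniteDimensional F V]

/-- The type of the restriction to a non-degenerate invariant subspace. -/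
theorem exists_piece (h2 : (2 : F) ≠ 0) {Q : QuadraticForm F V} {φ : Module.End F V} (hφ : ∀ v, Q (φ v) = Q v)
    {μ : Multiset ℕ} (hT : HasType φ μ) (h0 : (0 : ℕ) ∉ μ) {W : Submodule F V}
    (hW : ∀ w ∈ W, w ≠ 0 → ∃ x ∈ W, polar Q x w ≠ 0) (hWφ : W.map φ ≤ W) :
    ∃ ν, ν ≤ μ ∧ ν.sum = finrank F W ∧ EvenPaired ν ∧
      HasType (φ.restrict fun x hx => hWφ (Submodule.mem_map_of_mem hx)) ν := by
  classical
  set B : LinearMap.BilinForm F V := polarBilin Q with hB
  have hBs : ∀ x y, B x y = B y x := fun x y => polar_comm Q x y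
  have hrefl : B.IsRefl := fun x y h => by rw [hBs]; exact h
  have hpresB : ∀ x y, B (φ x) (φ y) = B x y := fun x y => by
    show polar Q (φ x) (φ y) = polar Q x y
    simp only [polar, ← map_add, hφ]
  have hnil : (φ - 1) ^ μ.sum = 0 :=
    (sub_one_pow_eq_zero_iff hT _).2 fun e he => Multiset.le_sum_of_mem he
  have hinj : Function.Injective φ := by
    obtain ⟨U, hU⟩ : IsUnit φ := by simpa using (show IsNilpotent (φ - 1) from ⟨_, hnil⟩).isUnit_one_add
    exact ((Module.End.isUnit_iff φ).1 ⟨U, hU⟩).injective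
  have hWeq : W.map φ = W := Submodule.eq_of_le_of_finrank_eq hWφ
    (Submodule.equivMapOfInjective φ hinj W).finrank_eq.symm
  set P := B.orthogonal W with hP
  have hc : IsCompl W P := by
    refine (LinearMap.BilinForm.isCompl_orthogonal_iff_disjoint hrefl).2 (Submodule.disjoint_def.2 fun x hx hx' => ?_)
    by_contra hne
    obtain ⟨y, hy, hy0⟩ := hW x hx hne
    exact hy0 (hx' y hy)
  have hPφ : P.map φ ≤ P := by
    rintro _ ⟨x, hx, rfl⟩ y hy
    rw [← hWeq] at hy
    obtain ⟨z, hz, rfl⟩ := hy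
    show B (φ z) (φ x) = 0
    rw [hpresB]; exact hx z hz
  have hres : ∀ (X : Submodule F V) (hX : X.map φ ≤ X),
      ((φ.restrict fun x hx => hX (Submodule.mem_map_of_mem hx)) - 1 : Module.End F X) ^ μ.sum = 0 := by
    intro X hX
    have : ∀ (j : ℕ) (x : X), ((((φ.restrict fun x hx => hX (Submodule.mem_map_of_mem hx)) - 1 :
        Module.End F X) ^ j) x : V) = ((φ - 1) ^ j) x := by
      intro j
      induction j with
      | zero => intro x; rfl
      | succ j ih =>
        intro x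
        rw [pow_succ, pow_succ, Module.End.mul_apply, Module.End.mul_apply, ih]
        rfl
    refine LinearMap.ext fun x => Subtype.ext ?_
    rw [this, hnil]
    rfl
  obtain ⟨a, ha0, ha⟩ := exists_hasType _ (hres W hWφ)
  obtain ⟨b, hb0, hb⟩ := exists_hasType _ (hres P hPφ)
  have hprod : HasType φ (a + b) :=
    UniForm.hasType_equiv (Submodule.prodEquivOfIsCompl W P hc) (fun x => by
      simp [Submodule.coe_prodEquivOfIsCompl', map_add]) (UniForm.hasType_prod ha hb)
  have heq : a + b = μ := hasType_unique hprod hT (by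
    rw [Multiset.mem_add]; exact not_or.2 ⟨ha0, hb0⟩) h0
  refine ⟨a, heq ▸ Multiset.le_add_right _ _, sum_eq_finrank ha,
    evenPaired_of a ha0 fun j hj hj0 => ?_, ha⟩
  refine UniForm.even_count_even_of_symm (B := B.comp W.subtype W.subtype)
    ⟨fun x y h => hrefl _ _ h, fun x hx => ?_, fun x y => hpresB _ _⟩ (hres W hWφ)
    (fun x y => hBs _ _) h2 ha hj hj0
  by_contra hne
  obtain ⟨y, hy, hy0⟩ := hW x.1 x.2 (fun h => hne (Subtype.ext h))
  refine hy0 ?_
  rw [polar_comm]
  exact hx ⟨y, hy⟩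

/-- An invariant non-degenerate piece with blocks of size two only is of plus type. -/
theorem exists_singular_half (h2 : (2 : F) ≠ 0) {Q : QuadraticForm F V} {φ : Module.End F V}
    (hφ : ∀ v, Q (φ v) = Q v) {W : Submodule F V} (hWφ : W.map φ ≤ W) {ν : Multiset ℕ}
    (hT : HasType (φ.restrict fun x hx => hWφ (Submodule.mem_map_of_mem hx)) ν) (hν : ∀ e ∈ ν, e = 2) :
    ∃ U : Submodule F V, U ≤ W ∧ (∀ u ∈ U, Q u = 0) ∧ 2 * finrank F U = finrank F W := by
  set ψ := φ.restrict fun x hx => hWφ (Submodule.mem_map_of_mem hx) with hψ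
  set U := (LinearMap.range (ψ - 1)).map W.subtype with hU
  refine ⟨U, fun u hu => ?_, ?_, ?_⟩
  · obtain ⟨z, -, rfl⟩ := hu
    exact z.2
  · rintro _ ⟨z, ⟨y, rfl⟩, rfl⟩
    have hsq : (ψ - 1) ^ 2 = 0 := (sub_one_pow_eq_zero_iff hT 2).2 fun e he => (hν e he).le
    have h0 : ((ψ - 1) ((ψ - 1) y) : V) = 0 := by
      rw [← Module.End.mul_apply, ← pow_two, hsq]; rfl
    set x : V := (y : V)
    have hz : ∀ t : W, ((ψ - 1) t : V) = φ t - t := fun t => rfl
    rw [hz, hz] at h0
    have hfix : φ (φ x - x) = φ x - x := sub_eq_zero.1 h0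
    show Q (((ψ - 1) y : W) : V) = 0
    rw [hz]
    have e1 : polar Q (φ (φ x - x)) (φ x) = polar Q (φ x - x) x := by
      simp only [polar, ← map_add, hφ]
    rw [hfix] at e1
    have e2 : polar Q (φ x - x) (φ x - x) = 0 := by
      conv_lhs => rw [polar_sub_right (Q := Q)]
      rw [e1, sub_self]
    rw [Quad.polar_self'] at e2
    exact (mul_eq_zero.1 e2).resolve_left h2
  · have h1 := finrank_range_sub_one_pow hT 1
    rw [pow_one] at h1
    rw [hU, Submodule.finrank_map_subtype_eq, h1, ← sum_eq_finrank hT]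
    rw [Multiset.eq_replicate_card.2 hν, Multiset.map_replicate, Multiset.sum_replicate, Multiset.sum_replicate]
    simp [mul_comm]

end

section
variable {ι : Type} [Fintype ι] [DecidableEq ι] {p : ℕ} [Fact p.Prime] [CharP F p] [Finite F]

/-- Some element of order `p` of the derived orthogonal group has the given type. -/
theorem exists_omega_elt (hp2 : p ≠ 2) (Q : QuadraticForm F (ι → F)) (hQ : (polarBilin Q).Nondegenerate)
    (hι : 2 ≤ Fintype.card ι) (μ : Multiset ℕ) (hn : μ.sum = Fintype.card ι)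
    (hμp : ∀ e ∈ μ, 0 < e ∧ e ≤ p) (hμ : EvenPaired μ) {e : ℕ} (he : e ∈ μ) (heo : Odd e) :
    ∃ g : GL ι F, g ∈ Cfsg.Geo.omegaGL ⇑Q ∧ g ^ p = 1 ∧
      (∀ v, Q (Matrix.toLin' (g : Matrix ι ι F) v) = Q v) ∧ HasType (Matrix.toLin' (g : Matrix ι ι F)) μ := by
  classical
  have hp := (Fact.out : p.Prime)
  have h2 : (2 : F) ≠ 0 := by
    intro h
    have hd : p ∣ 2 := (CharP.cast_eq_zero_iff F p 2).1 (by exact_mod_cast h)
    exact hp2 ((Nat.prime_dvd_prime_iff_eq hp Nat.prime_two).1 hd)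
  let E : (Fin (Fintype.card ι) → F) ≃ₗ[F] (ι → F) := LinearEquiv.funCongrLeft F F (Fintype.equivFin ι)
  obtain ⟨φ, hT, hφ⟩ := exists_isometry h2 (Q.comp E.toLinearMap) (Quad.nondeg_of fun x hx => by
      refine E.map_eq_zero_iff.1 (Quad.eq_zero_of_polar hQ fun y => ?_)
      obtain ⟨y, rfl⟩ := E.surjective y
      have := hx y
      simpa [polar] using this) μ hn (fun h => absurd (hμp 0 h).1 (lt_irrefl 0)) hμ he heo
  set ψ : Module.End F (ι → F) := E.conj φ with hψdef
  have hTψ : HasType ψ μ := UniForm.hasType_equiv E (fun x => by simp [ψ, LinearEquiv.conj_apply]) hT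
  have hQψ : ∀ v, Q (ψ v) = Q v := fun v => by
    obtain ⟨w, rfl⟩ := E.surjective v
    have := hφ w
    simpa [ψ, LinearEquiv.conj_apply] using this
  have hψp : ψ ^ p = 1 := by
    have hz : (ψ - 1) ^ p = 0 := (sub_one_pow_eq_zero_iff hTψ _).2 fun e he => (hμp e he).2
    have : Nonempty ι := Fintype.card_pos_iff.1 (by omega)
    have : CharP (Module.End F (ι → F)) p :=
      charP_of_injective_algebraMap (FaithfulSMul.algebraMap_injective F _) p
    rw [sub_pow_char_of_commute _ (Commute.one_right _), one_pow, sub_eq_zero] at hz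
    exact hz
  set M := LinearMap.toMatrixAlgEquiv' (R := F) (n := ι) ψ with hM
  have hMp : M ^ p = 1 := by rw [hM, ← map_pow, hψp, map_one]
  let g : GL ι F := Units.ofPowEqOne M p hMp hp.ne_zero
  have hgl : Matrix.toLin' (g : Matrix ι ι F) = ψ := Matrix.toLin'_toMatrix' ψ
  have hgp : g ^ p = 1 := Units.ext hMp
  have hgI : g ∈ Cfsg.isometryGroup F ⇑Q := Quad.mem_isometryGroup_iff.2 fun x => by
    rw [← Matrix.toLin'_apply, hgl]; exact hQψ x
  refine ⟨g, ⟨⟨g, hgI⟩, ?_, rfl⟩, hgp, fun v => by rw [hgl]; exact hQψ v, by rw [hgl]; exact hTψ⟩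
  have hidx : (Cfsg.Omega F ⇑Q).index = 4 := by
    rw [Quad.index_omega]
    exact Quad.index_commutator_odd hQ h2 (by rw [Module.finrank_fintype_fun_eq_card]; exact hι)
  set G : Cfsg.isometryGroup F ⇑Q := ⟨g, hgI⟩
  have h4 : G ^ 4 ∈ Cfsg.Omega F ⇑Q := hidx ▸ Subgroup.pow_index_mem _ G
  have hp1 : G ^ p = 1 := Subtype.ext hgp
  obtain ⟨k, hk⟩ : ∃ k, p % 4 = 2 * k + 1 ∧ True := by
    obtain ⟨j, hj⟩ := hp.eq_two_or_odd'.resolve_left hp2
    exact ⟨(p % 4) / 2, by omega, trivial⟩
  have : G ^ (p % 4) ∈ Cfsg.Omega F ⇑Q := by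
    have h := hp1
    rw [← Nat.div_add_mod p 4, pow_add, pow_mul] at h
    have h' := eq_inv_of_mul_eq_one_right h
    rw [h']
    exact inv_mem (pow_mem h4 _)
  have hk' : p % 4 = 1 ∨ p % 4 = 3 := by omega
  rcases hk' with h | h
  · rwa [h, pow_one] at this
  · rw [h] at this
    have := mul_mem (inv_mem this) h4
    rwa [show (G ^ 3)⁻¹ * G ^ 4 = G from inv_mul_eq_iff_eq_mul.2 (pow_succ _ _)] at this

/-- If all elements of order `p` fix a non-degenerate `m`-space with a property, every type has a subtype of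
sum `m`. -/
theorem exists_subtype_of_forall (hp2 : p ≠ 2) (Q : QuadraticForm F (ι → F)) (hQ : (polarBilin Q).Nondegenerate)
    (hι : 2 ≤ Fintype.card ι) {m : ℕ} (hme : Even m) (hm : m ≤ Fintype.card ι)
    (hall : ∀ g : GL ι F, g ∈ Cfsg.Geo.omegaGL ⇑Q → g ^ p = 1 → g ≠ 1 →
      ∃ W : Submodule F (ι → F), finrank F W = m ∧ (∀ w ∈ W, w ≠ 0 → ∃ x ∈ W, polar Q x w ≠ 0) ∧
        W.map (Matrix.toLin' (g : Matrix ι ι F)) ≤ W) :
    ∀ μ : Multiset ℕ, (∀ e ∈ μ, 0 < e ∧ e ≤ p) → EvenPaired μ → μ.sum = Fintype.card ι →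
      ∃ ν, ν ≤ μ ∧ ν.sum = m ∧ EvenPaired ν := by
  have hp := (Fact.out : p.Prime)
  have h2 : (2 : F) ≠ 0 := by
    intro h
    have hd : p ∣ 2 := (CharP.cast_eq_zero_iff F p 2).1 (by exact_mod_cast h)
    exact hp2 ((Nat.prime_dvd_prime_iff_eq hp Nat.prime_two).1 hd)
  have key : ∀ μ : Multiset ℕ, (∀ e ∈ μ, 0 < e ∧ e ≤ p) → EvenPaired μ → μ.sum = Fintype.card ι →
      ∀ e ∈ μ, Odd e → ∃ ν, ν ≤ μ ∧ ν.sum = m ∧ EvenPaired ν := by
    intro μ hμp hμ hn e he heo
    have h0 : (0 : ℕ) ∉ μ := fun h => absurd (hμp 0 h).1 (lt_irrefl 0)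
    obtain ⟨g, hg, hgp, hgQ, hT⟩ := exists_omega_elt hp2 Q hQ hι μ hn hμp hμ he heo
    by_cases hg1 : g = 1
    · have h1 : ∀ x ∈ μ, x = 1 := by
        subst hg1
        have hz : (Matrix.toLin' ((1 : GL ι F) : Matrix ι ι F) - 1) ^ 1 = 0 := by
          rw [pow_one, Units.val_one, Matrix.toLin'_one]
          exact sub_self _
        intro x hx
        have := (sub_one_pow_eq_zero_iff hT 1).1 hz x hx
        have := (hμp x hx).1
        omega
      have hμ1 := Multiset.eq_replicate_card.2 h1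
      have hcard : Multiset.card μ = Fintype.card ι := by
        rw [← hn]; conv_rhs => rw [hμ1, Multiset.sum_replicate]
        simp
      refine ⟨Multiset.replicate m 1, ?_, by simp, fun x hx => ?_⟩
      · rw [hμ1]; exact (Multiset.replicate_le_replicate 1).2 (by omega)
      · rw [Multiset.count_replicate, if_neg (by rintro rfl; simp at hx)]
        exact Even.zero
    · obtain ⟨W, hWm, hWn, hWg⟩ := hall g hg hgp hg1
      obtain ⟨ν, h1, h3, h4, -⟩ := exists_piece h2 hgQ hT h0 hWn hWg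
      exact ⟨ν, h1, h3.trans hWm, h4⟩
  intro μ hμp hμ hn
  by_cases hodd : ∃ e ∈ μ, Odd e
  · obtain ⟨e, he, heo⟩ := hodd
    exact key μ hμp hμ hn e he heo
  · push Not at hodd
    have heven : ∀ e ∈ μ, Even e := fun e he => Nat.not_odd_iff_even.1 (hodd e he)
    obtain ⟨a, ha⟩ : ∃ a, a ∈ μ := Multiset.exists_mem_of_ne_zero (by
      rintro rfl; simp at hn; omega)
    have ha2 := hμ a (heven a ha)
    obtain ⟨ρ₁, rfl⟩ := Multiset.exists_cons_of_mem ha
    rw [Multiset.count_cons_self] at ha2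
    obtain ⟨ρ, rfl⟩ := Multiset.exists_cons_of_mem (Multiset.count_pos.1 (by
      obtain ⟨k, hk⟩ := ha2; omega) : a ∈ ρ₁)
    have hae : Even a := heven a (Multiset.mem_cons_self _ _)
    have ha1 := hμp a (Multiset.mem_cons_self _ _)
    have hap : a < p := lt_of_le_of_ne ha1.2 fun h => by
      have := hp.eq_two_or_odd'.resolve_left hp2
      exact (Nat.not_odd_iff_even.2 hae) (h ▸ this)
    have hρe : ∀ e ∈ ρ, Even e := fun e he => heven e (by simp [he])
    have hρ : EvenPaired ρ := fun x hx => by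
      have := hμ x hx
      rw [Multiset.count_cons, Multiset.count_cons] at this
      split_ifs at this
      · obtain ⟨k, hk⟩ := this
        exact ⟨k - 1, by omega⟩
      · simpa using this
    have ho1 : Odd (a + 1) := hae.add_one
    have ho2 : Odd (a - 1) := Nat.Even.sub_odd ha1.1 hae odd_one
    obtain ⟨ν, hν, hνm, hνe⟩ := key ((a + 1) ::ₘ (a - 1) ::ₘ ρ) (fun x hx => by
        rcases Multiset.mem_cons.1 hx with rfl | hx
        · omega
        rcases Multiset.mem_cons.1 hx with rfl | hx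
        · obtain ⟨k, rfl⟩ := hae
          omega
        exact hμp x (by simp [hx]))
      (fun x hx => by
        rw [Multiset.count_cons_of_ne (by rintro rfl; exact (Nat.not_odd_iff_even.2 hx) ho1),
          Multiset.count_cons_of_ne (by rintro rfl; exact (Nat.not_odd_iff_even.2 hx) ho2)]
        exact hρ x hx)
      (by simp only [Multiset.sum_cons] at hn ⊢; omega) (a + 1) (Multiset.mem_cons_self _ _) ho1
    classical
    have hneq : a + 1 ≠ a - 1 := by omega
    have hρ1 : a + 1 ∉ ρ := fun h => (Nat.not_odd_iff_even.2 (hρe _ h)) ho1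
    have hρ2 : a - 1 ∉ ρ := fun h => (Nat.not_odd_iff_even.2 (hρe _ h)) ho2
    have hsum : ∀ σ : Multiset ℕ, σ ≤ ρ → Even σ.sum := fun σ hσ => by
      rw [even_iff_two_dvd]
      exact Multiset.dvd_sum fun x hx => even_iff_two_dvd.1 (hρe x (Multiset.mem_of_le hσ hx))
    by_cases h1 : a + 1 ∈ ν <;> by_cases h2' : a - 1 ∈ ν
    · obtain ⟨σ₁, rfl⟩ := Multiset.exists_cons_of_mem h1
      rw [Multiset.cons_le_cons_iff] at hν
      obtain ⟨σ, rfl⟩ := Multiset.exists_cons_of_mem
        ((Multiset.mem_cons.1 h2').resolve_left (fun h => hneq h.symm))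
      rw [Multiset.cons_le_cons_iff] at hν
      refine ⟨a ::ₘ a ::ₘ σ, Multiset.cons_le_cons _ (Multiset.cons_le_cons _ hν), ?_, fun x hx => ?_⟩
      · rw [← hνm]; simp only [Multiset.sum_cons]; omega
      · have hh := hνe x hx
        rw [Multiset.count_cons_of_ne (by rintro rfl; exact (Nat.not_odd_iff_even.2 hx) ho1),
          Multiset.count_cons_of_ne (by rintro rfl; exact (Nat.not_odd_iff_even.2 hx) ho2)] at hh
        rw [Multiset.count_cons, Multiset.count_cons]
        split_ifs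
        · obtain ⟨k, hk⟩ := hh
          exact ⟨k + 1, by omega⟩
        · simpa using hh
    · exfalso
      obtain ⟨σ, rfl⟩ := Multiset.exists_cons_of_mem h1
      rw [Multiset.cons_le_cons_iff, Multiset.le_cons_of_notMem (fun h => h2' (Multiset.mem_cons_of_mem h))] at hν
      rw [Multiset.sum_cons] at hνm
      obtain ⟨u, hu⟩ := hsum σ hν
      obtain ⟨w, hw⟩ := hme
      obtain ⟨t, ht⟩ := ho1
      omega
    · exfalso
      obtain ⟨σ, rfl⟩ := Multiset.exists_cons_of_mem h2'
      rw [Multiset.le_cons_of_notMem h1, Multiset.cons_le_cons_iff] at hν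
      rw [Multiset.sum_cons] at hνm
      obtain ⟨u, hu⟩ := hsum σ hν
      obtain ⟨w, hw⟩ := hme
      obtain ⟨t, ht⟩ := ho2
      omega
    · rw [Multiset.le_cons_of_notMem h1, Multiset.le_cons_of_notMem h2'] at hν
      exact ⟨ν, hν.trans ((Multiset.le_cons_self _ _).trans (Multiset.le_cons_self _ _)), hνm, hνe⟩

omit [Fintype ι] [DecidableEq ι] [Finite F] in
/-- Elements of order `p` which are scalar are trivial. -/
theorem eq_one_of_pow_char {z : F} (h : z ^ p = 1) : z = 1 := by
  have h1 : (z - 1) ^ p = 0 := by rw [sub_pow_char, h, one_pow, sub_self]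
  exact sub_eq_zero.1 (pow_eq_zero_iff (Fact.out : p.Prime).ne_zero |>.1 h1)

end

/-- A sub-multiset of `k` twos and a list `t`. -/
theorem le_twos {k : ℕ} {t ν : Multiset ℕ} (h : ν ≤ Multiset.replicate (2 * k) 2 + t) (hν : EvenPaired ν)
    (ht : 2 ∉ t) : ∃ j s, s ≤ t ∧ ν.sum = 4 * j + s.sum ∧ ν = Multiset.replicate (2 * j) 2 + s := by
  classical
  obtain ⟨j, hj⟩ := hν 2 even_two
  refine ⟨j, ν.filter (fun x => x ≠ 2), Multiset.le_iff_count.2 fun x => ?_, ?_, ?_⟩
  · rw [Multiset.count_filter]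
    split_ifs with hx
    · have := Multiset.le_iff_count.1 h x
      rwa [Multiset.count_add, Multiset.count_replicate, if_neg (fun e => hx e.symm), zero_add] at this
    · exact Nat.zero_le _
  all_goals
    have e : ν = Multiset.replicate (2 * j) 2 + ν.filter (fun x => x ≠ 2) := by
      rw [two_mul, ← hj]
      conv_lhs => rw [← Multiset.filter_add_not (fun x => x = 2) ν, Multiset.filter_eq']
  · conv_lhs => rw [e, Multiset.sum_add, Multiset.sum_replicate, smul_eq_mul]
    omega
  · exact e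

end Cfsg.Agent.Classical.Elusive.OrthUnip
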