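import Cfsg.Agent.Classical.Elusive.Pieces
import Cfsg.Agent.MatModule.LargeSylow
import Mathlib.FieldTheory.KummerPolynomial
import Mathlib.RingTheory.Polynomial.Cyclotomic.Eval
import Mathlib.LinearAlgebra.Semisimple

/-!
# Normal forms of matrices of determinant one with a scalar prime power
-/

set_option autoImplicit false

namespace Cfsg.Agent.Classical.Elusive

open Polynomial Module MatModule

universe u v

variable {F : Type u} [Field F] [Fintype F] {r : ℕ} [Fact r.Prime]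

/-- An irreducible factor of `X ^ r - d ^ r` other than `X - d` has degree the order of `q` modulo `r`. -/
theorem natDegree_factor {f : F[X]} (hf : f.Monic) (hirr : Irreducible f) {d : F} (hd : d ≠ 0)
    (hdvd : f ∣ X ^ r - C (d ^ r)) (hne : f ≠ X - C d) :
    f.natDegree = orderOf (Fintype.card F : ZMod r) := by
  classical
  haveI := Fact.mk hirr
  haveI := finite_adjoinRoot f hf
  haveI : Finite (AdjoinRoot f) := Module.finite_of_finite F
  haveI := Fintype.ofFinite (AdjoinRoot f)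
  set L := AdjoinRoot f
  set q := Fintype.card F with hq
  set i := orderOf (q : ZMod r) with hi
  have hρ : AdjoinRoot.root f ^ r = AdjoinRoot.of f d ^ r := by
    have := AdjoinRoot.mk_eq_zero.2 hdvd
    rwa [map_sub, map_pow, AdjoinRoot.mk_X, AdjoinRoot.mk_C, sub_eq_zero, map_pow] at this
  have hd' : AdjoinRoot.of f d ≠ 0 := (_root_.map_ne_zero _).2 hd
  set ζ : L := AdjoinRoot.root f / AdjoinRoot.of f d with hζ
  have hζr : ζ ^ r = 1 := by rw [hζ, div_pow, hρ, div_self (pow_ne_zero _ hd')]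
  have hζ1 : ζ ≠ 1 := by
    rw [hζ, Ne, div_eq_one_iff_eq hd']
    intro h
    refine hne (eq_of_monic_of_associated hf (monic_X_sub_C d)
      (hirr.associated_of_dvd (irreducible_X_sub_C d) (AdjoinRoot.mk_eq_zero.1 ?_)))
    rw [map_sub, AdjoinRoot.mk_X, AdjoinRoot.mk_C, h, sub_self]
  have hord : orderOf ζ = r := orderOf_eq_prime hζr hζ1
  have hcard : Fintype.card L = q ^ f.natDegree := by
    rw [Module.card_eq_pow_finrank (K := F), finrank_adjoinRoot hf.ne_zero]
  have hq1 : 1 ≤ q := Fintype.card_pos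
  have h1 : r ∣ q ^ f.natDegree - 1 := by
    rw [← hcard, ← hord]
    exact orderOf_dvd_of_pow_eq_one (FiniteField.pow_card_sub_one_eq_one _
      fun h => by rw [h, zero_pow (Fact.out : r.Prime).ne_zero] at hζr; exact zero_ne_one hζr)
  have h2 := (LargeSylow.dvd_sub_iff hq1 _).1 h1
  refine le_antisymm ?_ (Nat.le_of_dvd hirr.natDegree_pos h2)
  have hi0 : 0 < i := Nat.pos_of_ne_zero fun h0 => by
    rw [← hi, h0, zero_dvd_iff] at h2
    exact hirr.natDegree_pos.ne' h2
  have hfix : ((FiniteField.frobeniusAlgHom F L) ^ i : L →ₐ[F] L) = 1 := by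
    refine AdjoinRoot.algHom_ext ?_
    rw [AlgHom.coe_pow, FiniteField.coe_frobeniusAlgHom, pow_iterate, AlgHom.one_apply]
    have hr' : r ∣ q ^ i - 1 := (LargeSylow.dvd_sub_iff hq1 _).2 dvd_rfl
    have hz : ζ ^ (q ^ i) = ζ := by
      obtain ⟨k, hk⟩ := hr'
      rw [show q ^ i = r * k + 1 by have := Nat.one_le_pow i q hq1; omega, pow_succ, pow_mul, hζr,
        one_pow, one_mul]
    have hdd : (AdjoinRoot.of f d) ^ (q ^ i) = AdjoinRoot.of f d := by
      rw [← map_pow, FiniteField.pow_card_pow]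
    have hroot : AdjoinRoot.root f = ζ * AdjoinRoot.of f d := (div_mul_cancel₀ _ hd').symm
    rw [hroot]
    show (ζ * AdjoinRoot.of f d) ^ q ^ i = _
    rw [mul_pow, hz, hdd]
  have h3 := orderOf_dvd_of_pow_eq_one hfix
  rw [FiniteField.orderOf_frobeniusAlgHom, finrank_adjoinRoot hf.ne_zero] at h3
  exact Nat.le_of_dvd hi0 h3

variable {V : Type v} [AddCommGroup V] [Module F V] [FiniteDimensional F V]

omit [Fintype F] in
theorem squarefree_pow_sub (hr : (r : F) ≠ 0) {c : F} (hc : c ≠ 0) : Squarefree (X ^ r - C c : F[X]) :=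
  (separable_X_pow_sub_C c hr hc).squarefree

omit [Fintype F] [Fact r.Prime] [FiniteDimensional F V] in
theorem aeval_pow_sub {φ : Module.End F V} {c : F} (h : φ ^ r = c • 1) :
    aeval φ (X ^ r - C c : F[X]) = 0 := by
  rw [map_sub, map_pow, aeval_X, aeval_C, Algebra.algebraMap_eq_smul_one, h, sub_self]

/-- Normal form of an endomorphism with scalar `r`-th power. -/
theorem exists_split (hr : (r : F) ≠ 0) {φ : Module.End F V} {c : F} (hc : c ≠ 0)
    (h : φ ^ r = c • 1) :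
    ∃ (ι : Type u) (_ : Fintype ι) (s : ι → F[X]), (∀ i, (s i).Monic) ∧ (∀ i, Irreducible (s i)) ∧
      (∀ i, s i ∣ X ^ r - C c) ∧
      ∃ Φ : V ≃ₗ[F] ∀ i, AdjoinRoot (s i), ∀ v, Φ (φ v) = rootMul s (Φ v) := by
  obtain ⟨ι, hι, s, hs, hirr, Φ, hΦ⟩ := exists_rootMul φ (squarefree_pow_sub hr hc) (aeval_pow_sub h)
  exact ⟨ι, hι, s, hs, hirr, fun i => dvd_of_aeval hΦ (aeval_pow_sub h) i, Φ, hΦ⟩

omit [Fintype F] in
theorem factor_eq {c : F} (hc : ∀ b : F, b ^ r ≠ c) {f : F[X]} (hf : f.Monic) (hirr : Irreducible f)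
    (h : f ∣ X ^ r - C c) : f = X ^ r - C c :=
  eq_of_monic_of_associated hf (monic_X_pow_sub_C c (Fact.out : r.Prime).ne_zero)
    (hirr.associated_of_dvd (X_pow_sub_C_irreducible_of_prime Fact.out hc) h)

theorem restrict_pow {φ : Module.End F V} {c : F} (h : φ ^ r = c • 1) (W : Submodule F V)
    (hW : W.map φ ≤ W) :
    (φ.restrict fun x hx => hW (Submodule.mem_map_of_mem hx) : Module.End F W) ^ r = c • 1 := by
  rw [Module.End.pow_restrict]
  refine LinearMap.ext fun x => Subtype.ext ?_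
  show (φ ^ r) x.1 = _
  rw [h]
  rfl

/-- Invariant subspaces have dimension divisible by `r` if the scalar is not an `r`-th power. -/
theorem dvd_finrank_of_nonpower (hr : (r : F) ≠ 0) {φ : Module.End F V} {c : F} (hc : c ≠ 0)
    (hnp : ∀ b : F, b ^ r ≠ c) (h : φ ^ r = c • 1) (W : Submodule F V) (hW : W.map φ ≤ W) :
    r ∣ finrank F W := by
  obtain ⟨ι, _, s, hs, hirr, hdvd, Φ, hΦ⟩ := exists_split hr hc (restrict_pow h W hW)
  rw [finrank_eq_sum Φ hs]
  refine Finset.dvd_sum fun i _ => ?_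
  rw [factor_eq hnp (hs i) (hirr i) (hdvd i), natDegree_X_pow_sub_C]

/-- Dimension of an invariant subspace, when the scalar is the `r`-th power of `d`. -/
theorem exists_finrank_decomp (hr : (r : F) ≠ 0) {φ : Module.End F V} {d : F} (hd : d ≠ 0)
    (h : φ ^ r = d ^ r • 1) (W : Submodule F V) (hW : W.map φ ≤ W) :
    ∃ a j, finrank F W = a + orderOf (Fintype.card F : ZMod r) * j ∧
      a ≤ finrank F ↥(W ⊓ Module.End.eigenspace φ d) := by
  classical
  obtain ⟨ι, _, s, hs, hirr, hdvd, Φ, hΦ⟩ := exists_split hr (pow_ne_zero r hd) (restrict_pow h W hW)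
  set S := Finset.univ.filter fun i => s i = X - C d with hS
  refine ⟨∑ i ∈ S, (s i).natDegree, (Finset.univ \ S).card, ?_, ?_⟩
  · rw [finrank_eq_sum Φ hs, ← Finset.sum_sdiff (Finset.subset_univ S), add_comm]
    congr 1
    rw [Finset.sum_congr rfl (g := fun _ => orderOf (Fintype.card F : ZMod r)) fun i hi => ?_,
      Finset.sum_const, smul_eq_mul, mul_comm]
    exact natDegree_factor (hs i) (hirr i) hd (hdvd i) fun he =>
      (Finset.mem_sdiff.1 hi).2 (Finset.mem_filter.2 ⟨Finset.mem_univ i, he⟩)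
  · rw [← finrank_piece (Φ := Φ) hs S, ← Submodule.finrank_map_subtype_eq W]
    refine Submodule.finrank_mono ?_
    rintro _ ⟨w, hw, rfl⟩
    refine ⟨w.2, Module.End.mem_eigenspace_iff.2 ?_⟩
    have := piece_le_eigenspace hΦ (fun i hi => (Finset.mem_filter.1 hi).2) hw
    exact congrArg Subtype.val (Module.End.mem_eigenspace_iff.1 this)

theorem exists_compl_invariant (hr : (r : F) ≠ 0) {φ : Module.End F V} {c : F} (hc : c ≠ 0)
    (h : φ ^ r = c • 1) (W : Submodule F V) (hW : W.map φ ≤ W) :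
    ∃ W' : Submodule F V, W'.map φ ≤ W' ∧ IsCompl W W' := by
  have hss := Module.End.isSemisimple_of_squarefree_aeval_eq_zero (squarefree_pow_sub hr hc)
    (aeval_pow_sub h)
  obtain ⟨W', h1, h2⟩ := Module.End.isSemisimple_iff.1 hss W (Submodule.map_le_iff_le_comap.1 hW)
  exact ⟨W', Submodule.map_le_iff_le_comap.2 h1, h2⟩

/-! ## The field-theoretic condition -/

theorem dvd_card_sub_one {c : F} (hc : c ≠ 0) (hnp : ∀ b : F, b ^ r ≠ c) :
    r ∣ Fintype.card F - 1 := by
  classical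
  by_contra h
  have hco : (Nat.card Fˣ).Coprime r := by
    rw [Nat.card_eq_fintype_card, Fintype.card_units]
    exact ((Fact.out : r.Prime).coprime_iff_not_dvd.2 h).symm
  exact hnp ((powCoprime hco).symm (Units.mk0 c hc) : Fˣ).1 (by
    rw [← Units.val_pow_eq_pow_val]
    exact congrArg Units.val ((powCoprime hco).apply_symm_apply (Units.mk0 c hc)))

/-- The number theoretic condition forbidding irreducible blocks of size `r`. -/
def NoBlock (q r n : ℕ) : Prop :=
  padicValNat r n ≤ padicValNat r (q - 1) ∧ (r = 2 → Even n → q % 4 = 1)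

theorem isPow_of_pow_eq_one {e : F} {t : ℕ} (ht : t ≠ 0) (he : e ^ t = 1)
    (hq : r ∣ Fintype.card F - 1) (hv : padicValNat r t < padicValNat r (Fintype.card F - 1)) :
    ∃ b : F, b ^ r = e := by
  classical
  set N := Fintype.card F - 1 with hN
  have hN0 : 0 < N := Nat.sub_pos_of_lt Fintype.one_lt_card
  set g := Nat.gcd t N with hg
  have hg0 : g ≠ 0 := (Nat.gcd_pos_of_pos_right t hN0).ne'
  obtain ⟨M, hM⟩ : g ∣ N := Nat.gcd_dvd_right t N
  have hrM : r ∣ M := by
    by_contra h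
    have h1 : padicValNat r N = padicValNat r g := by
      rw [hM, padicValNat.mul hg0 (fun h0 => by rw [h0, mul_zero] at hM; omega),
        padicValNat.eq_zero_of_not_dvd h, add_zero]
    have h2 : padicValNat r g ≤ padicValNat r t :=
      (padicValNat_dvd_iff_le ht).1 ((pow_padicValNat_dvd).trans (Nat.gcd_dvd_left t N))
    omega
  obtain ⟨M', rfl⟩ := hrM
  have he0 : e ≠ 0 := fun h => by rw [h, zero_pow ht] at he; exact zero_ne_one he
  obtain ⟨γ, hγ⟩ := IsCyclic.exists_monoid_generator (α := Fˣ)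
  obtain ⟨a, ha⟩ := (Submonoid.mem_powers_iff _ _).1 (hγ (Units.mk0 e he0))
  have hord : orderOf γ = N := by
    rw [hN, ← Fintype.card_units, ← Nat.card_eq_fintype_card]
    exact orderOf_eq_card_of_forall_mem_zpowers fun x => by
      obtain ⟨k, hk⟩ := (Submonoid.mem_powers_iff _ _).1 (hγ x)
      exact ⟨k, by simpa using hk⟩
  have hNF : e ^ N = 1 := FiniteField.pow_card_sub_one_eq_one e he0
  have heg : (γ ^ a) ^ g = 1 := by
    rw [show γ ^ a = Units.mk0 e he0 from ha, hg, pow_gcd_eq_one.2 ⟨?_, ?_⟩]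
    · exact Units.ext (by rw [Units.val_pow_eq_pow_val]; exact he)
    · exact Units.ext (by rw [Units.val_pow_eq_pow_val]; exact hNF)
  rw [← pow_mul, ← orderOf_dvd_iff_pow_eq_one, hord] at heg
  have : g * r ∣ g * a := by
    rw [mul_comm g a]
    exact (Dvd.intro M' (by rw [mul_assoc]; exact hM.symm)).trans heg
  obtain ⟨a', rfl⟩ := Nat.dvd_of_mul_dvd_mul_left (Nat.pos_of_ne_zero hg0) this
  exact ⟨(γ ^ a').1, by rw [← Units.val_pow_eq_pow_val, ← pow_mul, mul_comm a' r, ha]; rfl⟩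

theorem not_det_one {n k : ℕ} (hk : n = r * k) (hn : n ≠ 0) (hr : (r : F) ≠ 0)
    (hcond : NoBlock (Fintype.card F) r n) {c : F} (hc : c ≠ 0) (hnp : ∀ b : F, b ^ r ≠ c) :
    (-1 : F) ^ n * (-c) ^ k ≠ 1 := by
  intro h
  have hk0 : k ≠ 0 := by rintro rfl; simp [hk] at hn
  have hr0 := (Fact.out : r.Prime).ne_zero
  rw [hk, pow_mul, ← mul_pow] at h
  have hq := dvd_card_sub_one hc hnp
  have hv : padicValNat r k < padicValNat r (Fintype.card F - 1) := by
    have := hcond.1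
    rw [hk, padicValNat.mul hr0 hk0, padicValNat_self] at this
    omega
  obtain ⟨b, hb⟩ := isPow_of_pow_eq_one hk0 h hq hv
  rcases (Fact.out : r.Prime).eq_two_or_odd' with h2 | h2
  · subst h2
    have h4 : Fintype.card F % 4 = 1 := hcond.2 rfl ⟨k, by omega⟩
    obtain ⟨i, hi⟩ := (FiniteField.isSquare_neg_one_iff (F := F)).2 (by omega)
    refine hnp (i * b) ?_
    rw [mul_pow, hb, pow_two i, ← hi]
    ring
  · exact hnp b (by rw [hb, h2.neg_one_pow]; ring)

theorem exists_det_one {n : ℕ} (hr : (r : F) ≠ 0) (hn : n ≠ 0) (hrq : r ∣ Fintype.card F - 1)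
    (hcond : ¬ NoBlock (Fintype.card F) r n) :
    ∃ (c : F) (k : ℕ), c ≠ 0 ∧ (∀ b : F, b ^ r ≠ c) ∧ n = r * k ∧ (-1 : F) ^ n * (-c) ^ k = 1 := by
  classical
  set q := Fintype.card F with hq
  set N := q - 1 with hN
  have hr1 := (Fact.out : r.Prime)
  have hN0 : 0 < N := Nat.sub_pos_of_lt Fintype.one_lt_card
  by_cases h2 : r = 2 ∧ q % 4 ≠ 1 ∧ Even n
  · obtain ⟨rfl, h4, k, rfl⟩ := h2
    refine ⟨-1, k, neg_ne_zero.2 one_ne_zero, fun b hb => h4 ?_, by omega, by simp⟩
    have : IsSquare (-1 : F) := ⟨b, by rw [← hb, pow_two]⟩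
    have := FiniteField.isSquare_neg_one_iff.1 this
    omega
  have hlt : padicValNat r N < padicValNat r n := by
    by_contra h
    exact hcond ⟨Nat.le_of_not_lt h, fun he hev => by by_contra h'; exact h2 ⟨he, h', hev⟩⟩
  set v := padicValNat r N with hv
  have hv1 : 1 ≤ v := one_le_padicValNat_of_dvd hN0.ne' hrq
  obtain ⟨k, hk⟩ : r ∣ n := (dvd_pow_self r (by omega : padicValNat r n ≠ 0)).trans pow_padicValNat_dvd
  have hkv : r ^ v ∣ k := by
    have h1 : r ^ (v + 1) ∣ r * k := hk ▸ (padicValNat_dvd_iff_le hn).2 hlt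
    rw [pow_succ'] at h1
    exact Nat.dvd_of_mul_dvd_mul_left hr1.pos h1
  obtain ⟨x, hx⟩ := LargeSylow.exists_orderOf (H := Fˣ) (k := r ^ v)
    (by rw [Nat.card_eq_fintype_card, Fintype.card_units]; exact pow_padicValNat_dvd)
  have hxk : x ^ k = 1 := orderOf_dvd_iff_pow_eq_one.1 (hx ▸ hkv)
  have hxnp : ∀ b : F, b ^ r ≠ (x : F) := by
    intro b hb
    have hb0 : b ≠ 0 := fun h => by rw [h, zero_pow hr1.ne_zero] at hb; exact x.ne_zero hb.symm
    have h' : x = Units.mk0 b hb0 ^ r := Units.ext (by rw [Units.val_pow_eq_pow_val]; exact hb.symm)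
    obtain ⟨M, hM⟩ : r ∣ N := hrq
    have h3 : x ^ M = 1 := by
      rw [h', ← pow_mul, ← hM]
      exact Units.ext (by rw [Units.val_pow_eq_pow_val]; exact FiniteField.pow_card_sub_one_eq_one b hb0)
    have h4 := orderOf_dvd_of_pow_eq_one h3
    rw [hx] at h4
    have h5 : r ^ (v + 1) ∣ N := by rw [hM, pow_succ']; exact Nat.mul_dvd_mul_left r h4
    have := (padicValNat_dvd_iff_le hN0.ne').1 h5
    omega
  have hxk' : (x : F) ^ k = 1 := by rw [← Units.val_pow_eq_pow_val, hxk, Units.val_one]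
  rcases hr1.eq_two_or_odd' with hr2 | hodd
  · subst hr2
    have h4 : q % 4 = 1 := by
      by_contra h'
      exact h2 ⟨rfl, h', ⟨k, by omega⟩⟩
    obtain ⟨i, hi⟩ := (FiniteField.isSquare_neg_one_iff (F := F)).2 (by omega)
    refine ⟨-(x : F), k, neg_ne_zero.2 x.ne_zero, fun b hb => hxnp (i * b) ?_, hk, ?_⟩
    · rw [mul_pow, hb, pow_two i, ← hi]
      ring
    · rw [neg_neg, hxk', hk, pow_mul, neg_one_sq, one_pow, mul_one]
  · refine ⟨(x : F), k, x.ne_zero, hxnp, hk, ?_⟩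
    rw [hk, pow_mul, hodd.neg_one_pow, ← mul_pow, neg_mul, one_mul, neg_neg, hxk']

/-! ## Matrices from blocks -/

theorem exists_sl_blocks {ι : Type u} [Fintype ι] {n : ℕ} (s : ι → F[X]) (hs : ∀ i, (s i).Monic)
    (hsum : ∑ i, (s i).natDegree = n) (hdet : (-1 : F) ^ n * (∏ i, s i).coeff 0 = 1) :
    ∃ (x : Matrix.SpecialLinearGroup (Fin n) F)
      (Φ : (Fin n → F) ≃ₗ[F] ∀ i, AdjoinRoot (s i)),
      ∀ v, Φ (Matrix.toLin' (x : Matrix (Fin n) (Fin n) F) v) = rootMul s (Φ v) := by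
  haveI : ∀ i, Module.Finite F (AdjoinRoot (s i)) := fun i => finite_adjoinRoot (s i) (hs i)
  have hd : finrank F (Fin n → F) = finrank F (∀ i, AdjoinRoot (s i)) := by
    rw [finrank_fin_fun, Module.finrank_pi_fintype,
      Finset.sum_congr rfl fun i _ => finrank_adjoinRoot (hs i).ne_zero, hsum]
  set Φ : (Fin n → F) ≃ₗ[F] ∀ i, AdjoinRoot (s i) := LinearEquiv.ofFinrankEq _ _ hd
  set φ := Φ.symm.conj (rootMul s) with hφ
  have hΦ : ∀ v, Φ (φ v) = rootMul s (Φ v) := fun v => Φ.apply_symm_apply _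
  set M := LinearMap.toMatrix' φ with hM
  have hlin : Matrix.toLin' M = φ := Matrix.toLin'_toMatrix' φ
  have hdM : M.det = 1 := by
    rw [Matrix.det_eq_sign_charpoly_coeff, Fintype.card_fin, ← Matrix.charpoly_toLin', hlin,
      charpoly_eq hΦ hs, hdet]
  exact ⟨⟨M, hdM⟩, Φ, fun v => by rw [← hΦ v]; exact congrArg Φ (LinearMap.congr_fun hlin v)⟩

theorem det_eq {ι : Type u} [Fintype ι] {n : ℕ} {s : ι → F[X]} (x : Matrix.SpecialLinearGroup (Fin n) F)
    {Φ : (Fin n → F) ≃ₗ[F] ∀ i, AdjoinRoot (s i)}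
    (hΦ : ∀ v, Φ (Matrix.toLin' (x : Matrix (Fin n) (Fin n) F) v) = rootMul s (Φ v))
    (hs : ∀ i, (s i).Monic) : (-1 : F) ^ n * (∏ i, s i).coeff 0 = 1 := by
  have h := Matrix.det_eq_sign_charpoly_coeff (x : Matrix (Fin n) (Fin n) F)
  rw [x.2, Fintype.card_fin, ← Matrix.charpoly_toLin', charpoly_eq hΦ hs] at h
  exact h.symm

end Cfsg.Agent.Classical.Elusive
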