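import Mathlib
import Cfsg.Prelude.Def_GeometricClasses

/-!
# Quaternion subgroups of `GL₂` and their normalizers
-/

set_option autoImplicit false

namespace Cfsg.Agent.Classical.Elusive

open Matrix Polynomial

variable {F : Type*} [Field F]

theorem sq_eq_trace (M : Matrix (Fin 2) (Fin 2) F) : M * M = M.trace • M - M.det • 1 := by
  rw [Matrix.eta_fin_two M]
  simp only [Matrix.trace_fin_two, Matrix.det_fin_two, Matrix.mul_fin_two, Matrix.one_fin_two]
  ext i j
  fin_cases i <;> fin_cases j <;> simp <;> ring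

/-- A non-scalar matrix of determinant one is conjugate to its companion matrix by determinant one. -/
theorem exists_companion_conj [Fintype F] (hodd : Fintype.card F % 2 = 1) (x : Matrix (Fin 2) (Fin 2) F)
    (hdet : x.det = 1) (hd : x.trace ^ 2 - 4 ≠ 0) :
    ∃ P : Matrix (Fin 2) (Fin 2) F, P.det = 1 ∧ x * P = P * !![0, -1; 1, x.trace] := by
  obtain ⟨a, b, c, d, rfl⟩ : ∃ a b c d, x = !![a, b; c, d] := ⟨_, _, _, _, Matrix.eta_fin_two x⟩
  simp only [Matrix.trace_fin_two, Matrix.det_fin_two, Matrix.of_apply, Matrix.cons_val', Matrix.cons_val_zero,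
    Matrix.cons_val_one, Matrix.cons_val_fin_one] at hdet hd ⊢
  obtain ⟨u, v, huv⟩ : ∃ u v : F, c * u ^ 2 + (d - a) * (u * v) - b * v ^ 2 = 1 := by
    by_cases hc : c = 0
    · subst hc
      have had : d - a ≠ 0 := fun h => hd (by
        rw [sub_eq_zero.1 h] at hdet ⊢
        linear_combination 4 * hdet)
      exact ⟨(1 + b) / (d - a), 1, by field_simp; ring⟩
    · have h2 : (2 : F) ≠ 0 := by
        intro h
        obtain ⟨p, hp⟩ := CharP.exists F
        haveI := hp
        haveI : Fact p.Prime := ⟨CharP.char_is_prime F p⟩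
        have h' : ((2 : ℕ) : F) = 0 := by exact_mod_cast h
        obtain ⟨e, -, he⟩ := FiniteField.card F p
        rw [(Nat.prime_dvd_prime_iff_eq (Fact.out : p.Prime) Nat.prime_two).1
          ((CharP.cast_eq_zero_iff F p 2).1 h')] at he
        rw [he, Nat.pow_mod] at hodd
        simp at hodd
      set D : F := (a + d) ^ 2 - 4 with hD
      obtain ⟨r, s, hrs⟩ := FiniteField.exists_root_sum_quadratic (f := (X : F[X]) ^ 2)
        (g := Polynomial.C (-D) * X ^ 2 + Polynomial.C (-(4 * c))) (degree_X_pow 2)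
        (by
          rw [degree_add_C (by rw [degree_C_mul_X_pow 2 (neg_ne_zero.2 hd)]; decide)]
          exact degree_C_mul_X_pow 2 (neg_ne_zero.2 hd)) hodd
      simp only [eval_pow, eval_X, eval_add, eval_mul, eval_C] at hrs
      refine ⟨(r - (d - a) * s) / (2 * c), s, ?_⟩
      field_simp
      linear_combination hrs + 4 * s ^ 2 * hdet
  refine ⟨!![u, a * u + b * v; v, c * u + d * v], ?_, ?_⟩
  · simp [Matrix.det_fin_two]
    linear_combination huv
  · rw [Matrix.mul_fin_two, Matrix.mul_fin_two]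
    ext i j
    fin_cases i <;> fin_cases j <;> simp
    · linear_combination u * (-1 : F) * hdet
    · linear_combination v * (-1 : F) * hdet

theorem exists_conj_of_trace [Fintype F] (hodd : Fintype.card F % 2 = 1)
    {x y : GL (Fin 2) F} (hx : x ∈ Cfsg.Geo.specialLinear (Fin 2) F) (hy : y ∈ Cfsg.Geo.specialLinear (Fin 2) F)
    (ht : (x : Matrix (Fin 2) (Fin 2) F).trace = (y : Matrix (Fin 2) (Fin 2) F).trace)
    (hd : (x : Matrix (Fin 2) (Fin 2) F).trace ^ 2 - 4 ≠ 0) :
    ∃ g ∈ Cfsg.Geo.specialLinear (Fin 2) F, g⁻¹ * x * g = y := by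
  have hdet : ∀ z : GL (Fin 2) F, z ∈ Cfsg.Geo.specialLinear (Fin 2) F →
      (z : Matrix (Fin 2) (Fin 2) F).det = 1 := fun z hz => congrArg Units.val (MonoidHom.mem_ker.1 hz)
  obtain ⟨P, hP, hxP⟩ := exists_companion_conj hodd _ (hdet x hx) hd
  obtain ⟨Q, hQ, hyQ⟩ := exists_companion_conj hodd _ (hdet y hy) (ht ▸ hd)
  set P' : GL (Fin 2) F := Matrix.GeneralLinearGroup.mkOfDetNeZero P (by rw [hP]; exact one_ne_zero)
  set Q' : GL (Fin 2) F := Matrix.GeneralLinearGroup.mkOfDetNeZero Q (by rw [hQ]; exact one_ne_zero)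
  have hP' : P' ∈ Cfsg.Geo.specialLinear (Fin 2) F := MonoidHom.mem_ker.2 (Units.ext hP)
  have hQ' : Q' ∈ Cfsg.Geo.specialLinear (Fin 2) F := MonoidHom.mem_ker.2 (Units.ext hQ)
  refine ⟨P' * Q'⁻¹, mul_mem hP' (inv_mem hQ'), ?_⟩
  have key : x * P' * Q'⁻¹ = P' * Q'⁻¹ * y := by
    rw [mul_inv_eq_iff_eq_mul]
    apply Units.ext
    have h1 : Q'⁻¹ * y * Q' = Q'⁻¹ * (y * Q') := mul_assoc _ _ _
    rw [mul_assoc P', mul_assoc P', h1]
    show (x : Matrix (Fin 2) (Fin 2) F) * P = P * (((Q'⁻¹ : GL (Fin 2) F) : Matrix (Fin 2) (Fin 2) F) *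
      ((y : Matrix (Fin 2) (Fin 2) F) * Q))
    rw [hxP, hyQ, ← mul_assoc _ Q, show Q = (Q' : Matrix (Fin 2) (Fin 2) F) from rfl, ← Units.val_mul,
      inv_mul_cancel, Units.val_one, one_mul, ht]
  rw [mul_assoc, ← mul_assoc x, key, ← mul_assoc, inv_mul_cancel, one_mul]

/-- Two matrices commuting with the same non-scalar `2 × 2` matrix commute. -/
theorem commute_of_commute (c M N : Matrix (Fin 2) (Fin 2) F)
    (hc : ¬ (c 0 1 = 0 ∧ c 1 0 = 0 ∧ c 0 0 - c 1 1 = 0)) (hM : c * M = M * c) (hN : c * N = N * c) :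
    M * N = N * M := by
  have key : ∀ L : Matrix (Fin 2) (Fin 2) F, c * L = L * c → ∃ m : F, L 0 1 = m * c 0 1 ∧
      L 1 0 = m * c 1 0 ∧ L 0 0 - L 1 1 = m * (c 0 0 - c 1 1) := by
    intro L hL
    have e00 := congrFun (congrFun hL 0) 0
    have e01 := congrFun (congrFun hL 0) 1
    have e10 := congrFun (congrFun hL 1) 0
    simp only [Matrix.mul_apply, Fin.sum_univ_two] at e00 e01 e10
    by_cases hb : c 0 1 = 0
    · by_cases hg : c 1 0 = 0
      · have hd : c 0 0 - c 1 1 ≠ 0 := fun h => hc ⟨hb, hg, h⟩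
        refine ⟨(L 0 0 - L 1 1) / (c 0 0 - c 1 1), ?_, ?_, (div_mul_cancel₀ _ hd).symm⟩
        · rw [hb, mul_zero]
          exact (mul_eq_zero.1 (show (c 0 0 - c 1 1) * L 0 1 = 0 by
            linear_combination e01 - L 1 1 * hb + L 0 0 * hb)).resolve_left hd
        · rw [hg, mul_zero]
          exact (mul_eq_zero.1 (show (c 0 0 - c 1 1) * L 1 0 = 0 by
            linear_combination -e10 + L 0 0 * hg - L 1 1 * hg)).resolve_left hd
      · refine ⟨L 1 0 / c 1 0, ?_, (div_mul_cancel₀ _ hg).symm, ?_⟩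
        · field_simp
          linear_combination -e00
        · field_simp
          linear_combination e10
    · refine ⟨L 0 1 / c 0 1, (div_mul_cancel₀ _ hb).symm, ?_, ?_⟩
      · field_simp
        linear_combination e00
      · field_simp
        linear_combination -e01
  obtain ⟨m, m1, m2, m3⟩ := key M hM
  obtain ⟨k, k1, k2, k3⟩ := key N hN
  have hM00 : M 0 0 = M 1 1 + m * (c 0 0 - c 1 1) := by linear_combination m3
  have hN00 : N 0 0 = N 1 1 + k * (c 0 0 - c 1 1) := by linear_combination k3
  ext u v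
  simp only [Matrix.mul_apply, Fin.sum_univ_two]
  fin_cases u <;> fin_cases v <;> simp [m1, m2, k1, k2, hM00, hN00] <;> ring

/-- The standard generators of a quaternion subgroup. -/
structure QData (R : Subgroup (GL (Fin 2) F)) where
  i : GL (Fin 2) F
  j : GL (Fin 2) F
  hi : i ∈ R
  hj : j ∈ R
  ii : (i : Matrix (Fin 2) (Fin 2) F) * i = -1
  jj : (j : Matrix (Fin 2) (Fin 2) F) * j = -1
  ji : (j : Matrix (Fin 2) (Fin 2) F) * i = -((i : Matrix (Fin 2) (Fin 2) F) * j)
  closure_eq : Subgroup.closure {i, j} = R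
  ti : (i : Matrix (Fin 2) (Fin 2) F).trace = 0
  di : (i : Matrix (Fin 2) (Fin 2) F).det = 1

theorem exists_qdata (h2 : (2 : F) ≠ 0) (R : Subgroup (GL (Fin 2) F))
    (hR : Nonempty (↥R ≃* QuaternionGroup 2)) : Nonempty (QData R) := by
  obtain ⟨e⟩ := hR
  set I : R := e.symm (QuaternionGroup.a 1) with hI
  set J : R := e.symm (QuaternionGroup.xa 0) with hJ
  set C : R := e.symm (QuaternionGroup.a 2) with hC
  have hII : I * I = C := e.injective (by simp [hI, hC, QuaternionGroup.a_mul_a]; rfl)
  have hJJ : J * J = C := e.injective (by simp [hJ, hC, QuaternionGroup.xa_mul_xa])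
  have hJI : J * I = C * (I * J) :=
    e.injective (by simp [hI, hJ, hC, QuaternionGroup.a_mul_xa, QuaternionGroup.xa_mul_a]; decide)
  have hC1 : C ≠ 1 := fun h => by
    have := congrArg e h
    simp [hC] at this
    exact absurd this (by decide)
  have hCC : C * C = 1 := e.injective (by simp [hC, QuaternionGroup.a_mul_a]; decide)
  have hCI : C * I = I * C := e.injective (by simp [hI, hC, QuaternionGroup.a_mul_a]; decide)
  have hCJ : C * J = J * C := e.injective (by simp [hJ, hC, QuaternionGroup.a_mul_xa, QuaternionGroup.xa_mul_a]; decide)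
  set i : Matrix (Fin 2) (Fin 2) F := ((I : GL (Fin 2) F) : Matrix (Fin 2) (Fin 2) F)
  set j : Matrix (Fin 2) (Fin 2) F := ((J : GL (Fin 2) F) : Matrix (Fin 2) (Fin 2) F)
  set c : Matrix (Fin 2) (Fin 2) F := ((C : GL (Fin 2) F) : Matrix (Fin 2) (Fin 2) F)
  have val : ∀ {x y : R}, x = y → ((x : GL (Fin 2) F) : Matrix (Fin 2) (Fin 2) F) = (y : GL (Fin 2) F) :=
    fun h => by rw [h]
  have eii : i * i = c := by simpa using val hII
  have ejj : j * j = c := by simpa using val hJJ
  have eji : j * i = c * (i * j) := by simpa using val hJI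
  have ecc : c * c = 1 := by simpa using val hCC
  have eci : c * i = i * c := by simpa using val hCI
  have ecj : c * j = j * c := by simpa using val hCJ
  have hij : i * j ≠ j * i := by
    intro h
    have h1 : I * J = J * I := Subtype.ext (Units.ext (by simpa using h))
    have h2 := congrArg e h1
    simp [hI, hJ, QuaternionGroup.a_mul_xa, QuaternionGroup.xa_mul_a] at h2
    exact absurd h2 (by decide)
  have hns : ∀ s : F, i ≠ s • 1 := fun s hs => hij (by rw [hs, smul_mul_assoc, one_mul, mul_smul_comm, mul_one])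
  -- the central involution is `-1`
  have hc : c = -1 := by
    have hch := sq_eq_trace c
    rw [ecc] at hch
    by_cases htc : c.trace = 0
    · exfalso
      refine hij (commute_of_commute c i j ?_ eci ecj)
      rintro ⟨h01, h10, h00⟩
      rw [Matrix.trace_fin_two] at htc
      have h0 : c 0 0 = 0 :=
        (mul_eq_zero.1 (show (2 : F) * c 0 0 = 0 by linear_combination htc + h00)).resolve_left h2
      have := congrFun (congrFun ecc 0) 0
      simp [Matrix.mul_apply, h0, h01] at this
    · have hcd : c = ((1 + c.det) / c.trace) • (1 : Matrix (Fin 2) (Fin 2) F) := by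
        have h3 : c.trace • c = (1 + c.det) • (1 : Matrix (Fin 2) (Fin 2) F) := by
          rw [add_smul, one_smul]
          conv_rhs => arg 1; rw [hch]
          abel
        rw [div_eq_inv_mul, ← smul_smul, ← h3, smul_smul, inv_mul_cancel₀ htc, one_smul]
      set s := (1 + c.det) / c.trace
      have hs : s * s = 1 := by
        have := congrFun (congrFun ecc 0) 0
        rw [hcd] at this
        simpa using this
      rcases mul_self_eq_one_iff.1 hs with h | h
      · rw [h, one_smul] at hcd
        exact absurd (Subtype.ext (Units.ext hcd) : C = 1) hC1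
      · rw [hcd, h, neg_one_smul]
  rw [hc] at eii ejj eji
  have hch := sq_eq_trace i
  rw [eii] at hch
  have ht : i.trace = 0 := by
    by_contra h
    refine hns ((i.det - 1) / i.trace) ?_
    rw [div_eq_inv_mul, ← smul_smul, sub_smul, one_smul,
      show i.det • (1 : Matrix (Fin 2) (Fin 2) F) - 1 = i.trace • i by
        rw [sub_eq_add_neg, hch]; abel, smul_smul, inv_mul_cancel₀ h, one_smul]
  have hd : i.det = 1 := by
    rw [ht, zero_smul, zero_sub] at hch
    have := congrFun (congrFun hch 0) 0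
    simpa using this.symm
  refine ⟨⟨I, J, I.2, J.2, eii, ejj, by simpa using eji, ?_, ht, hd⟩⟩
  refine le_antisymm ((Subgroup.closure_le _).2 (by rintro _ (rfl | rfl) <;> exact SetLike.coe_mem _)) fun x hx => ?_
  have hmem : ∀ q : QuaternionGroup 2, ((e.symm q : R) : GL (Fin 2) F) ∈ Subgroup.closure {(I : GL (Fin 2) F), (J : GL (Fin 2) F)} := by
    have ha : ∀ k : ZMod (2 * 2), ((e.symm (QuaternionGroup.a k) : R) : GL (Fin 2) F) ∈
        Subgroup.closure {(I : GL (Fin 2) F), (J : GL (Fin 2) F)} := fun k => by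
      rw [← ZMod.natCast_zmod_val k, ← QuaternionGroup.a_one_pow, map_pow, Subgroup.coe_pow, ← hI]
      exact pow_mem (Subgroup.subset_closure (Set.mem_insert _ _)) _
    rintro (k | k)
    · exact ha k
    · rw [show QuaternionGroup.xa k = QuaternionGroup.xa 0 * QuaternionGroup.a k by
        rw [QuaternionGroup.xa_mul_a, zero_add], map_mul, Subgroup.coe_mul, ← hJ]
      exact mul_mem (Subgroup.subset_closure (Set.mem_insert_of_mem _ rfl)) (ha k)
  have := hmem (e ⟨x, hx⟩)
  rwa [e.symm_apply_apply] at this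

/-- An element of order six of the normalizer. -/
theorem exists_six (h2 : (2 : F) ≠ 0) {R : Subgroup (GL (Fin 2) F)} [Finite R] (D : QData R) :
    ∃ w : GL (Fin 2) F, w ∈ Cfsg.Geo.subgroupNormalizer R ∧ w ∈ Cfsg.Geo.specialLinear (Fin 2) F ∧
      (w : Matrix (Fin 2) (Fin 2) F).trace = 1 := by
  set i : Matrix (Fin 2) (Fin 2) F := (D.i : Matrix (Fin 2) (Fin 2) F)
  set j : Matrix (Fin 2) (Fin 2) F := (D.j : Matrix (Fin 2) (Fin 2) F)
  have hii : i * i = -1 := D.ii
  have hjj : j * j = -1 := D.jj
  have hji : j * i = -(i * j) := D.ji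
  set s := i + j + i * j with hs
  set w : Matrix (Fin 2) (Fin 2) F := (2 : F)⁻¹ • (1 + s) with hw
  have hiij : i * (i * j) = -j := by rw [← mul_assoc, hii, neg_one_mul]
  have hiji : i * j * i = j := by rw [mul_assoc, hji, mul_neg, hiij, neg_neg]
  have hjij : j * (i * j) = i := by rw [← mul_assoc, hji, neg_mul, mul_assoc, hjj, mul_neg_one, neg_neg]
  have hijj : i * j * j = -i := by rw [mul_assoc, hjj, mul_neg_one]
  have hss : s * s = -(3 : F) • (1 : Matrix (Fin 2) (Fin 2) F) := by
    have hijij : i * j * (i * j) = -1 := by rw [mul_assoc, hjij, hii]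
    rw [hs]
    simp only [add_mul, mul_add, hii, hjj, hji, hiij, hiji, hjij, hijj, hijij, neg_smul]
    rw [show ((3 : F) • (1 : Matrix (Fin 2) (Fin 2) F)) = 1 + 1 + 1 by
      rw [show (3 : F) = 1 + 1 + 1 by norm_num, add_smul, add_smul, one_smul]]
    abel
  have hww : w * w = w - 1 := by
    rw [hw, smul_mul_smul_comm]
    simp only [add_mul, mul_add, one_mul, mul_one, hss]
    ext u v
    simp only [Matrix.smul_apply, Matrix.add_apply, Matrix.sub_apply, smul_eq_mul]
    field_simp
    ring
  have hwi : w * i = j * w := by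
    rw [hw, smul_mul_assoc, mul_smul_comm, hs]
    congr 1
    simp only [add_mul, mul_add, one_mul, mul_one, hii, hjj, hji, hiji, hjij]
    abel
  have hwj : w * j = (i * j) * w := by
    have hijij : i * j * (i * j) = -1 := by rw [mul_assoc, hjij, hii]
    rw [hw, smul_mul_assoc, mul_smul_comm, hs]
    congr 1
    simp only [add_mul, mul_add, one_mul, mul_one, hjj, hiji, hijj, hijij]
    abel
  have hns : ∀ t : F, w ≠ t • 1 := by
    intro t ht
    have h1 : i = j := by
      have h1 := hwi
      rw [ht, smul_mul_assoc, one_mul, mul_smul_comm, mul_one] at h1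
      refine smul_right_injective _ (fun h0 => ?_) h1
      rw [h0, zero_smul] at ht
      rw [ht, zero_mul] at hww
      simp at hww
    have h2' := hji
    rw [← h1, hii, neg_neg] at h2'
    have h3 := congrFun (congrFun h2' 0) 0
    simp at h3
    exact h2 (by linear_combination -h3)
  have hch := sq_eq_trace w
  rw [hww] at hch
  have htr : w.trace = 1 := by
    by_contra h
    refine hns ((w.det - 1) / (w.trace - 1)) ?_
    have h1 : (w.trace - 1) • w = (w.det - 1) • (1 : Matrix (Fin 2) (Fin 2) F) := by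
      rw [sub_smul, sub_smul, one_smul, one_smul, sub_eq_sub_iff_add_eq_add]
      rw [sub_eq_sub_iff_add_eq_add] at hch
      rw [add_comm _ w]
      exact hch.symm
    rw [div_eq_inv_mul, ← smul_smul, ← h1, smul_smul, inv_mul_cancel₀ (sub_ne_zero.2 h), one_smul]
  have hdet : w.det = 1 := by
    rw [htr, one_smul] at hch
    have := congrFun (congrFun (sub_right_injective hch) 0) 0
    simpa using this.symm
  set W : GL (Fin 2) F := Matrix.GeneralLinearGroup.mkOfDetNeZero w (by rw [hdet]; exact one_ne_zero)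
  refine ⟨W, ?_, MonoidHom.mem_ker.2 (Units.ext hdet), htr⟩
  have hle : R.map (MulAut.conj W).toMonoidHom ≤ R := by
    conv_lhs => rw [← D.closure_eq, MonoidHom.map_closure]
    rw [Subgroup.closure_le]
    rintro _ ⟨x, hx, rfl⟩
    rcases hx with rfl | rfl
    · have he : W * D.i * W⁻¹ = D.j := mul_inv_eq_iff_eq_mul.2 (Units.ext hwi)
      exact (show (MulAut.conj W).toMonoidHom D.i = D.j from he) ▸ D.hj
    · have he : W * D.j * W⁻¹ = D.i * D.j := mul_inv_eq_iff_eq_mul.2 (Units.ext hwj)
      exact (show (MulAut.conj W).toMonoidHom D.j = D.i * D.j from he) ▸ mul_mem D.hi D.hj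
  have heq : R.map (MulAut.conj W).toMonoidHom = R :=
    Subgroup.eq_of_le_of_card_ge hle (le_of_eq
      (Nat.card_congr (R.equivMapOfInjective _ (MulAut.conj W).injective).toEquiv))
  show W ∈ Subgroup.normalizer (R : Set (GL (Fin 2) F))
  rw [Subgroup.mem_normalizer_iff]
  intro x
  constructor
  · intro hx
    exact heq ▸ Subgroup.mem_map_of_mem _ hx
  · intro hx
    rw [← heq] at hx
    obtain ⟨y, hy, hyx⟩ := Subgroup.mem_map.1 hx
    rwa [← (MulAut.conj W).injective hyx]

/-- A normalizing element of prime order at least five is scalar. -/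
theorem scalar_of_prime_order (h2 : (2 : F) ≠ 0) {R : Subgroup (GL (Fin 2) F)}
    (hR : Nonempty (↥R ≃* QuaternionGroup 2)) {r : ℕ} [Fact r.Prime] (hr : 5 ≤ r) {h : GL (Fin 2) F}
    (hh : h ∈ Cfsg.Geo.subgroupNormalizer R) (hpow : h ^ r = 1) :
    ∃ s : F, (h : Matrix (Fin 2) (Fin 2) F) = s • 1 := by
  classical
  obtain ⟨e⟩ := hR
  haveI : Fintype R := Fintype.ofEquiv _ e.symm.toEquiv
  obtain ⟨D⟩ := exists_qdata h2 R ⟨e⟩
  have hh' : h ∈ Subgroup.normalizer (R : Set (GL (Fin 2) F)) := hh
  have hcard : Fintype.card R = 8 := by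
    rw [Fintype.card_congr e.toEquiv, QuaternionGroup.card]
  let f : Function.End R := fun x => ⟨h * x * h⁻¹, (Subgroup.mem_normalizer_iff.1 hh' x.1).1 x.2⟩
  have hfp : ∀ (k : ℕ) (x : R), ((f ^ k) x : GL (Fin 2) F) = h ^ k * x * (h ^ k)⁻¹ := by
    intro k
    induction k with
    | zero => intro x; rw [pow_zero, pow_zero, inv_one, one_mul, mul_one]; rfl
    | succ k ih =>
      intro x
      show ((f ^ (k + 1)) x : GL (Fin 2) F) = _
      rw [pow_succ', show ((f * f ^ k) x : GL (Fin 2) F) = h * ((f ^ k) x : GL (Fin 2) F) * h⁻¹ from rfl, ih,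
        pow_succ' h]
      group
  have hf : f ^ r ^ 1 = 1 := by
    rw [pow_one]
    funext x
    refine Subtype.ext ?_
    rw [hfp, hpow, inv_one, one_mul, mul_one]
    rfl
  have hmod := Equiv.Perm.card_fixedPoints_modEq hf
  let C : Subgroup R :=
    { carrier := Function.fixedPoints f
      one_mem' := Subtype.ext (by simp [f])
      mul_mem' := fun {a b} ha hb => Subtype.ext (by
        have h1 : h * a * h⁻¹ = (a : GL (Fin 2) F) := congrArg Subtype.val ha
        have h2' : h * b * h⁻¹ = (b : GL (Fin 2) F) := congrArg Subtype.val hb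
        show h * ((a : GL (Fin 2) F) * b) * h⁻¹ = (a : GL (Fin 2) F) * b
        conv_rhs => rw [← h1, ← h2']
        group)
      inv_mem' := fun {a} ha => Subtype.ext (by
        have h1 : h * a * h⁻¹ = (a : GL (Fin 2) F) := congrArg Subtype.val ha
        show h * (a : GL (Fin 2) F)⁻¹ * h⁻¹ = (a : GL (Fin 2) F)⁻¹
        conv_rhs => rw [← h1]
        group) }
  set ci : R := ⟨D.i * D.i, mul_mem D.hi D.hi⟩ with hci
  have hciC : ci ∈ C := by
    refine Subtype.ext ?_
    show h * (D.i * D.i) * h⁻¹ = D.i * D.i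
    rw [mul_inv_eq_iff_eq_mul]
    apply Units.ext
    simp [D.ii]
  have hci1 : ci ≠ 1 := fun h0 => by
    have h1 := congrArg (fun x : R => ((x : GL (Fin 2) F) : Matrix (Fin 2) (Fin 2) F) 0 0) h0
    simp [hci, D.ii] at h1
    exact h2 (by linear_combination -h1)
  have hCd : Nat.card C ∣ 8 := by
    have := C.card_subgroup_dvd_card
    rwa [Nat.card_eq_fintype_card (α := R), hcard] at this
  have hC2 : 1 < Nat.card C := Finite.one_lt_card_iff_nontrivial.2
    ⟨⟨ci, hciC⟩, 1, fun h0 => hci1 (congrArg Subtype.val h0)⟩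
  have hCfix : Fintype.card f.fixedPoints = Nat.card C := by
    rw [← Nat.card_eq_fintype_card]
    rfl
  rw [hcard, hCfix] at hmod
  have hC8 : Nat.card C = 8 := by
    have hle := Nat.le_of_dvd (by norm_num) hCd
    have hdv : (r : ℤ) ∣ (Nat.card C : ℤ) - 8 := Nat.modEq_iff_dvd.1 hmod
    have hdv' : r ∣ 8 - Nat.card C := by
      rw [← Int.natCast_dvd_natCast, Nat.cast_sub hle, ← dvd_neg]
      simpa using hdv
    obtain ⟨k, hk, hk'⟩ := (Nat.dvd_prime_pow Nat.prime_two).1 (show Nat.card C ∣ 2 ^ 3 by simpa using hCd)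
    have hr1 := (Fact.out : r.Prime)
    interval_cases k
    · rw [hk'] at hC2; norm_num at hC2
    · rw [hk'] at hdv'
      have := (Nat.prime_dvd_prime_iff_eq hr1 Nat.prime_three).1 (hr1.dvd_mul.1 (show r ∣ 2 * 3 by simpa using hdv')
        |>.resolve_left fun h' => by have := Nat.le_of_dvd two_pos h'; omega)
      omega
    · rw [hk'] at hdv'
      have := (Nat.prime_dvd_prime_iff_eq hr1 Nat.prime_two).1 (hr1.dvd_of_dvd_pow (show r ∣ 2 ^ 2 by simpa using hdv'))
      omega
    · simpa using hk'
  have hCtop : C = ⊤ := Subgroup.eq_top_of_card_eq _ (by rw [hC8, Nat.card_eq_fintype_card, hcard])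
  set H : Matrix (Fin 2) (Fin 2) F := (h : Matrix (Fin 2) (Fin 2) F)
  have hcomm : ∀ x : GL (Fin 2) F, x ∈ R → H * x = (x : Matrix (Fin 2) (Fin 2) F) * H := by
    intro x hx
    have h1 : (⟨x, hx⟩ : R) ∈ C := hCtop ▸ Subgroup.mem_top _
    have h2' : h * x * h⁻¹ = x := congrArg Subtype.val h1
    rw [mul_inv_eq_iff_eq_mul] at h2'
    exact congrArg Units.val h2'
  set i : Matrix (Fin 2) (Fin 2) F := (D.i : Matrix (Fin 2) (Fin 2) F)
  set j : Matrix (Fin 2) (Fin 2) F := (D.j : Matrix (Fin 2) (Fin 2) F)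
  have hii : i * i = -1 := D.ii
  have hjj : j * j = -1 := D.jj
  have hji : j * i = -(i * j) := D.ji
  have hsame : ∀ M : Matrix (Fin 2) (Fin 2) F, M * i = i * M → M * j = j * M →
      (4 : F) • M = (2 * M.trace) • (1 : Matrix (Fin 2) (Fin 2) F) := by
    intro M hMi hMj
    -- the average over the group is a scalar
    have hlin : LinearIndependent F ![(1 : Matrix (Fin 2) (Fin 2) F), i, j, i * j] := by
      rw [Fintype.linearIndependent_iff]
      intro g hg
      simp [Fin.sum_univ_four] at hg
      have tj : j.trace = 0 := by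
        have h3 : (i * j * i).trace = (i * (i * j)).trace := Matrix.trace_mul_comm _ _
        rw [show i * j * i = j by rw [mul_assoc, hji, mul_neg, ← mul_assoc, hii, neg_one_mul, neg_neg],
          ← mul_assoc, hii, neg_one_mul, Matrix.trace_neg] at h3
        exact (mul_eq_zero.1 (show (2 : F) * j.trace = 0 by linear_combination h3)).resolve_left h2
      have tij : (i * j).trace = 0 := by
        have h3 : (i * j).trace = (j * i).trace := Matrix.trace_mul_comm _ _
        rw [hji, Matrix.trace_neg] at h3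
        exact (mul_eq_zero.1 (show (2 : F) * (i * j).trace = 0 by linear_combination h3)).resolve_left h2
      have ti : i.trace = 0 := D.ti
      have hiij : i * (i * j) = -j := by rw [← mul_assoc, hii, neg_one_mul]
      have hjij : j * (i * j) = i := by rw [← mul_assoc, hji, neg_mul, mul_assoc, hjj, mul_neg_one, neg_neg]
      have hijij : i * j * (i * j) = -1 := by rw [mul_assoc, hjij, hii]
      have t0 := congrArg Matrix.trace hg
      have t1 := congrArg (fun X : Matrix (Fin 2) (Fin 2) F => (i * X).trace) hg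
      have t2 := congrArg (fun X : Matrix (Fin 2) (Fin 2) F => (j * X).trace) hg
      have t3 := congrArg (fun X : Matrix (Fin 2) (Fin 2) F => (i * j * X).trace) hg
      simp [mul_add, hii, hjj, hji, hiij, hjij, ti, tj, tij, h2, Matrix.trace_neg] at t0 t1 t2
      have hiji : i * j * i = j := by rw [mul_assoc, hji, mul_neg, hiij, neg_neg]
      simp [mul_add, hiji, mul_assoc i j j, hjj, hijij, ti, tj, tij, h2, Matrix.trace_neg] at t3
      intro k
      fin_cases k
      · exact t0
      · exact t1
      · exact t2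
      · exact t3
    have hspan := hlin.span_eq_top_of_card_eq_finrank (by simp [Module.finrank_matrix])
    have hall : ∀ X : Matrix (Fin 2) (Fin 2) F, M * X = X * M := by
      intro X
      have hX : X ∈ Submodule.span F (Set.range ![(1 : Matrix (Fin 2) (Fin 2) F), i, j, i * j]) :=
        hspan ▸ Submodule.mem_top
      induction hX using Submodule.span_induction with
      | mem y hy =>
        obtain ⟨k, rfl⟩ := hy
        fin_cases k
        · simp
        · exact hMi
        · exact hMj
        · show M * (i * j) = i * j * M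
          rw [← mul_assoc, hMi, mul_assoc, hMj, ← mul_assoc]
      | zero => simp
      | add a b _ _ ha hb => rw [mul_add, add_mul, ha, hb]
      | smul t a _ ha => rw [mul_smul_comm, smul_mul_assoc, ha]
    have e01 := congrFun (congrFun (hall (Matrix.single 0 1 1)) 0) 1
    have e00 := congrFun (congrFun (hall (Matrix.single 0 1 1)) 1) 1
    have e10 := congrFun (congrFun (hall (Matrix.single 1 0 1)) 0) 0
    simp [Matrix.mul_apply, Matrix.single_apply] at e01 e00 e10
    ext u v
    fin_cases u <;> fin_cases v <;> simp [Matrix.trace_fin_two, e00, e10, e01] <;> ring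
  refine ⟨H.trace / 2, ?_⟩
  have h4 := hsame H (hcomm _ D.hi) (hcomm _ D.hj)
  have h40 : (4 : F) ≠ 0 := by
    rw [show (4 : F) = 2 * 2 by norm_num]; exact mul_ne_zero h2 h2
  refine smul_right_injective _ h40 ?_
  show (4 : F) • H = (4 : F) • ((H.trace / 2) • (1 : Matrix (Fin 2) (Fin 2) F))
  rw [h4, smul_smul]
  congr 1
  field_simp
  ring

end Cfsg.Agent.Classical.Elusive
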