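import Cfsg.Agent.Classical.Elusive.Block
import Cfsg.Prelude.Def_GeometricClasses

/-!
# Elements normalizing a maximal field subalgebra of prime degree
-/

set_option autoImplicit false

namespace Cfsg.Agent.Classical.Elusive

open Polynomial Module MatModule

universe u

variable {F : Type u} [Field F] [Fintype F] {n : ℕ}

/-- Eigenspaces of elements of the normalizer are trivial. -/
theorem eigen_of_normalizer (hn : n.Prime) {K : Subalgebra F (Matrix (Fin n) (Fin n) F)}
    (hK : Cfsg.Geo.IsFieldSubalgebra n K) {g : GL (Fin n) F} (hg : g ∈ Cfsg.Geo.subalgebraNormalizer K)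
    (d : F) :
    finrank F (Module.End.eigenspace (Matrix.toLin' (g : Matrix (Fin n) (Fin n) F)) d) ≤ 1 ∨
      Module.End.eigenspace (Matrix.toLin' (g : Matrix (Fin n) (Fin n) F)) d = ⊤ := by
  classical
  haveI : Nontrivial K := Module.nontrivial_of_finrank_pos (R := F) (hK.finrank_eq.symm ▸ hn.pos)
  letI : Field K := IsField.toField
    { exists_pair_ne := exists_pair_ne K
      mul_comm := fun a b => Subtype.ext (hK.comm _ a.2 _ b.2)
      mul_inv_cancel := fun {a} ha => by
        obtain ⟨y, hy, h⟩ := hK.inv a.1 a.2 fun h => ha (Subtype.ext h)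
        exact ⟨⟨y, hy⟩, Subtype.ext h⟩ }
  set E := Module.End.eigenspace (Matrix.toLin' (g : Matrix (Fin n) (Fin n) F)) d with hE
  by_cases hbot : E = ⊥
  · left
    rw [hbot, finrank_bot]
    exact Nat.zero_le _
  obtain ⟨v, hvE, hv⟩ := Submodule.exists_mem_ne_zero_of_ne_bot hbot
  have hEv : ∀ w ∈ E, (g : Matrix (Fin n) (Fin n) F).mulVec w = d • w := fun w hw => by
    have := Module.End.mem_eigenspace_iff.1 hw
    rwa [Matrix.toLin'_apply] at this
  -- evaluation at v
  set ev : K →ₗ[F] (Fin n → F) :=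
    { toFun := fun k => (k : Matrix (Fin n) (Fin n) F).mulVec v
      map_add' := fun a b => by simp [Matrix.add_mulVec]
      map_smul' := fun c a => by simp [Matrix.smul_mulVec] } with hev
  have hevinj : Function.Injective ev := by
    rw [injective_iff_map_eq_zero]
    intro k hk
    by_contra hk0
    have h : ((k⁻¹ * k : K) : Matrix (Fin n) (Fin n) F).mulVec v = 0 := by
      rw [Subalgebra.coe_mul, ← Matrix.mulVec_mulVec]
      change ((k⁻¹ : K) : Matrix (Fin n) (Fin n) F).mulVec (ev k) = 0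
      rw [hk, Matrix.mulVec_zero]
    rw [inv_mul_cancel₀ hk0, Subalgebra.coe_one, Matrix.one_mulVec] at h
    exact hv h
  have hevsurj : Function.Surjective ev :=
    (LinearMap.injective_iff_surjective_of_finrank_eq_finrank (by rw [hK.finrank_eq, Module.finrank_fin_fun])).1 hevinj
  by_cases hcomm : ∀ k ∈ K, (g : Matrix (Fin n) (Fin n) F) * k = k * g
  · right
    refine eq_top_iff.2 fun w _ => ?_
    obtain ⟨k, rfl⟩ := hevsurj w
    rw [hE, Module.End.mem_eigenspace_iff, Matrix.toLin'_apply]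
    show (g : Matrix (Fin n) (Fin n) F).mulVec ((k : Matrix (Fin n) (Fin n) F).mulVec v) =
      d • (k : Matrix (Fin n) (Fin n) F).mulVec v
    rw [Matrix.mulVec_mulVec, hcomm k.1 k.2, ← Matrix.mulVec_mulVec, hEv v hvE, Matrix.mulVec_smul]
  · left
    let C : Subalgebra F K :=
      { carrier := {k | (g : Matrix (Fin n) (Fin n) F) * (k : Matrix (Fin n) (Fin n) F) =
          (k : Matrix (Fin n) (Fin n) F) * g}
        mul_mem' := fun {a b} ha hb => by
          simp only [Set.mem_setOf_eq, Subalgebra.coe_mul] at *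
          rw [← mul_assoc, ha, mul_assoc, hb, mul_assoc]
        add_mem' := fun {a b} ha hb => by
          simp only [Set.mem_setOf_eq, Subalgebra.coe_add] at *
          rw [mul_add, add_mul, ha, hb]
        algebraMap_mem' := fun c => by
          show (g : Matrix (Fin n) (Fin n) F) * algebraMap F (Matrix (Fin n) (Fin n) F) c = _
          exact (Algebra.commutes c _).symm }
    have hC : C = ⊥ := by
      rcases (Subalgebra.isSimpleOrder_of_finrank_prime F K (hK.finrank_eq.symm ▸ hn)).eq_bot_or_eq_top C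
        with h | h
      · exact h
      · exact absurd (fun k hk => (h ▸ Algebra.mem_top : (⟨k, hk⟩ : K) ∈ C)) hcomm
    have hle : E ≤ Submodule.span F {v} := by
      intro w hw
      obtain ⟨k, rfl⟩ := hevsurj w
      have hkC : k ∈ C := by
        set k' : K := ⟨_, (hg k.1).1 k.2⟩ with hk'
        have h1 : ev k' = ev k := by
          show ((g : Matrix (Fin n) (Fin n) F) * k.1 * ((g⁻¹ : GL (Fin n) F) : Matrix (Fin n) (Fin n) F)).mulVec v
            = k.1.mulVec v
          have hd : d ≠ 0 := fun h0 => by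
            have := hEv v hvE
            rw [h0, zero_smul] at this
            exact hv (Matrix.mulVec_injective_of_isUnit g.isUnit (this.trans (Matrix.mulVec_zero _).symm))
          have hinv : ((g⁻¹ : GL (Fin n) F) : Matrix (Fin n) (Fin n) F).mulVec v = d⁻¹ • v := by
            apply Matrix.mulVec_injective_of_isUnit g.isUnit
            show (g : Matrix (Fin n) (Fin n) F).mulVec _ = (g : Matrix (Fin n) (Fin n) F).mulVec _
            rw [Matrix.mulVec_mulVec, ← Units.val_mul, mul_inv_cancel, Units.val_one, Matrix.one_mulVec,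
              Matrix.mulVec_smul, hEv v hvE, smul_smul, inv_mul_cancel₀ hd, one_smul]
          rw [← Matrix.mulVec_mulVec, hinv, ← Matrix.mulVec_mulVec, Matrix.mulVec_smul, Matrix.mulVec_smul]
          have := hEv _ hw
          show d⁻¹ • (g : Matrix (Fin n) (Fin n) F).mulVec (k.1.mulVec v) = _
          rw [show (g : Matrix (Fin n) (Fin n) F).mulVec (k.1.mulVec v) = d • k.1.mulVec v from this, smul_smul,
            inv_mul_cancel₀ hd, one_smul]
        have h2 := congrArg Subtype.val (hevinj h1)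
        show (g : Matrix (Fin n) (Fin n) F) * k.1 = k.1 * g
        calc (g : Matrix (Fin n) (Fin n) F) * k.1
            = (g : Matrix (Fin n) (Fin n) F) * k.1 * ((g⁻¹ : GL (Fin n) F) : Matrix (Fin n) (Fin n) F) * g := by
              rw [mul_assoc _ ((g⁻¹ : GL (Fin n) F) : Matrix (Fin n) (Fin n) F), ← Units.val_mul,
                inv_mul_cancel, Units.val_one, mul_one]
          _ = k.1 * g := by rw [show (g : Matrix (Fin n) (Fin n) F) * k.1 *
              ((g⁻¹ : GL (Fin n) F) : Matrix (Fin n) (Fin n) F) = k.1 from h2]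
      rw [hC] at hkC
      obtain ⟨c, rfl⟩ := Algebra.mem_bot.1 hkC
      refine Submodule.mem_span_singleton.2 ⟨c, ?_⟩
      show c • v = (algebraMap F (Matrix (Fin n) (Fin n) F) c).mulVec v
      rw [Algebra.algebraMap_eq_smul_one, Matrix.smul_mulVec, Matrix.one_mulVec]
    exact (Submodule.finrank_mono hle).trans (finrank_span_singleton hv).le

/-- The Frobenius element of the normalizer. -/
theorem exists_normalizer_elem (hn : n.Prime) {K : Subalgebra F (Matrix (Fin n) (Fin n) F)}
    (hK : Cfsg.Geo.IsFieldSubalgebra n K) :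
    ∃ γ : GL (Fin n) F, γ ∈ Cfsg.Geo.subalgebraNormalizer K ∧ γ ^ n = 1 ∧
      finrank F (Module.End.eigenspace (Matrix.toLin' (γ : Matrix (Fin n) (Fin n) F)) 1) = 1 := by
  classical
  haveI : Nontrivial K := Module.nontrivial_of_finrank_pos (R := F) (hK.finrank_eq.symm ▸ hn.pos)
  letI : Field K := IsField.toField
    { exists_pair_ne := exists_pair_ne K
      mul_comm := fun a b => Subtype.ext (hK.comm _ a.2 _ b.2)
      mul_inv_cancel := fun {a} ha => by
        obtain ⟨y, hy, h⟩ := hK.inv a.1 a.2 fun h => ha (Subtype.ext h)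
        exact ⟨⟨y, hy⟩, Subtype.ext h⟩ }
  haveI : Finite K := inferInstance
  haveI : FiniteDimensional F K := Module.finite_of_finrank_pos (hK.finrank_eq.symm ▸ hn.pos)
  haveI : Nonempty (Fin n) := ⟨⟨0, hn.pos⟩⟩
  obtain ⟨v, hv⟩ := exists_ne (0 : Fin n → F)
  set ev : K →ₗ[F] (Fin n → F) :=
    { toFun := fun k => (k : Matrix (Fin n) (Fin n) F).mulVec v
      map_add' := fun a b => by simp [Matrix.add_mulVec]
      map_smul' := fun c a => by simp [Matrix.smul_mulVec] } with hev
  have hevinj : Function.Injective ev := by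
    rw [injective_iff_map_eq_zero]
    intro k hk
    by_contra hk0
    have h : ((k⁻¹ * k : K) : Matrix (Fin n) (Fin n) F).mulVec v = 0 := by
      rw [Subalgebra.coe_mul, ← Matrix.mulVec_mulVec]
      change ((k⁻¹ : K) : Matrix (Fin n) (Fin n) F).mulVec (ev k) = 0
      rw [hk, Matrix.mulVec_zero]
    rw [inv_mul_cancel₀ hk0, Subalgebra.coe_one, Matrix.one_mulVec] at h
    exact hv h
  set evE : K ≃ₗ[F] (Fin n → F) := LinearEquiv.ofBijective ev ⟨hevinj,
    (LinearMap.injective_iff_surjective_of_finrank_eq_finrank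
      (by rw [hK.finrank_eq, Module.finrank_fin_fun])).1 hevinj⟩ with hevE
  set σ := FiniteField.frobeniusAlgEquivOfAlgebraic F K with hσ
  set T : (Fin n → F) ≃ₗ[F] (Fin n → F) := evE.symm.trans (σ.toLinearEquiv.trans evE) with hT
  set γ : GL (Fin n) F :=
    ⟨LinearMap.toMatrix' T.toLinearMap, LinearMap.toMatrix' T.symm.toLinearMap,
      by rw [← LinearMap.toMatrix'_comp]; simp, by rw [← LinearMap.toMatrix'_comp]; simp⟩ with hγ
  have hγv : ∀ l : K, (γ : Matrix (Fin n) (Fin n) F).mulVec (evE l) = evE (σ l) := fun l => by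
    show (LinearMap.toMatrix' T.toLinearMap).mulVec _ = _
    rw [LinearMap.toMatrix'_mulVec]
    simp [hT]
  have hconj : ∀ k : K, (γ : Matrix (Fin n) (Fin n) F) * k.1 * ((γ⁻¹ : GL (Fin n) F) : Matrix (Fin n) (Fin n) F) =
      (σ k).1 := by
    intro k
    have h1 : (γ : Matrix (Fin n) (Fin n) F) * k.1 = (σ k).1 * γ := by
      refine Matrix.toLin'.injective (LinearMap.ext fun w => ?_)
      obtain ⟨l, rfl⟩ := evE.surjective w
      rw [Matrix.toLin'_apply, Matrix.toLin'_apply, ← Matrix.mulVec_mulVec, ← Matrix.mulVec_mulVec, hγv]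
      have h2 : ∀ a b : K, a.1.mulVec (evE b) = evE (a * b) := fun a b => by
        show a.1.mulVec (b.1.mulVec v) = ((a * b : K) : Matrix (Fin n) (Fin n) F).mulVec v
        rw [Subalgebra.coe_mul, Matrix.mulVec_mulVec]
      rw [h2, hγv, h2, map_mul]
    rw [h1, mul_assoc, ← Units.val_mul, mul_inv_cancel, Units.val_one, mul_one]
  refine ⟨γ, fun k => ⟨fun hk => ?_, fun hk => ?_⟩, ?_, ?_⟩
  · exact hconj ⟨k, hk⟩ ▸ (σ ⟨k, hk⟩).2
  · obtain ⟨l, hl⟩ := σ.surjective ⟨_, hk⟩
    have h1 := (hconj l).trans (congrArg Subtype.val hl)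
    have h2 : l.1 = k := (Units.mul_right_inj γ).1 ((Units.mul_left_inj γ⁻¹).1 h1)
    exact h2 ▸ l.2
  · refine Units.ext (Matrix.toLin'.injective (LinearMap.ext fun w => ?_))
    obtain ⟨l, rfl⟩ := evE.surjective w
    have hp : ∀ j, ((γ ^ j : GL (Fin n) F) : Matrix (Fin n) (Fin n) F).mulVec (evE l) = evE ((σ ^ j) l) := by
      intro j
      induction j with
      | zero => simp
      | succ j ih =>
        rw [pow_succ', Units.val_mul, ← Matrix.mulVec_mulVec, ih, hγv, pow_succ']
        rfl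
    rw [Matrix.toLin'_apply, Matrix.toLin'_apply, hp, Units.val_one, Matrix.one_mulVec,
      show (σ ^ n) = 1 by
        have h := pow_orderOf_eq_one σ
        rw [hσ, FiniteField.orderOf_frobeniusAlgEquivOfAlgebraic, hK.finrank_eq] at h
        exact h]
    rfl
  · have hE : Module.End.eigenspace (Matrix.toLin' (γ : Matrix (Fin n) (Fin n) F)) 1 =
        Submodule.span F {v} := by
      apply le_antisymm
      · intro w hw
        obtain ⟨l, rfl⟩ := evE.surjective w
        rw [Module.End.mem_eigenspace_iff, Matrix.toLin'_apply, hγv, one_smul] at hw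
        have hfix := evE.injective hw
        haveI : Fintype K := Fintype.ofFinite K
        have hl : l ∈ (⊥ : Subalgebra F K) := by
          rcases (Subalgebra.isSimpleOrder_of_finrank_prime F K (hK.finrank_eq.symm ▸ hn)).eq_bot_or_eq_top
            (AlgHom.equalizer σ.toAlgHom (AlgHom.id F K)) with h | h
          · exact h ▸ hfix
          · exfalso
            have hσ1 : σ = 1 := AlgEquiv.ext fun a => (h ▸ Algebra.mem_top :
              a ∈ AlgHom.equalizer σ.toAlgHom (AlgHom.id F K))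
            have := FiniteField.orderOf_frobeniusAlgEquivOfAlgebraic F K
            rw [← hσ, hσ1, orderOf_one, hK.finrank_eq] at this
            exact hn.ne_one this.symm
        obtain ⟨c, rfl⟩ := Algebra.mem_bot.1 hl
        refine Submodule.mem_span_singleton.2 ⟨c, ?_⟩
        show c • v = (algebraMap F (Matrix (Fin n) (Fin n) F) c).mulVec v
        rw [Algebra.algebraMap_eq_smul_one, Matrix.smul_mulVec, Matrix.one_mulVec]
      · rw [Submodule.span_singleton_le_iff_mem, Module.End.mem_eigenspace_iff, Matrix.toLin'_apply, one_smul]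
        have h1 : evE 1 = v := by
          show ((1 : K) : Matrix (Fin n) (Fin n) F).mulVec v = v
          rw [Subalgebra.coe_one, Matrix.one_mulVec]
        rw [← h1, hγv, map_one]
    rw [hE, finrank_span_singleton hv]

theorem charpoly_of_no_repeat (hr : (n : F) ≠ 0) [Fact n.Prime] {φ : Module.End F (Fin n → F)}
    (hpow : φ ^ n = 1)
    (hrep : ∀ (ι : Type u) (_ : Fintype ι) (s : ι → F[X]), (∀ i, (s i).Monic) → (∀ i, Irreducible (s i)) →
      (∀ i, s i ∣ X ^ n - C 1) → ∀ Φ : (Fin n → F) ≃ₗ[F] ∀ i, AdjoinRoot (s i),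
        (∀ v, Φ (φ v) = rootMul s (Φ v)) → Function.Injective s) :
    φ.charpoly = X ^ n - C 1 := by
  classical
  obtain ⟨ι, hι, s, hs, hirr, hdvd, Φ, hΦ⟩ :=
    exists_split hr one_ne_zero (show φ ^ n = (1 : F) • 1 by rw [one_smul]; exact hpow)
  have hinj := hrep ι hι s hs hirr hdvd Φ hΦ
  rw [charpoly_eq hΦ hs]
  refine (eq_of_monic_of_dvd_of_natDegree_le (monic_prod_of_monic _ _ fun i _ => hs i)
    (monic_X_pow_sub_C _ (Fact.out : n.Prime).ne_zero)
    (Finset.prod_dvd_of_coprime (fun i _ j _ hij => ?_) fun i _ => hdvd i) ?_).symm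
  · refine (hirr i).coprime_iff_not_dvd.2 fun hd => hij (hinj ?_)
    exact eq_of_monic_of_associated (hs i) (hs j) ((hirr i).associated_of_dvd (hirr j) hd)
  · rw [natDegree_X_pow_sub_C, natDegree_prod _ _ fun i _ => (hs i).ne_zero, ← finrank_eq_sum Φ hs,
      Module.finrank_fin_fun]

theorem charpoly_of_eigen_le_one (hr : (n : F) ≠ 0) [Fact n.Prime] (hn3 : 3 ≤ n) {φ : Module.End F (Fin n → F)}
    (hpow : φ ^ n = 1)
    (hi : orderOf (Fintype.card F : ZMod n) = n - 1 ∨ orderOf (Fintype.card F : ZMod n) = 1)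
    (hone : ∀ c : F, finrank F (Module.End.eigenspace φ c) ≤ 1) :
    φ.charpoly = X ^ n - C 1 := by
  classical
  refine charpoly_of_no_repeat hr hpow fun ι _ s hs hirr hdvd Φ hΦ a b hab => ?_
  by_contra hne
  have hdvd' : s a ∣ X ^ n - C ((1 : F) ^ n) := by rw [one_pow]; exact hdvd a
  have hlin : (s a).natDegree = 1 ∨ ((s a).natDegree = n - 1) := by
    by_cases h1 : s a = X - C 1
    · exact Or.inl (by rw [h1, natDegree_X_sub_C])
    · rw [natDegree_factor (hs a) (hirr a) one_ne_zero hdvd' h1]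
      tauto
  rcases hlin with h1 | h1
  · have heq := (hs a).eq_X_add_C h1
    have hS : ∀ i ∈ ({a, b} : Finset ι), s i = X - C (-(s a).coeff 0) := by
      intro i hi'
      rw [map_neg, sub_neg_eq_add]
      rcases Finset.mem_insert.1 hi' with rfl | hi'
      · exact heq
      · rw [Finset.mem_singleton.1 hi', ← hab]
        exact heq
    have h2 := Submodule.finrank_mono (piece_le_eigenspace hΦ hS)
    rw [finrank_piece hs, Finset.sum_pair hne, ← hab, h1] at h2
    have := hone (-(s a).coeff 0)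
    omega
  · have h2 : ∑ i ∈ ({a, b} : Finset ι), (s i).natDegree ≤ ∑ i, (s i).natDegree :=
      Finset.sum_le_sum_of_subset (Finset.subset_univ _)
    rw [Finset.sum_pair hne, ← hab, h1, ← finrank_eq_sum Φ hs, Module.finrank_fin_fun] at h2
    omega

theorem eigen_le_one_of_normalizer (hn : n.Prime) {K : Subalgebra F (Matrix (Fin n) (Fin n) F)}
    (hK : Cfsg.Geo.IsFieldSubalgebra n K) {γ : GL (Fin n) F} (hg : γ ∈ Cfsg.Geo.subalgebraNormalizer K)
    (h1 : finrank F (Module.End.eigenspace (Matrix.toLin' (γ : Matrix (Fin n) (Fin n) F)) 1) = 1) (c : F) :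
    finrank F (Module.End.eigenspace (Matrix.toLin' (γ : Matrix (Fin n) (Fin n) F)) c) ≤ 1 := by
  rcases eigen_of_normalizer hn hK hg c with h | h
  · exact h
  · exfalso
    have htop : ∀ w, Matrix.toLin' (γ : Matrix (Fin n) (Fin n) F) w = c • w := fun w =>
      Module.End.mem_eigenspace_iff.1 (h ▸ Submodule.mem_top)
    have hne : Module.End.eigenspace (Matrix.toLin' (γ : Matrix (Fin n) (Fin n) F)) 1 ≠ ⊥ := fun hb => by
      rw [hb, finrank_bot] at h1; exact zero_ne_one h1
    obtain ⟨w, hw, hw0⟩ := Submodule.exists_mem_ne_zero_of_ne_bot hne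
    have h2 := Module.End.mem_eigenspace_iff.1 hw
    rw [htop] at h2
    have hc : c = 1 := smul_left_injective F hw0 h2
    subst hc
    rw [h, finrank_top, Module.finrank_fin_fun] at h1
    exact hn.ne_one h1

/-- Elements with charpoly `X ^ n - 1` are conjugate by determinant one into the normalizer. -/
theorem conj_into_normalizer [Fact n.Prime] (hn3 : 3 ≤ n) (hr : (n : F) ≠ 0)
    (hi : orderOf (Fintype.card F : ZMod n) = n - 1 ∨ orderOf (Fintype.card F : ZMod n) = 1)
    {K : Subalgebra F (Matrix (Fin n) (Fin n) F)} (hK : Cfsg.Geo.IsFieldSubalgebra n K)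
    (x : Matrix.SpecialLinearGroup (Fin n) F)
    (hx : (Matrix.toLin' (x : Matrix (Fin n) (Fin n) F)).charpoly = X ^ n - C 1)
    (hxn : (Matrix.toLin' (x : Matrix (Fin n) (Fin n) F)) ^ n = 1) :
    ∃ P : Matrix.SpecialLinearGroup (Fin n) F, P⁻¹ * x * P ∈ (Cfsg.Geo.subalgebraNormalizer K).comap
      (Matrix.SpecialLinearGroup.toGL : Matrix.SpecialLinearGroup (Fin n) F →* GL (Fin n) F) := by
  classical
  have hn := (Fact.out : n.Prime)
  haveI : Nonempty (Fin n) := ⟨⟨0, hn.pos⟩⟩
  obtain ⟨γ, hγ, hγn, hγ1⟩ := exists_normalizer_elem hn hK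
  set ψ := Matrix.toLin' (γ : Matrix (Fin n) (Fin n) F) with hψ
  have hψn : ψ ^ n = 1 := by
    rw [hψ, ← Matrix.toLin'_pow, ← Units.val_pow_eq_pow_val, hγn, Units.val_one, Matrix.toLin'_one]
    rfl
  have hψc : ψ.charpoly = X ^ n - C 1 :=
    charpoly_of_eigen_le_one hr hn3 hψn hi (eigen_le_one_of_normalizer hn hK hγ hγ1)
  set φ := Matrix.toLin' (x : Matrix (Fin n) (Fin n) F) with hφ
  have hsq := squarefree_pow_sub (r := n) hr (one_ne_zero (α := F))
  have hφ' : φ ^ n = (1 : F) • 1 := by rw [one_smul]; exact hxn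
  have hψ' : ψ ^ n = (1 : F) • 1 := by rw [one_smul]; exact hψn
  obtain ⟨Θ, hΘ⟩ := exists_conj_of_charpoly_eq φ ψ hsq (aeval_pow_sub hφ') hsq (aeval_pow_sub hψ')
    (hx.trans hψc.symm)
  obtain ⟨c, hc, hcdet⟩ := exists_commute_det ψ hsq (aeval_pow_sub hψ')
    (ν := (LinearMap.det (Θ : (Fin n → F) →ₗ[F] (Fin n → F)))⁻¹)
    (inv_ne_zero Θ.isUnit_det'.ne_zero)
  set A := c * (Θ : (Fin n → F) →ₗ[F] (Fin n → F)) with hA
  have hAd : LinearMap.det A = 1 := by
    rw [hA, map_mul, hcdet, inv_mul_cancel₀ Θ.isUnit_det'.ne_zero]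
  have hAc : A * φ = ψ * A := by
    have h1 : (Θ : (Fin n → F) →ₗ[F] (Fin n → F)) * φ = ψ * (Θ : (Fin n → F) →ₗ[F] (Fin n → F)) :=
      LinearMap.ext fun v => hΘ v
    rw [hA, mul_assoc, h1, ← mul_assoc, hc, mul_assoc]
  set Q : Matrix.SpecialLinearGroup (Fin n) F := ⟨LinearMap.toMatrix' A, by
    rw [← LinearMap.det_toMatrix'] at hAd; exact hAd⟩ with hQ
  refine ⟨Q⁻¹, ?_⟩
  rw [inv_inv, Subgroup.mem_comap]
  have hQx : (Q : Matrix (Fin n) (Fin n) F) * x = (γ : Matrix (Fin n) (Fin n) F) * Q := by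
    refine Matrix.toLin'.injective ?_
    rw [Matrix.toLin'_mul, Matrix.toLin'_mul]
    show Matrix.toLin' (LinearMap.toMatrix' A) * φ = ψ * Matrix.toLin' (LinearMap.toMatrix' A)
    rw [Matrix.toLin'_toMatrix', hAc]
  have : Matrix.SpecialLinearGroup.toGL (Q * x * Q⁻¹) = γ := by
    apply Units.ext
    show ((Q * x * Q⁻¹ : Matrix.SpecialLinearGroup (Fin n) F) : Matrix (Fin n) (Fin n) F) = γ
    rw [Matrix.SpecialLinearGroup.coe_mul, Matrix.SpecialLinearGroup.coe_mul, hQx, mul_assoc,
      ← Matrix.SpecialLinearGroup.coe_mul, mul_inv_cancel, Matrix.SpecialLinearGroup.coe_one, mul_one]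
  exact this ▸ hγ

/-- An obstruction to conjugacy into the normalizer. -/
theorem not_conj_of_eigen [Fact n.Prime] {K : Subalgebra F (Matrix (Fin n) (Fin n) F)}
    (hK : Cfsg.Geo.IsFieldSubalgebra n K) (x P : Matrix.SpecialLinearGroup (Fin n) F)
    (hP : P⁻¹ * x * P ∈ (Cfsg.Geo.subalgebraNormalizer K).comap
      (Matrix.SpecialLinearGroup.toGL : Matrix.SpecialLinearGroup (Fin n) F →* GL (Fin n) F)) (c : F) :
    finrank F (Module.End.eigenspace (Matrix.toLin' (x : Matrix (Fin n) (Fin n) F)) c) ≤ 1 ∨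
      ∀ w, (x : Matrix (Fin n) (Fin n) F).mulVec w = c • w := by
  rcases eigen_of_normalizer Fact.out hK (Subgroup.mem_comap.1 hP) c with h | h
  · left
    refine le_trans ?_ h
    set e : (Fin n → F) →ₗ[F] (Fin n → F) :=
      Matrix.toLin' ((P⁻¹ : Matrix.SpecialLinearGroup (Fin n) F) : Matrix (Fin n) (Fin n) F) with he
    have hinj : Function.Injective e := fun u v huv =>
      Matrix.mulVec_injective_of_isUnit ((Matrix.isUnit_iff_isUnit_det _).2
        (by rw [(P⁻¹).2]; exact isUnit_one)) huv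
    rw [(Submodule.equivMapOfInjective e hinj _).finrank_eq]
    refine Submodule.finrank_mono ?_
    rintro _ ⟨w, hw, rfl⟩
    have h1 := Module.End.mem_eigenspace_iff.1 hw
    rw [Matrix.toLin'_apply] at h1
    rw [Module.End.mem_eigenspace_iff, Matrix.toLin'_apply, he, Matrix.toLin'_apply]
    show ((P⁻¹ * x * P : Matrix.SpecialLinearGroup (Fin n) F) : Matrix (Fin n) (Fin n) F).mulVec _ = _
    rw [Matrix.mulVec_mulVec, ← Matrix.SpecialLinearGroup.coe_mul, mul_assoc, mul_inv_cancel, mul_one,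
      Matrix.SpecialLinearGroup.coe_mul, ← Matrix.mulVec_mulVec, h1, Matrix.mulVec_smul]
  · right
    intro w
    have h1 : ((P⁻¹ * x * P : Matrix.SpecialLinearGroup (Fin n) F) : Matrix (Fin n) (Fin n) F).mulVec
        (((P⁻¹ : Matrix.SpecialLinearGroup (Fin n) F) : Matrix (Fin n) (Fin n) F).mulVec w) =
        c • ((P⁻¹ : Matrix.SpecialLinearGroup (Fin n) F) : Matrix (Fin n) (Fin n) F).mulVec w := by
      have := Module.End.mem_eigenspace_iff.1 (h ▸ Submodule.mem_top (x :=
        ((P⁻¹ : Matrix.SpecialLinearGroup (Fin n) F) : Matrix (Fin n) (Fin n) F).mulVec w))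
      rw [Matrix.toLin'_apply] at this
      exact this
    have h2 := congrArg (Matrix.mulVec (P : Matrix (Fin n) (Fin n) F)) h1
    rw [Matrix.mulVec_smul, Matrix.mulVec_mulVec, Matrix.mulVec_mulVec, ← Matrix.SpecialLinearGroup.coe_mul,
      ← Matrix.SpecialLinearGroup.coe_mul, Matrix.mulVec_mulVec, ← Matrix.SpecialLinearGroup.coe_mul] at h2
    simpa [mul_assoc] using h2

/-- Diagonal counterexamples. -/
theorem exists_diag (w : Fin n → F) {r : ℕ} {c z : F} (hprod : ∏ i, w i = 1)
    (hpow : ∀ i, w i ^ r = z) {i j : Fin n} (hij : i ≠ j) (hi : w i = c) (hj : w j = c) {k : Fin n}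
    (hk : w k ≠ c) :
    ∃ x : Matrix.SpecialLinearGroup (Fin n) F,
      ((x ^ r : Matrix.SpecialLinearGroup (Fin n) F) : Matrix (Fin n) (Fin n) F) = z • 1 ∧
      (∀ b : F, (x : Matrix (Fin n) (Fin n) F) ≠ b • 1) ∧
      2 ≤ finrank F (Module.End.eigenspace (Matrix.toLin' (x : Matrix (Fin n) (Fin n) F)) c) ∧
      ¬ ∀ v, (x : Matrix (Fin n) (Fin n) F).mulVec v = c • v := by
  classical
  refine ⟨⟨Matrix.diagonal w, by rw [Matrix.det_diagonal, hprod]⟩, ?_, fun b hb => ?_, ?_, fun h => ?_⟩
  · obtain ⟨x, hx⟩ : ∃ x : Matrix.SpecialLinearGroup (Fin n) F,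
        x = ⟨Matrix.diagonal w, by rw [Matrix.det_diagonal, hprod]⟩ := ⟨_, rfl⟩
    rw [← hx, Matrix.SpecialLinearGroup.coe_pow]
    subst hx
    show Matrix.diagonal w ^ r = _
    rw [Matrix.diagonal_pow, Matrix.smul_one_eq_diagonal]
    exact congrArg Matrix.diagonal (funext hpow)
  · have h1 : ∀ l, w l = b := fun l => by
      have := congrFun (congrFun hb l) l
      simpa using this
    exact hk ((h1 k).trans ((h1 i).symm.trans hi))
  · have hli : LinearIndependent F ![(Pi.single i 1 : Fin n → F), Pi.single j 1] := by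
      rw [LinearIndependent.pair_iff]
      intro s t hst
      have h1 := congrFun hst i
      have h2 := congrFun hst j
      simp [hij, hij.symm] at h1 h2
      exact ⟨h1, h2⟩
    calc 2 = finrank F (Submodule.span F (Set.range ![(Pi.single i 1 : Fin n → F), Pi.single j 1])) := by
          rw [finrank_span_eq_card hli, Fintype.card_fin]
      _ ≤ _ := by
          refine Submodule.finrank_mono (Submodule.span_le.2 ?_)
          rintro _ ⟨l, rfl⟩
          rw [SetLike.mem_coe, Module.End.mem_eigenspace_iff, Matrix.toLin'_apply]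
          show (Matrix.diagonal w).mulVec _ = _
          fin_cases l <;> simp [Matrix.diagonal_mulVec_single, hi, hj, ← Pi.single_smul]
  · have h1 := congrFun (h (Pi.single k 1)) k
    have h1' : (Matrix.diagonal w).mulVec (Pi.single k 1) k = (c • Pi.single k (1 : F) : Fin n → F) k := h1
    simp [Matrix.diagonal_mulVec_single] at h1'
    exact hk h1'

end Cfsg.Agent.Classical.Elusive
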