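import Cfsg.Agent.Classical.Elusive.Linear
import Cfsg.Agent.MatModule.Unipotent
import Cfsg.Prelude.Def_GeometricClasses

/-!
# Conjugation into subfield groups
-/

set_option autoImplicit false

namespace Cfsg.Agent.Classical.Elusive

open Polynomial Module MatModule

universe u

variable {F : Type u} [Field F] {n : ℕ} {F₀ : Subfield F}

/-- Membership in the standard subfield group. -/
theorem mem_subfield_iff (g : GL (Fin n) F) :
    g ∈ Cfsg.Geo.subfieldSubgroup F₀ (1 : GL (Fin n) F) ↔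
      ∃ c : F, c ≠ 0 ∧ ∀ i j, c * (g : Matrix (Fin n) (Fin n) F) i j ∈ F₀ := by
  classical
  haveI hnorm : (Cfsg.Geo.scalars (Fin n) F).Normal := ⟨fun z hz g => by
    obtain ⟨c, hc⟩ := (Cfsg.Geo.mem_scalars_iff z).1 hz
    refine (Cfsg.Geo.mem_scalars_iff _).2 ⟨c, ?_⟩
    rw [Units.val_mul, Units.val_mul, hc, mul_smul_comm, mul_one, smul_mul_assoc, ← Units.val_mul,
      mul_inv_cancel, Units.val_one]⟩
  rw [Cfsg.Geo.subfieldSubgroup]
  constructor
  · rintro ⟨w, hw, rfl⟩
    obtain ⟨_, ⟨y, rfl⟩, z, hz, rfl⟩ := Subgroup.mem_sup_of_normal_right.1 hw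
    obtain ⟨c, hc⟩ := (Cfsg.Geo.mem_scalars_iff z).1 hz
    refine ⟨(c : F)⁻¹, inv_ne_zero c.ne_zero, fun i j => ?_⟩
    simp only [MulEquiv.coe_toMonoidHom, MulAut.conj_apply, one_mul, inv_one, mul_one]
    rw [Units.val_mul, hc, mul_smul_comm, mul_one, Matrix.smul_apply, smul_eq_mul,
      inv_mul_cancel_left₀ c.ne_zero]
    exact ((y : Matrix (Fin n) (Fin n) F₀) i j).2
  · rintro ⟨c, hc, h⟩
    let A : Matrix (Fin n) (Fin n) F₀ :=
      Matrix.of fun i j => ⟨c * (g : Matrix (Fin n) (Fin n) F) i j, h i j⟩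
    have hA : A.map F₀.subtype = c • (g : Matrix (Fin n) (Fin n) F) := Matrix.ext fun _ _ => rfl
    have hdet : A.det ≠ 0 := fun h0 => by
      have h1 : (A.map F₀.subtype).det = F₀.subtype A.det := (RingHom.map_det F₀.subtype A).symm
      rw [hA, h0, map_zero, Matrix.det_smul, mul_eq_zero] at h1
      exact h1.elim (pow_ne_zero _ hc) (Matrix.GeneralLinearGroup.det g).ne_zero
    let z : GL (Fin n) F := Units.map (Matrix.scalar (Fin n) : F →+* Matrix (Fin n) (Fin n) F).toMonoidHom
      (Units.mk0 c⁻¹ (inv_ne_zero hc))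
    refine ⟨g, Subgroup.mem_sup_of_normal_right.2
      ⟨_, ⟨Matrix.GeneralLinearGroup.mkOfDetNeZero A hdet, rfl⟩, z, ⟨_, rfl⟩, Units.ext ?_⟩, by simp⟩
    show A.map F₀.subtype * Matrix.scalar (Fin n) c⁻¹ = (g : Matrix (Fin n) (Fin n) F)
    rw [hA, Matrix.scalar_apply, ← Matrix.smul_one_eq_diagonal, mul_smul_comm, mul_one, smul_smul,
      inv_mul_cancel₀ hc, one_smul]

theorem pow_card_subfield [Finite F] {a : F} (ha : a ∈ F₀) : a ^ Nat.card F₀ = a := by
  haveI : Fintype F₀ := Fintype.ofFinite F₀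
  have := congrArg Subtype.val (FiniteField.pow_card (⟨a, ha⟩ : F₀))
  rw [Nat.card_eq_fintype_card]
  simpa using this

theorem mem_of_pow_card [Finite F] {a : F} (ha : a ^ Nat.card F₀ = a) : a ∈ F₀ := by
  classical
  haveI : Fintype F₀ := Fintype.ofFinite F₀
  have hq1 : 1 < Nat.card F₀ := by rw [Nat.card_eq_fintype_card]; exact Fintype.one_lt_card
  by_contra hna
  set f : F[X] := X ^ Nat.card F₀ - X
  have hf : f ≠ 0 := FiniteField.X_pow_card_sub_X_ne_zero F hq1
  have hdeg : f.natDegree = Nat.card F₀ := FiniteField.X_pow_card_sub_X_natDegree_eq F hq1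
  have hsub : insert a (Finset.univ.image (fun b : F₀ => (b : F))) ⊆ f.roots.toFinset := by
    intro b hb
    rw [Multiset.mem_toFinset, mem_roots hf, IsRoot.def, eval_sub, eval_pow, eval_X, sub_eq_zero]
    rcases Finset.mem_insert.1 hb with rfl | hb
    · exact ha
    · obtain ⟨c, -, rfl⟩ := Finset.mem_image.1 hb
      exact pow_card_subfield c.2
  have h1 := (Finset.card_le_card hsub).trans ((Multiset.toFinset_card_le _).trans (f.card_roots'))
  rw [Finset.card_insert_of_notMem, Finset.card_image_of_injective _ Subtype.val_injective, Finset.card_univ,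
    hdeg, Nat.card_eq_fintype_card] at h1
  · omega
  · intro hmem
    obtain ⟨c, -, rfl⟩ := Finset.mem_image.1 hmem
    exact hna c.2

/-- A change of basis with determinant in the subfield yields a conjugate in the subfield group. -/
theorem exists_conj_subfield (hn : 0 < n) (x : Matrix.SpecialLinearGroup (Fin n) F)
    (P M : Matrix (Fin n) (Fin n) F) (hP : P.det ∈ F₀) (hP0 : P.det ≠ 0)
    (hM : (x : Matrix (Fin n) (Fin n) F) * P = P * M) {c : F} (hc : c ≠ 0) (hMF : ∀ i j, c * M i j ∈ F₀) :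
    ∃ Q : Matrix.SpecialLinearGroup (Fin n) F, Q⁻¹ * x * Q ∈ (Cfsg.Geo.subfieldSubgroup F₀ (1 : GL (Fin n) F)).comap
      (Matrix.SpecialLinearGroup.toGL : Matrix.SpecialLinearGroup (Fin n) F →* GL (Fin n) F) := by
  classical
  set g : Fin n → F := fun i => if (i : ℕ) = 0 then P.det⁻¹ else 1
  have hg : ∀ i, g i ∈ F₀ ∧ g i ≠ 0 := fun i => by
    simp only [g]
    split_ifs
    · exact ⟨F₀.inv_mem hP, inv_ne_zero hP0⟩
    · exact ⟨F₀.one_mem, one_ne_zero⟩
  have hdet : (P * Matrix.diagonal g).det = 1 := by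
    rw [Matrix.det_mul, Matrix.det_diagonal, Finset.prod_eq_single (⟨0, hn⟩ : Fin n)]
    · simp [g, mul_inv_cancel₀ hP0]
    · intro i _ hi
      simp only [g]
      rw [if_neg fun h => hi (Fin.ext h)]
    · exact fun h => absurd (Finset.mem_univ _) h
  set Q : Matrix.SpecialLinearGroup (Fin n) F := ⟨P * Matrix.diagonal g, hdet⟩
  set M' := Matrix.diagonal (fun i => (g i)⁻¹) * M * Matrix.diagonal g
  refine ⟨Q, ?_⟩
  rw [Subgroup.mem_comap, mem_subfield_iff]
  refine ⟨c, hc, fun i j => ?_⟩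
  have hQ : (x : Matrix (Fin n) (Fin n) F) * Q = (Q : Matrix (Fin n) (Fin n) F) * M' := by
    show (x : Matrix (Fin n) (Fin n) F) * (P * Matrix.diagonal g) = P * Matrix.diagonal g * M'
    have h1 : Matrix.diagonal g * Matrix.diagonal (fun i => (g i)⁻¹) = (1 : Matrix (Fin n) (Fin n) F) := by
      rw [Matrix.diagonal_mul_diagonal, ← Matrix.diagonal_one]
      exact congrArg Matrix.diagonal (funext fun i => mul_inv_cancel₀ (hg i).2)
    rw [← mul_assoc, hM]
    simp only [M', mul_assoc]
    rw [← mul_assoc (Matrix.diagonal g) (Matrix.diagonal fun i => (g i)⁻¹), h1, one_mul]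
  have he : ((Q⁻¹ * x * Q : Matrix.SpecialLinearGroup (Fin n) F) : Matrix (Fin n) (Fin n) F) = M' := by
    rw [mul_assoc, Matrix.SpecialLinearGroup.coe_mul, Matrix.SpecialLinearGroup.coe_mul, hQ, ← mul_assoc,
      ← Matrix.SpecialLinearGroup.coe_mul, inv_mul_cancel, Matrix.SpecialLinearGroup.coe_one, one_mul]
  show c * ((Q⁻¹ * x * Q : Matrix.SpecialLinearGroup (Fin n) F) : Matrix (Fin n) (Fin n) F) i j ∈ F₀
  rw [he]
  simp only [M', Matrix.mul_diagonal, Matrix.diagonal_mul]
  rw [show c * ((g i)⁻¹ * M i j * g j) = (g i)⁻¹ * (c * M i j) * g j by ring]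
  exact F₀.mul_mem (F₀.mul_mem (F₀.inv_mem (hg i).1) (hMF i j)) (hg j).1

/-- The matrix of unipotent chains. -/
def chainMat {ι : Type*} [DecidableEq ι] (e : ι → ℕ) (R : Type*) [Zero R] [One R] [Add R] :
    Matrix (Σ i, Fin (e i)) (Σ i, Fin (e i)) R :=
  Matrix.of fun p q => (if p = q then 1 else 0) +
    (if p.1 = q.1 ∧ (p.2 : ℕ) = (q.2 : ℕ) + 1 then 1 else 0)

/-- Chain form of an endomorphism of known Jordan type. -/
theorem exists_chain [DecidableEq F] {φ : Module.End F (Fin n → F)} {m : Multiset ℕ} (h : HasType φ m) :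
    ∃ (ι : Type u) (_ : Fintype ι) (_ : DecidableEq ι) (e : ι → ℕ), Finset.univ.val.map e = m ∧
      ∃ (ε : Fin n ≃ Σ i, Fin (e i)) (P : Matrix (Fin n) (Fin n) F), P.det ≠ 0 ∧
        LinearMap.toMatrix' φ * P = P * (chainMat e F).submatrix ε ε := by
  classical
  obtain ⟨ι, hι, e, he, Φ, hΦ⟩ := h
  refine ⟨ι, hι, Classical.decEq ι, e, he, ?_⟩
  set v : (Σ i, Fin (e i)) → (Fin n → F) :=
    fun p => Φ.symm (Pi.single p.1 (AdjoinRoot.mk _ ((lin : F[X]) ^ (p.2 : ℕ)))) with hv
  have hli : LinearIndependent F v := by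
    rw [Fintype.linearIndependent_iff]
    intro c hc ⟨i, k⟩
    have h1 := congrFun (congrArg Φ hc) i
    rw [map_sum, map_zero, Pi.zero_apply, Finset.sum_apply, ← Finset.univ_sigma_univ, Finset.sum_sigma,
      Finset.sum_eq_single i] at h1
    · simp only [hv, map_smul, LinearEquiv.apply_symm_apply, Pi.smul_apply, Pi.single_eq_same] at h1
      set g : F[X] := ∑ l : Fin (e i), C (c ⟨i, l⟩) * X ^ (l : ℕ) with hg
      have hcomp : g.comp lin = ∑ l : Fin (e i), C (c ⟨i, l⟩) * (lin : F[X]) ^ (l : ℕ) := by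
        simp [hg, Polynomial.sum_comp]
      have hz0 : AdjoinRoot.mk ((lin : F[X]) ^ e i) (g.comp lin) = 0 := by
        rw [← h1, hcomp, map_sum]
        exact Finset.sum_congr rfl fun l _ => by
          rw [map_mul, AdjoinRoot.mk_C, Algebra.smul_def]; rfl
      have hg0 : g = 0 := by
        have hd : g.degree < e i := by rw [hg]; exact degree_sum_fin_lt _
        by_contra hg0
        have h2 : g.comp lin = 0 := by
          refine eq_zero_of_dvd_of_natDegree_lt (AdjoinRoot.mk_eq_zero.1 hz0) ?_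
          rw [natDegree_pow, natDegree_comp, natDegree_X_sub_C, mul_one, mul_one]
          exact (natDegree_lt_iff_degree_lt hg0).2 hd
        rw [comp_eq_zero_iff] at h2
        rcases h2 with h2 | ⟨-, h2⟩
        · exact hg0 h2
        · have := congrArg natDegree h2
          simp [natDegree_X_sub_C] at this
      have := congrArg (fun g => g.coeff (k : ℕ)) hg0
      simpa [hg, finset_sum_coeff, coeff_C_mul, coeff_X_pow, Fin.val_inj] using this
    · intro j _ hj
      refine Finset.sum_eq_zero fun l _ => ?_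
      simp [hv, Pi.single_eq_of_ne hj.symm]
    · exact fun h => absurd (Finset.mem_univ i) h
  have hn' : n = Fintype.card (Σ i, Fin (e i)) := by
    rw [← Module.finrank_fin_fun F (n := n), finrank_eq_sum Φ (fun i => (monic_X_sub_C (1 : F)).pow _),
      Fintype.card_sigma]
    exact Finset.sum_congr rfl fun i _ => by rw [Fintype.card_fin, natDegree_pow, natDegree_X_sub_C, mul_one]
  obtain ⟨ε⟩ : Nonempty (Fin n ≃ Σ i, Fin (e i)) := ⟨Fintype.equivOfCardEq (by simp [← hn'])⟩
  set P : Matrix (Fin n) (Fin n) F := Matrix.of fun r c => v (ε c) r with hPdef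
  have hcol : ∀ c, P.mulVec (Pi.single c 1) = v (ε c) := fun c => by
    rw [Matrix.mulVec_single_one]; rfl
  refine ⟨ε, P, ?_, ?_⟩
  · intro h0
    obtain ⟨w, hw, hw0⟩ := Matrix.exists_mulVec_eq_zero_iff.2 h0
    have h1 : ∑ c, w c • v (ε c) = 0 := by
      rw [← hw0]
      funext r
      simp [hPdef, Matrix.mulVec, dotProduct, mul_comm]
    exact hw (funext fun c => Fintype.linearIndependent_iff.1 (hli.comp _ ε.injective) w h1 c)
  · refine Matrix.ext_of_mulVec_single fun c => ?_
    rw [← Matrix.mulVec_mulVec, hcol, ← Matrix.mulVec_mulVec, LinearMap.toMatrix'_mulVec]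
    have hstep : φ (v (ε c)) = ∑ d : Fin n, (chainMat e F).submatrix ε ε d c • v (ε d) := by
      simp only [Matrix.submatrix_apply]
      rw [Equiv.sum_comp ε (fun p => chainMat e F p (ε c) • v p)]
      generalize ε c = q
      obtain ⟨i, k⟩ := q
      apply Φ.injective
      rw [hΦ, map_sum]
      funext j
      rw [rootMul_apply, Finset.sum_apply, hv]
      simp only [map_smul, LinearEquiv.apply_symm_apply, Pi.smul_apply]
      rw [← Finset.univ_sigma_univ, Finset.sum_sigma]
      have hroot : AdjoinRoot.root ((lin : F[X]) ^ e i) = AdjoinRoot.mk _ ((lin : F[X]) + 1) := by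
        simp [lin]
      rcases eq_or_ne j i with rfl | hji
      · rw [Finset.sum_eq_single j]
        · simp only [Pi.single_eq_same]
          rw [hroot, ← map_mul, add_mul, one_mul, ← pow_succ', map_add]
          simp only [chainMat, Matrix.of_apply, add_smul, Finset.sum_add_distrib, Sigma.mk.injEq, heq_eq_eq,
            true_and]
          rw [add_comm]
          congr 1
          · rw [Finset.sum_eq_single k]
            · simp
            · intro l _ hl; simp [hl]
            · exact fun h => absurd (Finset.mem_univ k) h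
          · by_cases hk : (k : ℕ) + 1 < e j
            · rw [Finset.sum_eq_single (⟨(k : ℕ) + 1, hk⟩ : Fin (e j))]
              · simp
              · intro l _ hl
                rw [if_neg fun h => hl (Fin.ext h), zero_smul]
              · exact fun h => absurd (Finset.mem_univ _) h
            · rw [Finset.sum_eq_zero, AdjoinRoot.mk_eq_zero.2 (pow_dvd_pow _ (by omega))]
              intro l _
              rw [if_neg, zero_smul]
              intro h
              have := l.2
              omega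
        · intro i' _ hi'
          refine Finset.sum_eq_zero fun l _ => ?_
          rw [Pi.single_eq_of_ne hi'.symm, smul_zero]
        · exact fun h => absurd (Finset.mem_univ _) h
      · rw [Pi.single_eq_of_ne hji, mul_zero]
        refine (Finset.sum_eq_zero fun i' _ => Finset.sum_eq_zero fun l _ => ?_).symm
        rcases eq_or_ne i' i with rfl | hi'
        · rw [Pi.single_eq_of_ne hji, smul_zero]
        · simp [chainMat, hi']
    rw [hstep]
    rw [Matrix.mulVec_single_one]
    funext r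
    rw [Finset.sum_apply]
    exact Finset.sum_congr rfl fun d _ => mul_comm _ _

theorem chainMat_mem {ι : Type*} [DecidableEq ι] (e : ι → ℕ) (p q : Σ i, Fin (e i)) :
    chainMat e F p q ∈ F₀ := by
  rw [chainMat, Matrix.of_apply]
  refine F₀.add_mem ?_ ?_ <;> split_ifs <;> first | exact F₀.one_mem | exact F₀.zero_mem

theorem diag_comm_chain {ι : Type*} [DecidableEq ι] (e : ι → ℕ) (γ : ι → F) (ε : Fin n ≃ Σ i, Fin (e i)) :
    (chainMat e F).submatrix ε ε * Matrix.diagonal (fun c => γ (ε c).1) =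
      Matrix.diagonal (fun c => γ (ε c).1) * (chainMat e F).submatrix ε ε := by
  ext a b
  rw [Matrix.mul_diagonal, Matrix.diagonal_mul, Matrix.submatrix_apply]
  by_cases h : (ε a).1 = (ε b).1
  · rw [h, mul_comm]
  · have : chainMat e F (ε a) (ε b) = 0 := by
      rw [chainMat, Matrix.of_apply, if_neg fun h' => h (by rw [h']), if_neg fun h' => h h'.1, add_zero]
    rw [this, zero_mul, mul_zero]

theorem isSquare_of_subfield [Fintype F] {k : ℕ} (hq : Fintype.card F = Nat.card F₀ ^ k)
    (hodd : Odd (Fintype.card F)) {a : F} (ha : a ∈ F₀) (hk : k = 2) : IsSquare a := by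
  rcases eq_or_ne a 0 with rfl | ha0
  · exact ⟨0, by simp⟩
  have hc : ringChar F ≠ 2 := fun h => by
    have h2 := FiniteField.even_card_of_char_two h
    obtain ⟨w, hw⟩ := hodd
    omega
  rw [FiniteField.isSquare_iff hc ha0]
  subst hk
  set q₀ := Nat.card F₀ with hq₀
  have h0 : a ^ (q₀ - 1) = 1 := by
    have h1 := pow_card_subfield ha
    have h2 : 1 ≤ q₀ := Nat.card_pos
    rw [← hq₀, show q₀ = q₀ - 1 + 1 by omega, pow_succ] at h1
    exact (mul_eq_right₀ ha0).1 h1
  have hq0odd : Odd q₀ := by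
    rw [hq] at hodd
    exact Odd.of_dvd_nat hodd (dvd_pow_self _ two_ne_zero)
  obtain ⟨w, hw⟩ := hq0odd
  have h3 : Fintype.card F / 2 = (q₀ - 1) * (w + 1) := by
    rw [hq, hw, show 2 * w + 1 - 1 = 2 * w by omega,
      show (2 * w + 1) ^ 2 = 2 * (2 * w * (w + 1)) + 1 by ring]
    omega
  rw [h3, pow_mul, h0, one_pow]

theorem exists_nonsquare_subfield [Fintype F] {k : ℕ} (hq : Fintype.card F = Nat.card F₀ ^ k)
    (hodd : Odd (Fintype.card F)) (hk : Odd k) : ∃ f : F, f ∈ F₀ ∧ ¬ IsSquare f := by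
  classical
  haveI : Fintype F₀ := Fintype.ofFinite F₀
  have hc : ringChar F ≠ 2 := fun h => by
    have h2 := FiniteField.even_card_of_char_two h
    obtain ⟨w, hw⟩ := hodd
    omega
  have hc0 : ringChar F₀ ≠ 2 := by
    intro h
    refine hc ?_
    haveI : CharP F₀ 2 := ringChar.of_eq h
    exact ringChar.eq_iff.2 ((RingHom.charP_iff F₀.subtype F₀.subtype.injective 2).1 inferInstance)
  obtain ⟨f, hf⟩ := FiniteField.exists_nonsquare hc0
  have hf0 : (f : F₀) ≠ 0 := fun h => hf ⟨0, by rw [h, mul_zero]⟩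
  have hf0' : (f : F) ≠ 0 := fun h => hf0 (Subtype.ext h)
  refine ⟨f, f.2, fun hsq => ?_⟩
  have h1 := (FiniteField.isSquare_iff hc hf0').1 hsq
  have h2 : (f : F₀) ^ (Fintype.card F₀ / 2) = -1 :=
    (FiniteField.pow_dichotomy hc0 hf0).resolve_left fun h => hf ((FiniteField.isSquare_iff hc0 hf0).2 h)
  set q₀ := Nat.card F₀ with hq₀
  rw [← Nat.card_eq_fintype_card, ← hq₀] at h2
  have hoddq₀ : q₀ % 2 = 1 := by
    rw [hq] at hodd
    exact Nat.odd_iff.1 (Odd.of_dvd_nat hodd (dvd_pow_self _ (by rintro rfl; exact Nat.not_odd_zero hk)))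
  set S := ∑ i ∈ Finset.range k, q₀ ^ i with hS
  have hSodd : Odd S := by
    rw [Nat.odd_iff, hS, Finset.sum_nat_mod,
      Finset.sum_congr rfl fun i _ => show q₀ ^ i % 2 = 1 by simp [Nat.pow_mod, hoddq₀]]
    simpa using Nat.odd_iff.1 hk
  have hdiv : Fintype.card F / 2 = q₀ / 2 * S := by
    have h3 : S * (q₀ - 1) = q₀ ^ k - 1 := geom_sum_mul_of_one_le (Nat.card_pos) k
    have h4 : 1 ≤ q₀ ^ k := Nat.one_le_pow _ _ Nat.card_pos
    rw [show q₀ - 1 = 2 * (q₀ / 2) by omega, mul_comm, mul_assoc] at h3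
    rw [hq]
    omega
  rw [hdiv, pow_mul, show ((f : F) ^ (q₀ / 2)) = ((f ^ (q₀ / 2) : F₀) : F) by simp, h2] at h1
  simp only [Subfield.coe_neg, Subfield.coe_one, hSodd.neg_one_pow] at h1
  exact Ring.neg_one_ne_one_of_char_ne_two hc h1

/-- Conjugation into the subfield group of a scalar times a unipotent of known type. -/
theorem exists_conj_of_type [Fintype F] [DecidableEq F] (hn : 0 < n) (x : Matrix.SpecialLinearGroup (Fin n) F)
    {d : F} (hd : d ≠ 0) {m : Multiset ℕ}
    (hT : HasType (d⁻¹ • Matrix.toLin' (x : Matrix (Fin n) (Fin n) F)) m)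
    (hfix : ∃ a ∈ m, ∀ y : F, y ≠ 0 → ∃ γ : F, γ ≠ 0 ∧ γ ^ a * y ∈ F₀) :
    ∃ Q : Matrix.SpecialLinearGroup (Fin n) F, Q⁻¹ * x * Q ∈ (Cfsg.Geo.subfieldSubgroup F₀ (1 : GL (Fin n) F)).comap
      (Matrix.SpecialLinearGroup.toGL : Matrix.SpecialLinearGroup (Fin n) F →* GL (Fin n) F) := by
  classical
  obtain ⟨ι, _, _, e, he, ε, P, hP0, hPM⟩ := exists_chain hT
  obtain ⟨a, ha, hfix⟩ := hfix
  rw [← he] at ha
  obtain ⟨i₀, -, rfl⟩ := Multiset.mem_map.1 ha
  obtain ⟨γ, hγ, hγP⟩ := hfix P.det hP0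
  set gv : ι → F := fun i => if i = i₀ then γ else 1
  set D : Matrix (Fin n) (Fin n) F := Matrix.diagonal fun c => gv (ε c).1
  have hD : D.det = γ ^ e i₀ := by
    rw [Matrix.det_diagonal, Equiv.prod_comp ε (fun p => gv p.1), Fintype.prod_sigma,
      Finset.prod_eq_single i₀]
    · simp [gv]
    · intro i _ hi; simp [gv, hi]
    · exact fun h => absurd (Finset.mem_univ _) h
  refine exists_conj_subfield hn x (P * D) (d • (chainMat e F).submatrix ε ε) ?_ ?_ ?_ (inv_ne_zero hd)
    fun i j => ?_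
  · rw [Matrix.det_mul, hD, mul_comm]; exact hγP
  · rw [Matrix.det_mul, hD]; exact mul_ne_zero hP0 (pow_ne_zero _ hγ)
  · have hx : (x : Matrix (Fin n) (Fin n) F) =
        d • LinearMap.toMatrix' (d⁻¹ • Matrix.toLin' (x : Matrix (Fin n) (Fin n) F)) := by
      rw [map_smul, LinearMap.toMatrix'_toLin', smul_smul, mul_inv_cancel₀ hd, one_smul]
    conv_lhs => rw [hx]
    rw [smul_mul_assoc, ← mul_assoc, hPM, mul_smul_comm, mul_assoc, mul_assoc, diag_comm_chain]
  · rw [Matrix.smul_apply, smul_eq_mul, inv_mul_cancel_left₀ hd]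
    exact chainMat_mem e _ _

end Cfsg.Agent.Classical.Elusive
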