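import Cfsg.Agent.Classical.Elusive.SubfieldPairs

/-!
# The index of a subfield group and the exceptional degrees
-/

set_option autoImplicit false
set_option linter.unusedSectionVars false
set_option linter.style.haveILetI false

namespace Cfsg.Agent.Classical.Elusive

open Polynomial Module MatModule

universe u

variable {F : Type u} [Field F] {n : ℕ} {F₀ : Subfield F}

/-- The order of the special linear group over a finite field. -/
theorem card_sl_eq {K : Type u} [Field K] [Fintype K] (hn : 0 < n) :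
    Nat.card (Matrix.SpecialLinearGroup (Fin n) K) =
      (∏ i ∈ Finset.range n, Fintype.card K ^ i) * topProd (Fintype.card K) n (n - 1) := by
  classical
  have hker : (Matrix.GeneralLinearGroup.det : GL (Fin n) K →* Kˣ).ker =
      (Matrix.SpecialLinearGroup.toGL : Matrix.SpecialLinearGroup (Fin n) K →* GL (Fin n) K).range := by
    ext g
    constructor
    · intro hg
      exact ⟨⟨g.1, congrArg Units.val hg⟩, Units.ext rfl⟩
    · rintro ⟨y, rfl⟩
      exact Units.ext y.2
  have hdsurj : Function.Surjective (Matrix.GeneralLinearGroup.det : GL (Fin n) K →* Kˣ) := by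
    intro u
    refine ⟨Matrix.GeneralLinearGroup.mkOfDetNeZero
      (Matrix.diagonal (Function.update 1 (⟨0, hn⟩ : Fin n) (u : K))) ?_, Units.ext ?_⟩
    · rw [Matrix.det_diagonal]
      simp [Finset.prod_update_of_mem (Finset.mem_univ _)]
    · show (Matrix.diagonal (Function.update 1 (⟨0, hn⟩ : Fin n) (u : K))).det = u
      rw [Matrix.det_diagonal]
      simp [Finset.prod_update_of_mem (Finset.mem_univ _)]
  have h1 := (Matrix.GeneralLinearGroup.det : GL (Fin n) K →* Kˣ).ker.card_mul_index
  rw [Subgroup.index_ker, MonoidHom.range_eq_top.2 hdsurj, Subgroup.card_top, hker,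
    ← Nat.card_congr (MonoidHom.ofInjective Matrix.SpecialLinearGroup.toGL_injective).toEquiv,
    Nat.card_eq_fintype_card (α := Kˣ), Fintype.card_units, Matrix.card_GL_field, prod_pow_sub _ le_rfl] at h1
  have h2 : topProd (Fintype.card K) n n = topProd (Fintype.card K) n (n - 1) * (Fintype.card K - 1) := by
    conv_lhs => rw [show n = (n - 1) + 1 by omega]
    rw [topProd, topProd, Finset.prod_range_succ, show n - 1 + 1 = n by omega, show n - (n - 1) = 1 by omega,
      pow_one]
  rw [h2, ← mul_assoc] at h1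
  exact Nat.eq_of_mul_eq_mul_right (Nat.sub_pos_of_lt Fintype.one_lt_card) h1

/-- The index of the subfield group is prime to `r` when the orders of the special linear groups agree at `r`. -/
theorem not_dvd_index [Fintype F] {k : ℕ} (hq : Fintype.card F = Nat.card F₀ ^ k) (hn : 0 < n) {r : ℕ}
    [Fact r.Prime] (hrq : ¬ r ∣ Fintype.card F)
    (hS : ∀ j, 2 ≤ j → j ≤ n → ¬ r ∣ ∑ l ∈ Finset.range k, (Nat.card F₀ ^ j) ^ l) :
    ¬ r ∣ ((Cfsg.Geo.subfieldSubgroup F₀ (1 : GL (Fin n) F)).comap
      (Matrix.SpecialLinearGroup.toGL : Matrix.SpecialLinearGroup (Fin n) F →* GL (Fin n) F)).index := by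
  classical
  intro hΩ
  haveI : Fintype F₀ := Fintype.ofFinite F₀
  set H := (Cfsg.Geo.subfieldSubgroup F₀ (1 : GL (Fin n) F)).comap
    (Matrix.SpecialLinearGroup.toGL : Matrix.SpecialLinearGroup (Fin n) F →* GL (Fin n) F) with hH
  set ι₀ : Matrix.SpecialLinearGroup (Fin n) F₀ →* Matrix.SpecialLinearGroup (Fin n) F :=
    Matrix.SpecialLinearGroup.map F₀.subtype with hι₀
  have hsub : ι₀.range ≤ H := by
    rintro _ ⟨y, rfl⟩
    rw [hH, Subgroup.mem_comap, mem_subfield_iff]
    refine ⟨1, one_ne_zero, fun i j => ?_⟩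
    rw [one_mul]
    exact ((y : Matrix (Fin n) (Fin n) F₀) i j).2
  have hinj : Function.Injective ι₀ := fun a b h => Subtype.ext
    (Matrix.map_injective F₀.subtype.injective (congrArg Subtype.val h))
  have hdvd : r * Nat.card (Matrix.SpecialLinearGroup (Fin n) F₀) ∣ Nat.card (Matrix.SpecialLinearGroup (Fin n) F) := by
    rw [← H.card_mul_index, mul_comm r]
    refine Nat.mul_dvd_mul ?_ hΩ
    rw [Nat.card_congr (MonoidHom.ofInjective hinj).toEquiv]
    exact Subgroup.card_dvd_of_le hsub
  rw [card_sl_eq hn, card_sl_eq hn, ← Nat.card_eq_fintype_card (α := F₀)] at hdvd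
  set q₀ := Nat.card F₀ with hq₀
  have h1 : 1 ≤ q₀ := Nat.card_pos
  have htop : topProd (Fintype.card F) n (n - 1) =
      topProd q₀ n (n - 1) * ∏ i ∈ Finset.range (n - 1), ∑ l ∈ Finset.range k, (q₀ ^ (n - i)) ^ l := by
    rw [topProd, topProd, ← Finset.prod_mul_distrib]
    refine Finset.prod_congr rfl fun i _ => ?_
    rw [mul_comm, geom_sum_mul_of_one_le (Nat.one_le_pow _ _ h1), hq, ← pow_mul, ← pow_mul, mul_comm]
  rw [htop] at hdvd
  obtain ⟨A, hA⟩ : ∃ A, A = ∏ i ∈ Finset.range n, Fintype.card F ^ i := ⟨_, rfl⟩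
  obtain ⟨B, hB⟩ : ∃ B, B = ∏ i ∈ Finset.range n, q₀ ^ i := ⟨_, rfl⟩
  rw [← hA, ← hB, ← mul_assoc r, mul_comm A, mul_assoc (topProd q₀ n (n - 1)), mul_comm (r * B)] at hdvd
  have h2 := Nat.dvd_of_mul_dvd_mul_left (topProd_pos (Finite.one_lt_card) (by omega)) hdvd
  have hr := (Fact.out : r.Prime).prime
  rcases hr.dvd_or_dvd ((dvd_mul_right r B).trans h2) with h3 | h3
  · obtain ⟨i, hi, h4⟩ := hr.exists_mem_finset_dvd h3
    rw [Finset.mem_range] at hi
    exact hS (n - i) (by omega) (by omega) h4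
  · rw [hA] at h3
    obtain ⟨i, -, h4⟩ := hr.exists_mem_finset_dvd h3
    exact hrq (hr.dvd_of_dvd_pow h4)

theorem five_symm : ∀ a b c d : ZMod 5, ∃ u : ZMod 5, ∀ v : ZMod 5,
    (Finset.univ.filter fun j => (![a, b, c, d, -(a + b + c + d)] : Fin 5 → ZMod 5) j + u = v).card =
      (Finset.univ.filter fun j => (![a, b, c, d, -(a + b + c + d)] : Fin 5 → ZMod 5) j + u = -v).card := by
  decide +kernel

theorem three_symm : ∀ a b : ZMod 3, ∃ u : ZMod 3, ∀ v : ZMod 3,
    (Finset.univ.filter fun j => (![a, b, -(a + b)] : Fin 3 → ZMod 3) j + u = v).card =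
      (Finset.univ.filter fun j => (![a, b, -(a + b)] : Fin 3 → ZMod 3) j + u = -v).card := by
  decide +kernel

/-- Exponents summing to zero in degree three or five are symmetric about some centre. -/
theorem exists_centre {r : ℕ} (hr : r = 3 ∨ r = 5) (m : Fin r → ZMod r) (hm : ∑ j, m j = 0) :
    ∃ (u : ZMod r) (π : Fin r → Fin r), (∀ j, π (π j) = j) ∧ ∀ j, m (π j) + u = -(m j + u) := by
  classical
  have key : ∃ u : ZMod r, ∀ v : ZMod r,
      (Finset.univ.filter fun j => m j + u = v).card = (Finset.univ.filter fun j => m j + u = -v).card := by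
    rcases hr with rfl | rfl
    · obtain ⟨u, hu⟩ := three_symm (m 0) (m 1)
      have e : m = ![m 0, m 1, -(m 0 + m 1)] := by
        rw [Fin.sum_univ_three] at hm
        funext j
        fin_cases j <;> simp
        linear_combination hm
      refine ⟨u, fun v => ?_⟩
      rw [e]
      exact hu v
    · obtain ⟨u, hu⟩ := five_symm (m 0) (m 1) (m 2) (m 3)
      have e : m = ![m 0, m 1, m 2, m 3, -(m 0 + m 1 + m 2 + m 3)] := by
        rw [Fin.sum_univ_five] at hm
        funext j
        fin_cases j <;> simp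
        linear_combination hm
      refine ⟨u, fun v => ?_⟩
      rw [e]
      exact hu v
  obtain ⟨u, hu⟩ := key
  obtain ⟨π, hπ1, hπ2⟩ := Cfsg.Agent.USeq.exists_pairing (fun j => m j + u) (fun v => -v) (fun j => neg_neg _) (fun j => by
    rw [Nat.card_eq_fintype_card, Nat.card_eq_fintype_card, Fintype.card_subtype, Fintype.card_subtype]
    exact (hu _).symm)
  exact ⟨u, π, hπ1, hπ2⟩

theorem card_filter_range {lo hi : ℕ} (h : hi ≤ n) :
    (Finset.univ.filter fun j : Fin n => lo ≤ (j : ℕ) ∧ (j : ℕ) < hi).card = hi - lo := by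
  rw [← Nat.card_Ico lo hi, ← Finset.card_map Fin.valEmbedding]
  congr 1
  ext x
  simp only [Finset.mem_map, Finset.mem_filter, Finset.mem_univ, true_and, Fin.valEmbedding_apply, Finset.mem_Ico]
  exact ⟨fun ⟨j, hj, e⟩ => e ▸ hj, fun hx => ⟨⟨x, by omega⟩, hx, rfl⟩⟩

end Cfsg.Agent.Classical.Elusive
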