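import Cfsg.Agent.Classical.Elusive.Subfield
import Cfsg.Agent.Classical.Elusive.Linear
import Cfsg.Agent.Classical.Elusive.Count
import Mathlib.FieldTheory.Finite.GaloisField

/-!
# Semisimple elements and subfield groups
-/

set_option autoImplicit false
set_option linter.unusedSectionVars false
set_option linter.style.haveILetI false

namespace Cfsg.Agent.Classical.Elusive

open Polynomial Module MatModule

universe u

variable {F : Type u} [Field F] {n : ℕ} {F₀ : Subfield F}

/-- The power map attached to the subfield. -/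
theorem exists_subfieldPow [Fintype F] {p : ℕ} [Fact p.Prime] [CharP F p] {k : ℕ} (hk : k ≠ 0)
    (hq : Fintype.card F = Nat.card F₀ ^ k) :
    ∃ σ : F →+* F, (∀ x, σ x = x ^ Nat.card F₀) ∧ ∀ a, σ a = a ↔ a ∈ F₀ := by
  obtain ⟨f, -, hf⟩ := FiniteField.card F p
  obtain ⟨e, -, he⟩ := (Nat.dvd_prime_pow (Fact.out : p.Prime)).1
    (show Nat.card F₀ ∣ p ^ (f : ℕ) by rw [← hf, hq]; exact dvd_pow_self _ hk)
  haveI : ExpChar F p := ExpChar.prime (Fact.out : p.Prime)
  refine ⟨iterateFrobenius F p e, fun x => by rw [iterateFrobenius_def, ← he], fun a => ?_⟩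
  rw [iterateFrobenius_def, ← he]
  exact ⟨mem_of_pow_card, pow_card_subfield⟩

/-- Conjugation into the subfield group from a frame and determinants in the centraliser. -/
theorem exists_conj_of_frame (hn : 0 < n) (x : Matrix.SpecialLinearGroup (Fin n) F)
    (P M : Matrix (Fin n) (Fin n) F) (hP0 : P.det ≠ 0) (hM : (x : Matrix (Fin n) (Fin n) F) * P = P * M)
    (hN : ∀ y : F, y ≠ 0 → ∃ N : Matrix (Fin n) (Fin n) F,
      N.det = y ∧ (x : Matrix (Fin n) (Fin n) F) * N = N * (x : Matrix (Fin n) (Fin n) F))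
    {c : F} (hc : c ≠ 0) (hMF : ∀ i j, c * M i j ∈ F₀) :
    ∃ Q : Matrix.SpecialLinearGroup (Fin n) F, Q⁻¹ * x * Q ∈ (Cfsg.Geo.subfieldSubgroup F₀ (1 : GL (Fin n) F)).comap
      (Matrix.SpecialLinearGroup.toGL : Matrix.SpecialLinearGroup (Fin n) F →* GL (Fin n) F) := by
  obtain ⟨N, hNd, hNx⟩ := hN P.det⁻¹ (inv_ne_zero hP0)
  have hd : (N * P).det = 1 := by rw [Matrix.det_mul, hNd, inv_mul_cancel₀ hP0]
  exact exists_conj_subfield hn x (N * P) M (hd ▸ F₀.one_mem) (hd ▸ one_ne_zero)
    (by rw [← mul_assoc, hNx, mul_assoc, hM, mul_assoc]) hc hMF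

/-- An irreducible piece gives every determinant in the centraliser. -/
theorem exists_commute_det [Fintype F] {ι : Type u} [Fintype ι] {s : ι → F[X]} (hs : ∀ i, (s i).Monic)
    {φ : Module.End F (Fin n → F)} (Φ : (Fin n → F) ≃ₗ[F] ∀ i, AdjoinRoot (s i))
    (hΦ : ∀ v, Φ (φ v) = rootMul s (Φ v)) (i₀ : ι) (hirr : Irreducible (s i₀)) (y : F) :
    ∃ N : Matrix (Fin n) (Fin n) F, N.det = y ∧ LinearMap.toMatrix' φ * N = N * LinearMap.toMatrix' φ := by
  classical
  haveI : ∀ i, Module.Finite F (AdjoinRoot (s i)) := fun i => finite_adjoinRoot (s i) (hs i)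
  haveI := Fact.mk hirr
  haveI : Finite (AdjoinRoot (s i₀)) := Module.finite_of_finite F
  obtain ⟨w, hw⟩ := FiniteField.norm_surjective F (AdjoinRoot (s i₀)) y
  let u : ∀ i, AdjoinRoot (s i) := Function.update 1 i₀ w
  let T : (∀ i, AdjoinRoot (s i)) →ₗ[F] ∀ i, AdjoinRoot (s i) :=
    LinearMap.pi fun i => (LinearMap.mulLeft F (u i)).comp (LinearMap.proj i)
  have hT : LinearMap.det T = y := by
    let E : (∀ i, AdjoinRoot (s i)) ≃ₗ[F] AdjoinRoot (s i₀) × (∀ j : {j // j ≠ i₀}, AdjoinRoot (s j)) :=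
      { Equiv.piSplitAt i₀ (fun i => AdjoinRoot (s i)) with
        map_add' := fun _ _ => rfl
        map_smul' := fun _ _ => rfl }
    have e : E.toLinearMap ∘ₗ T ∘ₗ E.symm.toLinearMap = LinearMap.prodMap (LinearMap.mulLeft F w) LinearMap.id := by
      refine LinearMap.ext fun v => ?_
      obtain ⟨g, rfl⟩ := E.surjective v
      show E (T (E.symm (E g))) = _
      rw [LinearEquiv.symm_apply_apply]
      refine Prod.ext ?_ (funext fun j => ?_)
      · show u i₀ * g i₀ = w * g i₀
        simp [u]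
      · show u j.1 * g j.1 = g j.1
        simp [u, Function.update_of_ne j.2]
    have e2 := LinearMap.det_conj T E
    rw [e] at e2
    rw [← e2, LinearMap.det_prodMap, LinearMap.det_id, mul_one]
    exact hw
  refine ⟨LinearMap.toMatrix' (Φ.symm.conj T), ?_, ?_⟩
  · rw [LinearMap.det_toMatrix', LinearEquiv.conj_apply, LinearEquiv.symm_symm, LinearMap.comp_assoc]
    have := LinearMap.det_conj T Φ.symm
    rw [LinearEquiv.symm_symm] at this
    exact this.trans hT
  · rw [← LinearMap.toMatrix'_mul, ← LinearMap.toMatrix'_mul]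
    congr 1
    refine LinearMap.ext fun v => Φ.injective (funext fun i => ?_)
    simp only [Module.End.mul_apply, LinearEquiv.conj_apply_apply, LinearEquiv.symm_symm,
      LinearEquiv.apply_symm_apply, hΦ, rootMul_apply, T, LinearMap.pi_apply, LinearMap.comp_apply,
      LinearMap.proj_apply, LinearMap.mulLeft_apply]
    ring

/-- Conjugation into the subfield group when the pieces are defined over the subfield. -/
theorem exists_conj_of_pieces [Fintype F] (hn : 0 < n) (x : Matrix.SpecialLinearGroup (Fin n) F) {d : F} (hd : d ≠ 0)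
    {ι : Type u} [Fintype ι] {s : ι → F[X]} (hs : ∀ i, (s i).Monic) (hirr : ∀ i, Irreducible (s i))
    (hco : ∀ i j, (s i).coeff j ∈ F₀) (Φ : (Fin n → F) ≃ₗ[F] ∀ i, AdjoinRoot (s i))
    (hΦ : ∀ v, Φ ((d⁻¹ • Matrix.toLin' (x : Matrix (Fin n) (Fin n) F)) v) = rootMul s (Φ v)) :
    ∃ Q : Matrix.SpecialLinearGroup (Fin n) F, Q⁻¹ * x * Q ∈ (Cfsg.Geo.subfieldSubgroup F₀ (1 : GL (Fin n) F)).comap
      (Matrix.SpecialLinearGroup.toGL : Matrix.SpecialLinearGroup (Fin n) F →* GL (Fin n) F) := by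
  classical
  set φ : Module.End F (Fin n → F) := d⁻¹ • Matrix.toLin' (x : Matrix (Fin n) (Fin n) F) with hφ
  have hx : (x : Matrix (Fin n) (Fin n) F) = d • LinearMap.toMatrix' φ := by
    rw [hφ, map_smul, LinearMap.toMatrix'_toLin', smul_smul, mul_inv_cancel₀ hd, one_smul]
  let B := (Pi.basis fun i => AdjoinRoot.powerBasisAux' (hs i)).map Φ.symm
  have hcard : Fintype.card (Σ i, Fin (s i).natDegree) = n := by
    rw [← Module.finrank_eq_card_basis B, finrank_fin_fun]
  obtain ⟨ε⟩ : Nonempty (Fin n ≃ Σ i, Fin (s i).natDegree) := ⟨Fintype.equivOfCardEq (by simp [hcard])⟩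
  let b := B.reindex ε.symm
  haveI : Nonempty ι := ⟨(ε ⟨0, hn⟩).1⟩
  obtain ⟨i₀⟩ := ‹Nonempty ι›
  refine exists_conj_of_frame hn x ((Pi.basisFun F (Fin n)).toMatrix b) (d • LinearMap.toMatrix b b φ)
    ?_ ?_ ?_ (inv_ne_zero hd) fun a c => ?_
  · exact ((Pi.basisFun F (Fin n)).isUnit_det b).ne_zero |> fun h => by rwa [Module.Basis.det_apply] at h
  · rw [hx, smul_mul_assoc, mul_smul_comm]
    congr 1
    rw [← LinearMap.toMatrix_eq_toMatrix']
    rw [linearMap_toMatrix_mul_basis_toMatrix, basis_toMatrix_mul_linearMap_toMatrix]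
  · intro y _
    obtain ⟨N, hNd, hNc⟩ := exists_commute_det hs Φ hΦ i₀ (hirr i₀) y
    exact ⟨N, hNd, by rw [hx, smul_mul_assoc, hNc, mul_smul_comm]⟩
  · rw [Matrix.smul_apply, smul_eq_mul, inv_mul_cancel_left₀ hd, LinearMap.toMatrix_apply]
    simp only [b, B, Module.Basis.repr_reindex_apply, Module.Basis.reindex_apply, Equiv.symm_symm,
      Module.Basis.map_apply, Module.Basis.map_repr, LinearEquiv.trans_apply, LinearEquiv.symm_symm, hΦ,
      LinearEquiv.apply_symm_apply]
    obtain ⟨i, a'⟩ := ε a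
    obtain ⟨j, c'⟩ := ε c
    rw [Pi.basis_repr, Pi.basis_apply, rootMul_apply]
    rcases eq_or_ne i j with rfl | hij
    · rw [Pi.single_eq_same, AdjoinRoot.powerBasisAux'_repr_apply_to_fun,
        show AdjoinRoot.powerBasisAux' (hs i) c' = AdjoinRoot.root (s i) ^ (c' : ℕ) from
          (AdjoinRoot.powerBasis' (hs i)).basis_eq_pow c',
        ← pow_succ', ← AdjoinRoot.mk_X, ← map_pow, AdjoinRoot.modByMonicHom_mk]
      obtain ⟨g, hg⟩ := (mem_lifts _).1 ((lifts_iff_coeff_lifts (f := F₀.subtype) (s i)).2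
        fun l => ⟨⟨_, hco i l⟩, rfl⟩)
      have hgm : g.Monic := Polynomial.monic_of_injective F₀.subtype.injective (hg.symm ▸ hs i)
      have e : ((X : F[X]) ^ ((c' : ℕ) + 1) %ₘ g.map F₀.subtype).coeff (a' : ℕ) ∈ F₀ := by
        rw [← Polynomial.map_X (f := F₀.subtype), ← Polynomial.map_pow, ← map_modByMonic _ hgm, coeff_map]
        exact Subtype.coe_prop _
      simpa only [hg] using e
    · rw [Pi.single_eq_of_ne hij, mul_zero, map_zero]
      exact F₀.zero_mem

/-- The scalar is a power when blocks of size `r` are impossible. -/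
theorem exists_root [Fintype F] {r : ℕ} [Fact r.Prime] (hr : (r : F) ≠ 0) (hn : n ≠ 0)
    (hnb : NoBlock (Fintype.card F) r n) (x : Matrix.SpecialLinearGroup (Fin n) F) {c : F}
    (h : ((x ^ r : Matrix.SpecialLinearGroup (Fin n) F) : Matrix (Fin n) (Fin n) F) = c • 1) :
    ∃ d : F, d ≠ 0 ∧ d ^ r = c := by
  classical
  have hc := scalar_ne_zero hn x h
  by_contra hcon
  have hp : ∀ b : F, b ^ r ≠ c := fun b hb => hcon ⟨b, fun h0 => hc (by
    rw [← hb, h0, zero_pow (Fact.out : r.Prime).ne_zero]), hb⟩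
  obtain ⟨ι, _, s, hs, hirr, hdvd, Φ, hΦ⟩ := exists_split hr hc (toLin'_pow_smul x h)
  have hsum : ∑ i, (s i).natDegree = n := by rw [← finrank_eq_sum Φ hs, finrank_fin_fun]
  have hk : n = r * Fintype.card ι := by
    rw [← hsum, Finset.sum_congr rfl fun i _ => by
      rw [factor_eq hp (hs i) (hirr i) (hdvd i), natDegree_X_pow_sub_C], Finset.sum_const, Finset.card_univ,
      smul_eq_mul, mul_comm]
  have hdet := det_eq x hΦ hs
  rw [Finset.prod_congr rfl fun i _ => factor_eq hp (hs i) (hirr i) (hdvd i), Finset.prod_const,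
    Finset.card_univ, coeff_zero_eq_eval_zero, eval_pow, eval_sub, eval_pow, eval_X, eval_C,
    zero_pow (Fact.out : r.Prime).ne_zero, zero_sub] at hdet
  exact not_det_one hk hn hr hnb hc hp hdet

/-- Factors of `X ^ r - 1` are defined over the subfield when the orders of the two fields agree. -/
theorem factor_coeff_mem [Fintype F] {r : ℕ} [Fact r.Prime]
    (hord : orderOf (Nat.card F₀ : ZMod r) = orderOf (Fintype.card F : ZMod r))
    {f : F[X]} (hf : f.Monic) (hirr : Irreducible f) (hdvd : f ∣ X ^ r - C 1) (j : ℕ) : f.coeff j ∈ F₀ := by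
  classical
  haveI : Fintype F₀ := Fintype.ofFinite F₀
  by_cases h1 : f = X - C 1
  · rw [h1, coeff_sub, coeff_X, coeff_C]
    refine F₀.sub_mem ?_ ?_ <;> split_ifs <;> first | exact F₀.one_mem | exact F₀.zero_mem
  set P0 : F₀[X] := X ^ r - C 1 with hP0
  have hP0m : P0.Monic := monic_X_pow_sub_C 1 (Fact.out : r.Prime).ne_zero
  have hmap : P0.map F₀.subtype = X ^ r - C 1 := by
    rw [hP0, Polynomial.map_sub, Polynomial.map_pow, map_X, map_C, map_one]
  have hprod := UniqueFactorizationMonoid.prod_normalizedFactors_eq (a := P0)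
  rw [hP0m.normalize_eq_self] at hprod
  rw [← hmap, ← hprod hP0m.ne_zero, ← Polynomial.coe_mapRingHom, map_multiset_prod] at hdvd
  obtain ⟨_, hg, hfg⟩ := hirr.prime.exists_mem_multiset_dvd hdvd
  obtain ⟨g, hgmem, rfl⟩ := Multiset.mem_map.1 hg
  rw [Polynomial.coe_mapRingHom] at hfg
  have hgirr := UniqueFactorizationMonoid.irreducible_of_normalized_factor g hgmem
  have hgm : g.Monic := by
    rw [← UniqueFactorizationMonoid.normalize_normalized_factor g hgmem]
    exact Polynomial.monic_normalize hgirr.ne_zero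
  have hgd : g ∣ P0 := UniqueFactorizationMonoid.dvd_of_mem_normalizedFactors hgmem
  have hg1 : g ≠ X - C 1 := by
    rintro rfl
    rw [Polynomial.map_sub, map_X, map_C, map_one] at hfg
    exact h1 (eq_of_monic_of_associated hf (monic_X_sub_C 1) (hirr.associated_of_dvd (irreducible_X_sub_C 1) hfg))
  have hdg := natDegree_factor hgm hgirr (one_ne_zero (α := F₀)) (by rw [one_pow]; exact hgd) hg1
  have hfd : f ∣ X ^ r - C ((1 : F) ^ r) := by
    rw [one_pow, ← hmap]
    exact hfg.trans (Polynomial.map_dvd _ hgd)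
  have hdf := natDegree_factor hf hirr (one_ne_zero (α := F)) hfd h1
  rw [← Nat.card_eq_fintype_card, hord, ← hdf] at hdg
  have heq : f = g.map F₀.subtype := (eq_of_monic_of_dvd_of_natDegree_le hf (hgm.map _) hfg
    (by rw [natDegree_map, hdg])).symm
  rw [heq, coeff_map]
  exact Subtype.coe_prop _

/-- Elements with `r`-th power a power of a scalar are conjugate into the subfield group. -/
theorem exists_conj_of_order [Fintype F] {r : ℕ} [Fact r.Prime] (hr : (r : F) ≠ 0) (hn : 0 < n)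
    (hord : orderOf (Nat.card F₀ : ZMod r) = orderOf (Fintype.card F : ZMod r))
    (x : Matrix.SpecialLinearGroup (Fin n) F) {d : F} (hd : d ≠ 0)
    (h : ((x ^ r : Matrix.SpecialLinearGroup (Fin n) F) : Matrix (Fin n) (Fin n) F) = d ^ r • 1) :
    ∃ Q : Matrix.SpecialLinearGroup (Fin n) F, Q⁻¹ * x * Q ∈ (Cfsg.Geo.subfieldSubgroup F₀ (1 : GL (Fin n) F)).comap
      (Matrix.SpecialLinearGroup.toGL : Matrix.SpecialLinearGroup (Fin n) F →* GL (Fin n) F) := by
  have h1 : (d⁻¹ • Matrix.toLin' (x : Matrix (Fin n) (Fin n) F)) ^ r = (1 : F) • (1 : Module.End F (Fin n → F)) := by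
    rw [_root_.smul_pow, toLin'_pow_smul x h, smul_smul, ← mul_pow, inv_mul_cancel₀ hd, one_pow]
  obtain ⟨ι, _, s, hs, hirr, hdvd, Φ, hΦ⟩ := exists_split hr one_ne_zero h1
  exact exists_conj_of_pieces hn x hd hs hirr (fun i => factor_coeff_mem hord (hs i) (hirr i) (hdvd i)) Φ hΦ

end Cfsg.Agent.Classical.Elusive
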