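import Cfsg.Agent.Classical.Elusive.SubfieldOdd
import Cfsg.Agent.MatModule.UnitarySeqForm
import Mathlib.RingTheory.Norm.Basic

/-!
# Diagonal and irreducible counterexamples for subfield groups
-/

set_option autoImplicit false
set_option linter.unusedSectionVars false
set_option linter.style.haveILetI false

namespace Cfsg.Agent.Classical.Elusive

open Polynomial Module MatModule

universe u

variable {F : Type u} [Field F] {n : ℕ} {F₀ : Subfield F}

theorem charpoly_conj_SL (Q : Matrix.SpecialLinearGroup (Fin n) F) (B : Matrix (Fin n) (Fin n) F) :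
    (((Q⁻¹ : Matrix.SpecialLinearGroup (Fin n) F) : Matrix (Fin n) (Fin n) F) * B *
      (Q : Matrix (Fin n) (Fin n) F)).charpoly = B.charpoly := by
  rw [mul_assoc, Matrix.charpoly_mul_comm, mul_assoc, ← Matrix.SpecialLinearGroup.coe_mul, mul_inv_cancel,
    Matrix.SpecialLinearGroup.coe_one, mul_one]


/-- A frame of eigenvectors. -/
theorem exists_diag_frame [Fintype F] {r : ℕ} [Fact r.Prime] (hr : (r : F) ≠ 0) (hq : r ∣ Fintype.card F - 1)
    (x : Matrix.SpecialLinearGroup (Fin n) F)
    (h : ((x ^ r : Matrix.SpecialLinearGroup (Fin n) F) : Matrix (Fin n) (Fin n) F) = 1) :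
    ∃ (E : Matrix (Fin n) (Fin n) F) (a : Fin n → F), E.det ≠ 0 ∧ (∀ j, a j ^ r = 1) ∧ (∏ j, a j) = 1 ∧
      (x : Matrix (Fin n) (Fin n) F) * E = E * Matrix.diagonal a := by
  classical
  set φ := Matrix.toLin' (x : Matrix (Fin n) (Fin n) F) with hφ
  have h1 : φ ^ r = (1 : F) • (1 : Module.End F (Fin n → F)) := toLin'_pow_smul x (by rw [h, one_smul])
  obtain ⟨ι, _, s, hs, hirr, hdvd, Φ, hΦ⟩ := exists_split hr one_ne_zero h1
  have hord : orderOf (Fintype.card F : ZMod r) = 1 :=
    Nat.dvd_one.1 ((LargeSylow.dvd_sub_iff Fintype.card_pos 1).1 (by rwa [pow_one]))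
  have hdeg : ∀ i, (s i).natDegree = 1 := fun i => by
    by_cases h2 : s i = X - C 1
    · rw [h2, natDegree_X_sub_C]
    · rw [natDegree_factor (hs i) (hirr i) one_ne_zero (by rw [one_pow]; exact hdvd i) h2, hord]
  let w : ι → F := fun i => -(s i).coeff 0
  have hw : ∀ i, s i = X - C (w i) := fun i => by
    rw [map_neg, sub_neg_eq_add]; exact (hs i).eq_X_add_C (hdeg i)
  let B := (Pi.basis fun i => AdjoinRoot.powerBasisAux' (hs i)).map Φ.symm
  have hcard : Fintype.card (Σ i, Fin (s i).natDegree) = n := by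
    rw [← Module.finrank_eq_card_basis B, finrank_fin_fun]
  obtain ⟨ε⟩ : Nonempty (Fin n ≃ Σ i, Fin (s i).natDegree) := ⟨Fintype.equivOfCardEq (by simp [hcard])⟩
  let b := B.reindex ε.symm
  have hb : ∀ c, φ (b c) = w (ε c).1 • b c := fun c => by
    apply Φ.injective
    rw [hΦ, map_smul]
    funext i
    rw [rootMul_apply, Pi.smul_apply, Algebra.smul_def]
    simp only [b, B, Module.Basis.reindex_apply, Equiv.symm_symm, Module.Basis.map_apply,
      LinearEquiv.apply_symm_apply, Pi.basis_apply]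
    rcases eq_or_ne i (ε c).1 with rfl | hi
    · rw [root_eq_of_linear (hw _)]; rfl
    · rw [Pi.single_eq_of_ne hi, mul_zero, mul_zero]
  set E := (Pi.basisFun F (Fin n)).toMatrix b with hE
  have hEd : E.det ≠ 0 := by
    rw [hE, ← Module.Basis.det_apply]; exact ((Pi.basisFun F (Fin n)).isUnit_det b).ne_zero
  have hEx : (x : Matrix (Fin n) (Fin n) F) * E = E * Matrix.diagonal fun c => w (ε c).1 := by
    ext i c
    rw [Matrix.mul_diagonal]
    have h2 := congrFun (hb c) i
    rw [hφ, Matrix.toLin'_apply, Pi.smul_apply, smul_eq_mul, mul_comm] at h2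
    simpa [hE, Module.Basis.toMatrix_apply, Matrix.mul_apply, Matrix.mulVec, dotProduct] using h2
  refine ⟨E, fun c => w (ε c).1, hEd, fun c => ?_, ?_, hEx⟩
  · have h2 := Polynomial.eval_eq_zero_of_dvd_of_eval_eq_zero (hdvd (ε c).1) (x := w (ε c).1) (by
      rw [hw (ε c).1]; simp)
    rw [eval_sub, eval_pow, eval_X, eval_C, sub_eq_zero] at h2
    exact h2
  · have h2 := congrArg Matrix.det hEx
    rw [Matrix.det_mul, Matrix.det_mul, x.2, one_mul, Matrix.det_diagonal] at h2
    exact mul_left_cancel₀ hEd (by rw [← h2, mul_one])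

/-- Descent for diagonalisable elements whose spectrum is symmetric, the index being two. -/
theorem exists_conj_of_pairs [Fintype F] {p : ℕ} [Fact p.Prime] [CharP F p]
    (hq : Fintype.card F = Nat.card F₀ ^ 2) (hn : 0 < n) (x : Matrix.SpecialLinearGroup (Fin n) F)
    {E : Matrix (Fin n) (Fin n) F} (hE : E.det ≠ 0) {a : Fin n → F}
    (hxE : (x : Matrix (Fin n) (Fin n) F) * E = E * Matrix.diagonal a) {c : F} (hc : c ≠ 0) (π : Fin n → Fin n)
    (hπ : ∀ j, π (π j) = j) (ha : ∀ j, (c * a j) ^ Nat.card F₀ = c * a (π j)) :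
    ∃ Q : Matrix.SpecialLinearGroup (Fin n) F, Q⁻¹ * x * Q ∈ (Cfsg.Geo.subfieldSubgroup F₀ (1 : GL (Fin n) F)).comap
      (Matrix.SpecialLinearGroup.toGL : Matrix.SpecialLinearGroup (Fin n) F →* GL (Fin n) F) := by
  classical
  obtain ⟨σ, hσ, hfix⟩ := exists_subfieldPow (p := p) two_ne_zero hq
  have hσ2 : ∀ y, σ (σ y) = y := fun y => by
    rw [hσ, hσ, ← pow_mul, ← pow_two, ← hq, FiniteField.pow_card]
  obtain ⟨θ, hθ⟩ : ∃ θ : F, θ ∉ F₀ := by
    by_contra hall
    push Not at hall
    have h1 : Nat.card F ≤ Nat.card F₀ :=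
      Nat.card_le_card_of_injective (fun y => (⟨y, hall y⟩ : F₀)) fun y z h => congrArg Subtype.val h
    have h2 : 1 < Nat.card F₀ := Finite.one_lt_card
    rw [Nat.card_eq_fintype_card, hq, pow_two] at h1
    nlinarith
  have hθσ : σ θ ≠ θ := fun h => hθ ((hfix θ).1 h)
  let P : Matrix (Fin n) (Fin n) F := Matrix.of fun j l =>
    if π l = l then (if j = l then 1 else 0)
    else if l < π l then (if j = l ∨ j = π l then 1 else 0)
    else (if j = π l then θ else if j = l then σ θ else 0)
  have hPσ : P.map σ = P.submatrix π id := by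
    ext j l
    simp only [Matrix.map_apply, Matrix.submatrix_apply, id_eq, P, Matrix.of_apply]
    have e1 : π j = l ↔ j = π l := ⟨fun h => by rw [← h, hπ], fun h => by rw [h, hπ]⟩
    have e2 : π j = π l ↔ j = l := ⟨fun h => by rw [← hπ j, h, hπ], fun h => by rw [h]⟩
    by_cases h1 : π l = l
    · simp [h1, e1, apply_ite σ]
    · by_cases h2 : l < π l
      · simp [h1, h2, e1, e2, apply_ite σ, or_comm]
      · simp only [h1, h2, if_false, e1, e2, apply_ite σ, hσ2, map_zero]
        by_cases h3 : j = l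
        · subst h3
          have h4 : ¬ j = π j := fun h => h1 h.symm
          simp only [h4, if_false, if_true]
        · simp [h3]
  have hP : P.det ≠ 0 := by
    intro h0
    obtain ⟨v, hv, hv0⟩ := Matrix.exists_mulVec_eq_zero_iff.2 h0
    have hrow : ∀ j, π j ≠ j → j < π j → (v j + θ * v (π j) = 0) ∧ (v j + σ θ * v (π j) = 0) := by
      intro j hj hlt
      have key : ∀ r' : Fin n, r' = j ∨ r' = π j → ∑ l, P r' l * v l = P r' j * v j + P r' (π j) * v (π j) := by
        intro r' hr'
        refine Finset.sum_eq_add j (π j) hj.symm (fun l _ hl => ?_) (by simp) (by simp)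
        have : P r' l = 0 := by
          simp only [P, Matrix.of_apply]
          have a1 : r' ≠ l := by rcases hr' with h | h <;> rw [h] <;> [exact hl.1.symm; exact hl.2.symm]
          have a2 : r' ≠ π l := by
            rcases hr' with h | h <;> rw [h] <;> intro e
            · exact hl.2 (by rw [e, hπ])
            · exact hl.1 (by rw [← hπ l, ← e, hπ])
          simp [a1, a2]
        rw [this, zero_mul]
      have r1 := congrFun hv0 j
      have r2 := congrFun hv0 (π j)
      simp only [Matrix.mulVec, dotProduct, Pi.zero_apply] at r1 r2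
      rw [key _ (Or.inl rfl)] at r1
      rw [key _ (Or.inr rfl)] at r2
      simp [P, hπ, hj, hj.symm, hlt, not_lt.2 hlt.le] at r1 r2
      exact ⟨r1, r2⟩
    refine hv (funext fun j => ?_)
    rcases lt_trichotomy j (π j) with hlt | heq | hgt
    · obtain ⟨e1, e2⟩ := hrow j hlt.ne' hlt
      have h3 : v (π j) = 0 := (mul_eq_zero.1 (show (σ θ - θ) * v (π j) = 0 by linear_combination e2 - e1)).resolve_left
        (sub_ne_zero.2 hθσ)
      simpa [h3] using e1
    · have r1 := congrFun hv0 j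
      simp only [Matrix.mulVec, dotProduct, Pi.zero_apply] at r1
      rw [Finset.sum_eq_single j] at r1
      · simpa [P, heq.symm] using r1
      · intro l _ hl
        have a2 : j ≠ π l := fun e => hl (by rw [← hπ l, ← e, heq.symm])
        simp [P, hl.symm, a2]
      · simp
    · obtain ⟨e1, e2⟩ := hrow (π j) (by rw [hπ]; exact hgt.ne') (by rw [hπ]; exact hgt)
      rw [hπ] at e1 e2
      exact (mul_eq_zero.1 (show (σ θ - θ) * v j = 0 by linear_combination e2 - e1)).resolve_left
        (sub_ne_zero.2 hθσ)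
  set M := P⁻¹ * Matrix.diagonal a * P with hMdef
  have hPM : P * M = Matrix.diagonal a * P := by
    rw [hMdef, ← mul_assoc, ← mul_assoc, Matrix.mul_nonsing_inv _ (isUnit_iff_ne_zero.2 hP), one_mul]
  refine exists_conj_of_frame hn x (E * P) M (by rw [Matrix.det_mul]; exact mul_ne_zero hE hP)
    (by rw [← mul_assoc, hxE, mul_assoc, ← hPM, mul_assoc]) (fun y _ => ?_) hc fun i j => ?_
  · let i0 : Fin n := ⟨0, hn⟩
    refine ⟨E * Matrix.diagonal (Function.update 1 i0 y) * E⁻¹, ?_, ?_⟩
    · rw [Matrix.det_mul, Matrix.det_mul, Matrix.det_diagonal, mul_right_comm, ← Matrix.det_mul,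
        Matrix.mul_nonsing_inv _ (isUnit_iff_ne_zero.2 hE), Matrix.det_one, one_mul]
      simp [Finset.prod_update_of_mem (Finset.mem_univ _)]
    · have hEx : E⁻¹ * (x : Matrix (Fin n) (Fin n) F) = Matrix.diagonal a * E⁻¹ := by
        calc E⁻¹ * (x : Matrix (Fin n) (Fin n) F) = E⁻¹ * ((x : Matrix (Fin n) (Fin n) F) * E) * E⁻¹ := by
              rw [mul_assoc, mul_assoc, Matrix.mul_nonsing_inv _ (isUnit_iff_ne_zero.2 hE), mul_one]
          _ = Matrix.diagonal a * E⁻¹ := by
              rw [hxE, ← mul_assoc, Matrix.nonsing_inv_mul _ (isUnit_iff_ne_zero.2 hE), one_mul]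
      rw [mul_assoc (E * _) E⁻¹, hEx, ← mul_assoc, ← mul_assoc, hxE]
      simp only [mul_assoc]
      rw [← mul_assoc (Matrix.diagonal a), ← mul_assoc (Matrix.diagonal (Function.update 1 i0 y)) (Matrix.diagonal a),
        Matrix.diagonal_mul_diagonal, Matrix.diagonal_mul_diagonal]
      congr 3
      exact funext fun j => mul_comm _ _
  · have h1 : (c • M).map σ = c • M := by
      have h2 : P * (c • M) = Matrix.diagonal (fun j => c * a j) * P := by
        rw [mul_smul_comm, hPM, ← smul_mul_assoc, ← Matrix.diagonal_smul]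
        rfl
      have h3 : P.submatrix π id * (c • M).map σ = P.submatrix π id * (c • M) := by
        rw [← hPσ, ← Matrix.map_mul, h2, Matrix.map_mul, hPσ, Matrix.diagonal_map (map_zero σ)]
        ext i l
        rw [Matrix.diagonal_mul, Matrix.submatrix_apply, id_eq]
        have h4 : (P.submatrix π id * (c • M)) i l = (P * (c • M)) (π i) l := rfl
        rw [h4, h2, Matrix.diagonal_mul, hσ, ha]
      have hu : IsUnit (P.submatrix π id) := by
        rw [Matrix.isUnit_iff_isUnit_det, isUnit_iff_ne_zero, ← hPσ, ← RingHom.mapMatrix_apply, ← RingHom.map_det]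
        exact (map_ne_zero σ).2 hP
      exact hu.mul_left_cancel h3
    exact (hfix _).1 (congrFun (congrFun h1 i) j)

/-- A conjugate in the subfield group makes the spectrum of a diagonal element invariant. -/
theorem count_invariant [Fintype F] [DecidableEq F] {σ : F →+* F} (hfix : ∀ a, σ a = a ↔ a ∈ F₀)
    (x : Matrix.SpecialLinearGroup (Fin n) F) {a : Fin n → F} (hx : (x : Matrix (Fin n) (Fin n) F) = Matrix.diagonal a)
    {Q : Matrix.SpecialLinearGroup (Fin n) F}
    (hQ : Q⁻¹ * x * Q ∈ (Cfsg.Geo.subfieldSubgroup F₀ (1 : GL (Fin n) F)).comap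
      (Matrix.SpecialLinearGroup.toGL : Matrix.SpecialLinearGroup (Fin n) F →* GL (Fin n) F)) :
    ∃ t : F, t ≠ 0 ∧ ∀ v : F,
      (Finset.univ.filter fun j => a j = t * σ v).card = (Finset.univ.filter fun j => a j = v).card := by
  rw [Subgroup.mem_comap, mem_subfield_iff] at hQ
  obtain ⟨c, hc, hcF⟩ := hQ
  set Y := ((Q⁻¹ * x * Q : Matrix.SpecialLinearGroup (Fin n) F) : Matrix (Fin n) (Fin n) F) with hY
  have hmap : (c • Y).map σ = c • Y := Matrix.ext fun i j => (hfix _).2 (hcF i j)
  have hconj : (c • Y).charpoly = (Matrix.diagonal fun j => c * a j).charpoly := by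
    rw [hY, Matrix.SpecialLinearGroup.coe_mul, Matrix.SpecialLinearGroup.coe_mul, hx,
      show (Matrix.diagonal fun j => c * a j) = c • Matrix.diagonal a from (Matrix.diagonal_smul c a).trans rfl,
      ← smul_mul_assoc, ← mul_smul_comm]
    exact charpoly_conj_SL Q _
  have h1 := congrArg (Polynomial.map σ) hconj
  rw [← Matrix.charpoly_map, hmap, hconj, Matrix.charpoly_diagonal, Polynomial.map_prod] at h1
  simp only [Polynomial.map_sub, map_X, map_C] at h1
  have hroots : ∀ f : Fin n → F, (∏ j, (X - C (f j))).roots = Finset.univ.val.map f := fun f => by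
    rw [← roots_multiset_prod_X_sub_C (Finset.univ.val.map f), Multiset.map_map]
    rfl
  have h2 := congrArg Polynomial.roots h1
  rw [hroots, hroots] at h2
  refine ⟨σ c / c, div_ne_zero ((map_ne_zero σ).2 hc) hc, fun v => ?_⟩
  have h3 := congrArg (Multiset.count (σ (c * v))) h2
  rw [Multiset.count_map, Multiset.count_map] at h3
  have e1 : ∀ j, a j = σ c / c * σ v ↔ σ (c * v) = c * a j := fun j => by
    rw [map_mul, div_mul_eq_mul_div, eq_div_iff hc, mul_comm (a j)]; exact eq_comm
  have e2 : ∀ j, a j = v ↔ σ (c * v) = σ (c * a j) := fun j =>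
    ⟨fun e => by rw [e], fun e => (mul_left_cancel₀ hc (σ.injective e)).symm⟩
  simp only [Finset.card_def, Finset.filter_val, e1, e2]
  exact h3

/-- A diagonal element of the special linear group. -/
theorem exists_diag_elem [Fintype F] {r : ℕ} (a : Fin n → F) (ha : (∏ j, a j) = 1) (hr : ∀ j, a j ^ r = 1)
    {i j : Fin n} (hij : a i ≠ a j) :
    ∃ x : Matrix.SpecialLinearGroup (Fin n) F, (x : Matrix (Fin n) (Fin n) F) = Matrix.diagonal a ∧
      ((x ^ r : Matrix.SpecialLinearGroup (Fin n) F) : Matrix (Fin n) (Fin n) F) = (1 : F) • 1 ∧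
      ∀ z : F, (x : Matrix (Fin n) (Fin n) F) ≠ z • 1 := by
  obtain ⟨x, hx⟩ : ∃ x : Matrix.SpecialLinearGroup (Fin n) F, (x : Matrix (Fin n) (Fin n) F) = Matrix.diagonal a :=
    ⟨⟨Matrix.diagonal a, by rw [Matrix.det_diagonal, ha]⟩, rfl⟩
  refine ⟨x, hx, ?_, fun z hz => ?_⟩
  · rw [Matrix.SpecialLinearGroup.coe_pow, hx, one_smul]
    rw [Matrix.diagonal_pow, ← Matrix.diagonal_one]
    congr 1
    funext l
    simp [hr]
  · rw [hx] at hz
    have e1 := congrFun (congrFun hz i) i
    have e2 := congrFun (congrFun hz j) j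
    simp at e1 e2
    exact hij (e1.trans e2.symm)

/-- An irreducible block that does not descend. -/
theorem exists_bad_block [Fintype F] {r : ℕ} [Fact r.Prime] {σ : F →+* F} (hfix : ∀ a, σ a = a ↔ a ∈ F₀)
    (hr : (r : F) ≠ 0) (hrq : ¬ r ∣ Fintype.card F - 1) (hin : orderOf (Fintype.card F : ZMod r) ≤ n)
    (hne : orderOf (Fintype.card F : ZMod r) < orderOf (Nat.card F₀ : ZMod r)) :
    ∃ x : Matrix.SpecialLinearGroup (Fin n) F,
      (∃ z : F, ((x ^ r : Matrix.SpecialLinearGroup (Fin n) F) : Matrix (Fin n) (Fin n) F) = z • 1) ∧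
      (∀ z : F, (x : Matrix (Fin n) (Fin n) F) ≠ z • 1) ∧
      ∀ Q : Matrix.SpecialLinearGroup (Fin n) F,
        Q⁻¹ * x * Q ∉ (Cfsg.Geo.subfieldSubgroup F₀ (1 : GL (Fin n) F)).comap
          (Matrix.SpecialLinearGroup.toGL : Matrix.SpecialLinearGroup (Fin n) F →* GL (Fin n) F) := by
  classical
  haveI : Fintype F₀ := Fintype.ofFinite F₀
  set i := orderOf (Fintype.card F : ZMod r) with hidef
  have hr1 := (Fact.out : r.Prime)
  have hroot1 : ∀ y : F, y ^ r = 1 → y = 1 := fun y hy => by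
    have hy0 : y ≠ 0 := fun h => by rw [h, zero_pow hr1.ne_zero] at hy; exact zero_ne_one hy
    have h1 := pow_gcd_eq_one.2 ⟨hy, FiniteField.pow_card_sub_one_eq_one y hy0⟩
    rwa [(hr1.coprime_iff_not_dvd.2 hrq).gcd_eq_one, pow_one] at h1
  obtain ⟨g, hgm, hgirr, hgc⟩ := Polynomial.exists_monic_irreducible_factor (cyclotomic r F) (fun hu => by
    have h1 := natDegree_eq_zero_of_isUnit hu
    rw [natDegree_cyclotomic, Nat.totient_prime hr1] at h1
    have := hr1.two_le
    omega)
  have hgd : g ∣ X ^ r - C 1 := by rw [map_one]; exact hgc.trans (cyclotomic.dvd_X_pow_sub_one r F)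
  have hg1 : g ≠ X - C 1 := by
    rintro rfl
    haveI : NeZero (r : F) := ⟨hr⟩
    have h1 := (isRoot_cyclotomic_iff (μ := (1 : F))).1 (by
      obtain ⟨e, he⟩ := hgc
      rw [he, IsRoot.def, eval_mul]; simp)
    exact hr1.ne_one (h1.unique (IsPrimitiveRoot.one))
  have hgi : g.natDegree = i := natDegree_factor hgm hgirr one_ne_zero (by rw [one_pow]; exact hgd) hg1
  have hi2 : 2 ≤ i := by
    have h0 : 0 < i := hgi ▸ hgirr.natDegree_pos
    by_contra h
    exact hrq ((LargeSylow.dvd_sub_iff Fintype.card_pos 1).2 (by rw [← hidef, show i = 1 by omega]) |>.trans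
      (by rw [pow_one]))
  -- the block and the identity
  let s : Option (ULift.{u} (Fin (n - i))) → F[X] := fun o => o.elim g fun _ => X - C 1
  have hs : ∀ o, (s o).Monic := by rintro (_ | o) <;> [exact hgm; exact monic_X_sub_C 1]
  have hprod : ∏ o, s o = g * (X - C 1) ^ (n - i) := by
    rw [Fintype.prod_option]
    simp [s]
  have hnorm : (-1 : F) ^ i * g.coeff 0 = 1 := by
    haveI := Fact.mk hgirr
    refine hroot1 _ ?_
    have h1 := Algebra.PowerBasis.norm_gen_eq_coeff_zero_minpoly (AdjoinRoot.powerBasis hgm.ne_zero)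
    rw [AdjoinRoot.powerBasis_gen, AdjoinRoot.powerBasis_dim, AdjoinRoot.minpoly_root hgm.ne_zero, hgm.leadingCoeff,
      inv_one, map_one, mul_one, hgi] at h1
    have h2 : AdjoinRoot.root g ^ r = 1 := by
      have := AdjoinRoot.mk_eq_zero.2 hgd
      rwa [map_sub, map_pow, AdjoinRoot.mk_X, AdjoinRoot.mk_C, map_one, sub_eq_zero] at this
    rw [← h1, ← map_pow, h2, map_one]
  obtain ⟨x, Φ, hΦ⟩ := exists_sl_blocks (n := n) s hs (by
      rw [Fintype.sum_option]
      simp only [s, Option.elim, hgi, natDegree_X_sub_C, Finset.sum_const, Finset.card_univ, Fintype.card_ulift,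
        Fintype.card_fin, smul_eq_mul, mul_one]
      omega) (by
    rw [hprod, mul_coeff_zero, coeff_zero_eq_eval_zero ((X - C 1) ^ (n - i)), eval_pow]
    simp only [eval_sub, eval_X, eval_C, zero_sub]
    calc (-1 : F) ^ n * (g.coeff 0 * (-1) ^ (n - i)) = (-1) ^ i * g.coeff 0 * ((-1) ^ (n - i) * (-1) ^ (n - i)) := by
          conv_lhs => rw [show n = i + (n - i) by omega, pow_add, add_tsub_cancel_left]
          ring
      _ = 1 := by rw [hnorm, ← pow_add, Even.neg_one_pow ⟨_, rfl⟩, mul_one])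
  have hsd : ∀ o, s o ∣ X ^ r - C 1 := by
    rintro (_ | o)
    · exact hgd
    · exact ⟨∑ l ∈ Finset.range r, X ^ l, by rw [map_one]; exact (mul_geom_sum X r).symm⟩
  have hxr : ((x ^ r : Matrix.SpecialLinearGroup (Fin n) F) : Matrix (Fin n) (Fin n) F) = 1 := by
    refine Matrix.toLin'.injective ?_
    have h1 := aeval_eq_zero hΦ hsd
    rw [map_sub, map_pow, aeval_X, aeval_C, map_one, sub_eq_zero] at h1
    rw [Matrix.SpecialLinearGroup.coe_pow, Matrix.toLin'_pow, h1, Matrix.toLin'_one]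
    rfl
  refine ⟨x, ⟨1, by rw [hxr, one_smul]⟩, fun z hz => ?_, fun Q hQ => ?_⟩
  · have h1 : aeval (Matrix.toLin' (x : Matrix (Fin n) (Fin n) F)) (X - C z) = 0 := by
      rw [hz, map_sub, aeval_X, aeval_C, map_smul, Matrix.toLin'_one, Algebra.algebraMap_eq_smul_one, sub_eq_zero]
      rfl
    have h2 : g ∣ X - C z := dvd_of_aeval hΦ h1 none
    have h3 := natDegree_le_of_dvd h2 (X_sub_C_ne_zero z)
    rw [natDegree_X_sub_C, hgi] at h3
    omega
  rw [Subgroup.mem_comap, mem_subfield_iff] at hQ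
  obtain ⟨c, hc, hcF⟩ := hQ
  set Y := ((Q⁻¹ * x * Q : Matrix.SpecialLinearGroup (Fin n) F) : Matrix (Fin n) (Fin n) F) with hY
  have hYr : Y ^ r = 1 := by
    rw [hY, ← Matrix.SpecialLinearGroup.coe_pow, show Q⁻¹ * x * Q = Q⁻¹ * x * Q⁻¹⁻¹ by rw [inv_inv], conj_pow,
      inv_inv, Matrix.SpecialLinearGroup.coe_mul, Matrix.SpecialLinearGroup.coe_mul, hxr, mul_one,
      ← Matrix.SpecialLinearGroup.coe_mul, inv_mul_cancel, Matrix.SpecialLinearGroup.coe_one]
  haveI : Nonempty (Fin n) := ⟨⟨0, by omega⟩⟩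
  have hcfix : σ c = c := by
    let Z : Matrix (Fin n) (Fin n) F₀ := Matrix.of fun a b => ⟨c * Y a b, hcF a b⟩
    have hZ : Z.map F₀.subtype = c • Y := Matrix.ext fun _ _ => rfl
    let a0 : Fin n := ⟨0, by omega⟩
    have h1 := congrArg (fun A : Matrix (Fin n) (Fin n) F => A a0 a0) (Matrix.map_pow Z F₀.subtype r)
    rw [hZ, _root_.smul_pow, hYr] at h1
    simp at h1
    have h3 : σ (c ^ r) = c ^ r := (hfix _).2 (h1 ▸ ((Z ^ r) a0 a0).2)
    rw [map_pow] at h3
    have h4 := hroot1 (σ c / c) (by rw [div_pow, h3, div_self (pow_ne_zero _ hc)])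
    exact (div_eq_one_iff_eq hc).1 h4
  have hYF : ∀ a b, Y a b ∈ F₀ := fun a b => by
    have := F₀.mul_mem (F₀.inv_mem ((hfix c).1 hcfix)) (hcF a b)
    rwa [inv_mul_cancel_left₀ hc] at this
  let A : Matrix (Fin n) (Fin n) F₀ := Matrix.of fun a b => ⟨Y a b, hYF a b⟩
  have hA : A.map F₀.subtype = Y := Matrix.ext fun _ _ => rfl
  have hchi : A.charpoly.map F₀.subtype = g * (X - C 1) ^ (n - i) := by
    rw [← Matrix.charpoly_map, hA, ← hprod, ← charpoly_eq hΦ hs, Matrix.charpoly_toLin', hY,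
      Matrix.SpecialLinearGroup.coe_mul, Matrix.SpecialLinearGroup.coe_mul]
    exact charpoly_conj_SL Q _
  -- the factor over the subfield containing the block
  have hg0 := UniqueFactorizationMonoid.prod_normalizedFactors_eq (a := A.charpoly) (A.charpoly_monic.ne_zero)
  rw [A.charpoly_monic.normalize_eq_self] at hg0
  have h5 : g ∣ A.charpoly.map F₀.subtype := hchi ▸ dvd_mul_right _ _
  rw [← hg0, ← Polynomial.coe_mapRingHom, map_multiset_prod] at h5
  obtain ⟨_, hh, hgh⟩ := hgirr.prime.exists_mem_multiset_dvd h5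
  obtain ⟨h, hmem, rfl⟩ := Multiset.mem_map.1 hh
  rw [Polynomial.coe_mapRingHom] at hgh
  have hhirr := UniqueFactorizationMonoid.irreducible_of_normalized_factor h hmem
  have hhm : h.Monic := by
    rw [← UniqueFactorizationMonoid.normalize_normalized_factor h hmem]
    exact Polynomial.monic_normalize hhirr.ne_zero
  have hP0 : (X ^ r - C 1 : F₀[X]).map F₀.subtype = X ^ r - C 1 := by
    rw [Polynomial.map_sub, Polynomial.map_pow, map_X, map_C, map_one]
  have hhd : h ∣ X ^ r - C 1 := by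
    by_contra hnd
    have h6 := ((hhirr.coprime_iff_not_dvd).2 hnd).map (Polynomial.mapRingHom F₀.subtype)
    rw [Polynomial.coe_mapRingHom, hP0] at h6
    exact hgirr.not_isUnit (h6.isUnit_of_dvd' hgh hgd)
  have hh1 : h ≠ X - C 1 := by
    rintro rfl
    rw [Polynomial.map_sub, map_X, map_C, map_one] at hgh
    exact hg1 (eq_of_monic_of_associated hgm (monic_X_sub_C 1) (hgirr.associated_of_dvd (irreducible_X_sub_C 1) hgh))
  have hhi := natDegree_factor hhm hhirr (one_ne_zero (α := F₀)) (by rw [one_pow]; exact hhd) hh1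
  rw [← Nat.card_eq_fintype_card] at hhi
  have hco : IsCoprime (h.map F₀.subtype) ((X - C 1) ^ (n - i)) := by
    refine IsCoprime.pow_right ?_
    have h7 : IsCoprime h (X - C 1) := (hhirr.coprime_iff_not_dvd).2 fun hd => hh1
      (eq_of_monic_of_associated hhm (monic_X_sub_C 1) (hhirr.associated_of_dvd (irreducible_X_sub_C 1) hd))
    have h8 := h7.map (Polynomial.mapRingHom F₀.subtype)
    rwa [Polynomial.coe_mapRingHom, Polynomial.map_sub, map_X, map_C, map_one] at h8
  have h9 : h.map F₀.subtype ∣ g := hco.dvd_of_dvd_mul_right (hchi ▸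
    Polynomial.map_dvd _ (UniqueFactorizationMonoid.dvd_of_mem_normalizedFactors hmem))
  have h10 := natDegree_le_of_dvd h9 hgm.ne_zero
  rw [natDegree_map, hhi, hgi] at h10
  omega

end Cfsg.Agent.Classical.Elusive
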